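import Groth.Agent.Lib.Lead.SC.MV
import Groth.Agent.Lib.Lead.QC.Coprime
import Groth.Prelude.Def_Coh
import Mathlib.Topology.Sheaves.MayerVietoris

/-! # Vanishing of the cohomology of quasi-coherent modules on affine opens. -/

universe u
open CategoryTheory Limits Opposite Abelian TopologicalSpace AlgebraicGeometry

namespace Groth.Agent.LD.SC

section Top
variable {T : TopCat.{u}} [HasExt.{u} (Sheaf (Opens.grothendieckTopology T) AddCommGrpCat.{u})]

lemma subsingleton_obj_bot (F : Sheaf (Opens.grothendieckTopology T) AddCommGrpCat.{u}) :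
    Subsingleton (F.obj.obj (op (⊥ : Opens T))) := by
  have hT := TopCat.Sheaf.isTerminalOfEmpty F
  have : IsZero (F.obj.obj (op (⊥ : Opens T))) :=
    IsZero.of_iso (isZero_zero _) (hT.uniqueUpToIso HasZeroObject.zeroIsTerminal)
  exact AddCommGrpCat.subsingleton_of_isZero this

lemma isZero_ZU_bot : IsZero (ZU (Opens.grothendieckTopology T) (⊥ : Opens T)) := by
  rw [IsZero.iff_id_eq_zero]
  apply (homEquiv (⊥ : Opens T) _).injective
  haveI := subsingleton_obj_bot (ZU (Opens.grothendieckTopology T) (⊥ : Opens T))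
  exact Subsingleton.elim _ _

lemma ext_bot_eq_zero {F : Sheaf (Opens.grothendieckTopology T) AddCommGrpCat.{u}} {n : ℕ}
    (ξ : Ext (ZU (Opens.grothendieckTopology T) (⊥ : Opens T)) F n) : ξ = 0 := by
  have h : ξ = (Ext.mk₀ (𝟙 _)).comp ξ (zero_add n) := by simp
  rw [h, isZero_ZU_bot.eq_of_src (𝟙 _) 0, Ext.mk₀_zero, Ext.zero_comp]

end Top

end Groth.Agent.LD.SC

namespace Groth.Agent.LD.SC

section Scheme
variable {X : Scheme.{u}}

/-- the Zariski topology of a scheme as a Grothendieck topology. -/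
abbrev JX (X : Scheme.{u}) : GrothendieckTopology X.Opens := Opens.grothendieckTopology X

lemma Hres_trans {F : Sheaf (JX X) AddCommGrpCat.{u}} {n : ℕ} {U V W : X.Opens} (h1 : V ≤ U)
    (h2 : W ≤ V) (ξ : Ext (ZU (JX X) U) F n) :
    Hres (homOfLE (h2.trans h1)) ξ = Hres (homOfLE h2) (Hres (homOfLE h1) ξ) := by
  rw [← Hres_comp]
  rfl

lemma Hres_eq_zero_of_le {F : Sheaf (JX X) AddCommGrpCat.{u}} {n : ℕ} {U V W : X.Opens}
    (h1 : V ≤ U) (h2 : W ≤ V) (ξ : Ext (ZU (JX X) U) F n) (h : Hres (homOfLE h1) ξ = 0)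
    (h3 : W ≤ U) : Hres (homOfLE h3) ξ = 0 := by
  have := Hres_trans h1 h2 ξ
  rw [h, Hres_zero] at this
  exact this

lemma eq_bot_of_span_empty {U : X.Opens} (h : Ideal.span (∅ : Set Γ(X, U)) = ⊤) : U = ⊥ := by
  rw [Ideal.span_empty] at h
  haveI : Subsingleton Γ(X, U) := by
    have h10 : (1 : Γ(X, U)) ∈ (⊥ : Ideal Γ(X, U)) := by rw [h]; trivial
    exact subsingleton_of_zero_eq_one ((Ideal.mem_bot.mp h10).symm)
  have h1 : X.basicOpen (1 : Γ(X, U)) = U := X.basicOpen_of_isUnit isUnit_one
  have h0 : X.basicOpen (0 : Γ(X, U)) = ⊥ := X.basicOpen_zero U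
  rw [← h1, Subsingleton.elim (1 : Γ(X, U)) 0, h0]

set_option maxHeartbeats 1600000 in
/-- the inductive step: a class on an affine open vanishing on a finite standard cover
vanishes. -/
theorem ext_eq_zero_of_finset (M : X.Modules) [M.IsQuasicoherent] (p : ℕ)
    (hprev : 0 < p → ∀ U : X.Opens, IsAffineOpen U →
      Subsingleton (Ext (ZU (JX X) U) (Coh.toAb M) p)) :
    ∀ (n : ℕ) (U : X.Opens) (_ : IsAffineOpen U) (ξ : Ext (ZU (JX X) U) (Coh.toAb M) (p + 1))
      (s : Finset Γ(X, U)), s.card ≤ n → Ideal.span (s : Set Γ(X, U)) = ⊤ →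
      (∀ f ∈ s, Hres (homOfLE (X.basicOpen_le f)) ξ = 0) → ξ = 0 := by
  classical
  intro n
  induction n with
  | zero =>
    intro U hU ξ s hs hspan _
    obtain rfl : s = ∅ := Finset.card_eq_zero.mp (Nat.le_zero.mp hs)
    rw [Finset.coe_empty] at hspan
    obtain rfl := eq_bot_of_span_empty hspan
    exact ext_bot_eq_zero ξ
  | succ n ih =>
    intro U hU ξ s hs hspan hξ
    rcases s.eq_empty_or_nonempty with rfl | ⟨a, ha⟩
    · rw [Finset.coe_empty] at hspan
      obtain rfl := eq_bot_of_span_empty hspan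
      exact ext_bot_eq_zero ξ
    have hins : insert a (s.erase a) = s := Finset.insert_erase ha
    have h1 : (1 : Γ(X, U)) ∈ Ideal.span (insert a ((s.erase a : Finset Γ(X, U)) : Set Γ(X, U))) := by
      rw [← Finset.coe_insert, hins, hspan]; trivial
    obtain ⟨c, z, hz, hcz⟩ := Ideal.mem_span_insert.mp h1
    set g := c * a with hg
    have hgh : g + z = 1 := hcz.symm
    -- the three opens
    have hVW_V : X.basicOpen (g * z) ≤ X.basicOpen g := by
      rw [X.basicOpen_mul]; exact inf_le_left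
    have hVW_W : X.basicOpen (g * z) ≤ X.basicOpen z := by
      rw [X.basicOpen_mul]; exact inf_le_right
    have h₄ : U = X.basicOpen g ⊔ X.basicOpen z := by
      apply le_antisymm
      · intro x hx
        have hsum : X.presheaf.germ U x hx g + X.presheaf.germ U x hx z = 1 := by
          rw [← map_add, hgh, map_one]
        rcases IsLocalRing.isUnit_or_isUnit_of_add_one hsum with hu | hu
        · exact Or.inl ((X.mem_basicOpen g x hx).mpr hu)
        · exact Or.inr ((X.mem_basicOpen z x hx).mpr hu)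
      · exact sup_le (X.basicOpen_le g) (X.basicOpen_le z)
    let sq : Square X.Opens :=
      { X₁ := X.basicOpen (g * z)
        X₂ := X.basicOpen g
        X₃ := X.basicOpen z
        X₄ := U
        f₁₂ := homOfLE hVW_V
        f₁₃ := homOfLE hVW_W
        f₂₄ := homOfLE (X.basicOpen_le g)
        f₃₄ := homOfLE (X.basicOpen_le z)
        fac := Subsingleton.elim _ _ }
    let S := Opens.mayerVietorisSquare' sq h₄ (X.basicOpen_mul g z)
    -- vanishing on `D(g)`
    have hV0 : Hres (homOfLE (X.basicOpen_le g)) ξ = 0 := by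
      have hle : X.basicOpen g ≤ X.basicOpen a := by
        rw [hg, X.basicOpen_mul]; exact inf_le_right
      exact Hres_eq_zero_of_le (X.basicOpen_le a) hle ξ (hξ a ha) _
    -- vanishing on `D(z)`
    have hW0 : Hres (homOfLE (X.basicOpen_le z)) ξ = 0 := by
      let ρ := (X.presheaf.map (homOfLE (X.basicOpen_le z)).op).hom
      apply ih (X.basicOpen z) (hU.basicOpen z) _ ((s.erase a).image ρ)
      · refine Finset.card_image_le.trans ?_
        rw [Finset.card_erase_of_mem ha]
        omega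
      · rw [Finset.coe_image, ← Ideal.map_span]
        exact Ideal.eq_top_of_isUnit_mem _ (Ideal.mem_map_of_mem ρ hz)
          (X.toRingedSpace.isUnit_res_basicOpen z)
      · intro f' hf'
        obtain ⟨f, hf, rfl⟩ := Finset.mem_image.mp hf'
        have hfs : f ∈ s := Finset.mem_of_mem_erase hf
        have hle : X.basicOpen (ρ f) ≤ X.basicOpen f := by
          have := X.basicOpen_res f (homOfLE (X.basicOpen_le z)).op
          change X.basicOpen (ρ f) = _ at this
          rw [this]; exact inf_le_right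
        rw [← Hres_trans]
        exact Hres_eq_zero_of_le (X.basicOpen_le f) hle ξ (hξ f hfs) _
    -- conclusion by Mayer–Vietoris
    cases p with
    | zero =>
      apply MV_eq_zero_one S (Coh.toAb M) ξ hV0 hW0
      intro t
      exact QC.exists_sub_eq_of_add_eq_one M hU g z hgh rfl hVW_V hVW_W t
    | succ p' =>
      exact MV_eq_zero_succ S (Coh.toAb M) p' ξ hV0 hW0
        (hprev (Nat.succ_pos _) _ (hU.basicOpen (g * z)))

/-- **Serre vanishing on affine opens**: the higher cohomology of a quasi-coherent module over an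
affine open vanishes. -/
theorem subsingleton_ext_of_isAffineOpen (M : X.Modules) [M.IsQuasicoherent] :
    ∀ (p : ℕ) (U : X.Opens), IsAffineOpen U →
      Subsingleton (Ext (ZU (JX X) U) (Coh.toAb M) (p + 1)) := by
  intro p
  induction p using Nat.strong_induction_on with
  | _ p ih =>
    intro U hU
    have hprev : 0 < p → ∀ U : X.Opens, IsAffineOpen U →
        Subsingleton (Ext (ZU (JX X) U) (Coh.toAb M) p) := by
      intro hp V hV
      obtain ⟨q, rfl⟩ := Nat.exists_eq_succ_of_ne_zero hp.ne'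
      exact ih q (Nat.lt_succ_self q) V hV
    refine subsingleton_of_forall_eq 0 fun ξ => ?_
    obtain ⟨S, hS, hS0⟩ := exists_sieve_Hres_eq_zero p (Coh.toAb M) ξ
    have hcov : ∀ x : U, ∃ (V : X.Opens) (f : V ⟶ U), S f ∧ x.1 ∈ V := fun x => hS x.1 x.2
    choose V f hSf hxV using hcov
    have hbas : ∀ x : U, ∃ r : Γ(X, U), X.basicOpen r ≤ V x ∧ x.1 ∈ X.basicOpen r := fun x =>
      hU.exists_basicOpen_le (V := V x) ⟨x.1, hxV x⟩ x.2
    choose r hrV hxr using hbas
    have hspan : Ideal.span (Set.range r) = ⊤ := by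
      rw [← hU.self_le_iSup_basicOpen_iff]
      intro x hx
      exact Opens.mem_iSup.mpr ⟨⟨r ⟨x, hx⟩, Set.mem_range_self _⟩, hxr ⟨x, hx⟩⟩
    obtain ⟨s', hs's, hs'⟩ := (Ideal.span_eq_top_iff_finite _).mp hspan
    apply ext_eq_zero_of_finset M p hprev s'.card U hU ξ s' le_rfl hs'
    intro g hg
    obtain ⟨x, rfl⟩ := hs's hg
    have h0 : Hres (homOfLE (leOfHom (f x))) ξ = 0 := by
      have : homOfLE (leOfHom (f x)) = f x := Subsingleton.elim _ _
      rw [this]; exact hS0 (f x) (hSf x)
    exact Hres_eq_zero_of_le (leOfHom (f x)) (hrV x) ξ h0 _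

end Scheme

end Groth.Agent.LD.SC
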