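import Groth.Agent.Lib.Lead.SC.Basic

/-! # Global cohomology `Sheaf.H` versus cohomology over a terminal object. -/

universe w v u
open CategoryTheory Limits Opposite Abelian

namespace Groth.Agent.LD.SC

variable {C : Type u} [Category.{v} C] {J : GrothendieckTopology C}
  [HasSheafify J AddCommGrpCat.{v}] [HasExt.{w} (Sheaf J AddCommGrpCat.{v})]
  {T : C} (hT : IsTerminal T)

/-- the constant sheaf `ℤ`. -/
noncomputable abbrev constZ (J : GrothendieckTopology C) [HasSheafify J AddCommGrpCat.{v}] :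
    Sheaf J AddCommGrpCat.{v} :=
  (constantSheaf J AddCommGrpCat.{v}).obj (AddCommGrpCat.of (ULift ℤ))

/-- `Hom(ℤ, F) ≃ F(T)`. -/
noncomputable def constEquiv (F : Sheaf J AddCommGrpCat.{v}) : (constZ J ⟶ F) ≃ F.obj.obj (op T) :=
  (Ext.addEquiv₀ (X := constZ J) (Y := F)).symm.toEquiv.trans (Sheaf.H.equiv₀ F hT).toEquiv

lemma constEquiv_comp {F G : Sheaf J AddCommGrpCat.{v}} (φ : constZ J ⟶ F) (ψ : F ⟶ G) :
    constEquiv hT G (φ ≫ ψ) = ψ.hom.app (op T) (constEquiv hT F φ) := by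
  change Sheaf.H.equiv₀ G hT (Ext.mk₀ (φ ≫ ψ)) = ψ.hom.app (op T) (Sheaf.H.equiv₀ F hT (Ext.mk₀ φ))
  rw [Sheaf.H.equiv₀_naturality, Sheaf.H.map_apply, Ext.mk₀_comp_mk₀]

/-- `ℤ_T ≅ ℤ` for a terminal object `T`. -/
noncomputable def ZUIsoConst : ZU J T ≅ constZ J where
  hom := (homEquiv T (constZ J)).symm (constEquiv hT (constZ J) (𝟙 _))
  inv := (constEquiv hT (ZU J T)).symm (gen T)
  hom_inv_id := by
    apply (homEquiv T (ZU J T)).injective
    rw [homEquiv_comp, Equiv.apply_symm_apply, ← constEquiv_comp, Category.id_comp,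
      Equiv.apply_symm_apply]
    rfl
  inv_hom_id := by
    apply (constEquiv hT (constZ J)).injective
    rw [constEquiv_comp, Equiv.apply_symm_apply, ← homEquiv_apply, Equiv.apply_symm_apply]

/-- global cohomology is cohomology over the terminal object. -/
noncomputable def HEquiv (F : Sheaf J AddCommGrpCat.{v}) (n : ℕ) :
    Sheaf.H F n ≃+ Ext (ZU J T) F n where
  toFun x := (Ext.mk₀ (ZUIsoConst hT).hom).comp x (zero_add n)
  invFun y := (Ext.mk₀ (ZUIsoConst hT).inv).comp y (zero_add n)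
  left_inv x := by
    change (Ext.mk₀ _).comp ((Ext.mk₀ _).comp x _) _ = x
    rw [← Ext.comp_assoc_of_second_deg_zero, Ext.mk₀_comp_mk₀, Iso.inv_hom_id, Ext.mk₀_id_comp]
  right_inv y := by
    change (Ext.mk₀ _).comp ((Ext.mk₀ _).comp y _) _ = y
    rw [← Ext.comp_assoc_of_second_deg_zero, Ext.mk₀_comp_mk₀, Iso.hom_inv_id, Ext.mk₀_id_comp]
  map_add' x y := Ext.comp_add _ _ _ _

include hT in
lemma subsingleton_H_of_subsingleton_ext (F : Sheaf J AddCommGrpCat.{v}) (n : ℕ)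
    (h : Subsingleton (Ext (ZU J T) F n)) : Subsingleton (Sheaf.H F n) :=
  (HEquiv hT F n).toEquiv.subsingleton

end Groth.Agent.LD.SC
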