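import Groth.Agent.Lib.Lead.SC.Leray
import Groth.Agent.Lib.Lead.SC.Global
import Groth.Agent.Lib.Lead.SC.Affine
import Groth.Agent.Lib.Lead.QC.Push
import Groth.Agent.Lib.Lead.QC.Closure
import Groth.Agent.Lib.Lead.QC.Compact

/-! # Effaceability of the cohomology of quasi-coherent modules (affine diagonal). -/

universe w v u
open CategoryTheory Limits Opposite Abelian TopologicalSpace AlgebraicGeometry

namespace Groth.Agent.LD.SC

section General
variable {A : Type u} [Category.{v} A] [Abelian A] [HasExt.{w} A]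

lemma subsingleton_ext_biprod (Z P Q : A) (n : ℕ) (hP : Subsingleton (Ext Z P n))
    (hQ : Subsingleton (Ext Z Q n)) : Subsingleton (Ext Z (P ⊞ Q) n) := by
  refine ⟨fun a b => ?_⟩
  suffices h : ∀ x : Ext Z (P ⊞ Q) n, x = 0 by rw [h a, h b]
  intro x
  have h : x = x.comp (Ext.mk₀ (𝟙 (P ⊞ Q))) (add_zero n) := by simp
  rw [h, ← biprod.total, Ext.mk₀_add, Ext.comp_add, ← Ext.mk₀_comp_mk₀, ← Ext.mk₀_comp_mk₀,
    ← Ext.comp_assoc_of_third_deg_zero, ← Ext.comp_assoc_of_third_deg_zero,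
    Subsingleton.elim (x.comp (Ext.mk₀ biprod.fst) (add_zero n)) 0,
    Subsingleton.elim (x.comp (Ext.mk₀ biprod.snd) (add_zero n)) 0]
  simp

end General

end Groth.Agent.LD.SC

namespace Groth.Agent.LD.SC

section Modules
variable {X : Scheme.{u}}

lemma subsingleton_ext_toAb_biprod (Z : Sheaf (JX X) AddCommGrpCat.{u}) (F G : X.Modules) (n : ℕ)
    (hF : Subsingleton (Ext Z (Coh.toAb F) n)) (hG : Subsingleton (Ext Z (Coh.toAb G) n)) :
    Subsingleton (Ext Z (Coh.toAb (F ⊞ G)) n) := by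
  refine ⟨fun a b => ?_⟩
  suffices h : ∀ x : Ext Z (Coh.toAb (F ⊞ G)) n, x = 0 by rw [h a, h b]
  intro x
  have key : 𝟙 (Coh.toAb (F ⊞ G)) =
      (SheafOfModules.toSheaf X.ringCatSheaf).map (biprod.fst : F ⊞ G ⟶ F) ≫
        (SheafOfModules.toSheaf X.ringCatSheaf).map (biprod.inl : F ⟶ F ⊞ G) +
      (SheafOfModules.toSheaf X.ringCatSheaf).map (biprod.snd : F ⊞ G ⟶ G) ≫
        (SheafOfModules.toSheaf X.ringCatSheaf).map (biprod.inr : G ⟶ F ⊞ G) := by
    refine ((SheafOfModules.toSheaf X.ringCatSheaf).map_id _).symm.trans ?_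
    refine (congrArg (fun φ => (SheafOfModules.toSheaf X.ringCatSheaf).map φ)
      (biprod.total (X := F) (Y := G)).symm).trans ?_
    refine ((SheafOfModules.toSheaf X.ringCatSheaf).map_add).trans ?_
    exact congrArg₂ (· + ·) ((SheafOfModules.toSheaf X.ringCatSheaf).map_comp _ _)
      ((SheafOfModules.toSheaf X.ringCatSheaf).map_comp _ _)
  have h : x = x.comp (Ext.mk₀ (𝟙 (Coh.toAb (F ⊞ G)))) (add_zero n) := by simp
  rw [h, key, Ext.mk₀_add, Ext.comp_add, ← Ext.mk₀_comp_mk₀, ← Ext.mk₀_comp_mk₀,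
    ← Ext.comp_assoc_of_third_deg_zero, ← Ext.comp_assoc_of_third_deg_zero,
    Subsingleton.elim (x.comp (Ext.mk₀ ((SheafOfModules.toSheaf X.ringCatSheaf).map
      (biprod.fst : F ⊞ G ⟶ F))) (add_zero n)) 0,
    Subsingleton.elim (x.comp (Ext.mk₀ ((SheafOfModules.toSheaf X.ringCatSheaf).map
      (biprod.snd : F ⊞ G ⟶ G))) (add_zero n)) 0]
  simp

lemma qc_biprod (F G : X.Modules) (hF : F.IsQuasicoherent) (hG : G.IsQuasicoherent) :
    (F ⊞ G).IsQuasicoherent := by
  refine QC.qc_of_iso (biprod.isoCoprod F G).symm ?_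
  exact QC.qc_finColimit (pair F G) (by rintro ⟨_ | _⟩ <;> assumption)

/-- `j_* (M|_U)`. -/
noncomputable abbrev pushRes (M : X.Modules) (U : X.Opens) : X.Modules :=
  (Scheme.Modules.pushforward U.ι).obj (M.restrict U.ι)

/-- the unit `M ⟶ j_* (M|_U)`. -/
noncomputable abbrev toPushRes (M : X.Modules) (U : X.Opens) : M ⟶ pushRes M U :=
  (Scheme.Modules.restrictAdjunction U.ι).unit.app M

lemma toPushRes_app_injective (M : X.Modules) {U V : X.Opens} (h : V ≤ U) :
    Function.Injective ((toPushRes M U).app V) := by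
  have h1 : U.ι ''ᵁ (U.ι ⁻¹ᵁ V) = V := by
    rw [Scheme.Hom.image_preimage_eq_opensRange_inf, Scheme.Opens.opensRange_ι]
    exact inf_eq_right.mpr h
  exact QC.res_injective_of_le_of_le M (U.ι.image_preimage_le V) h1.ge

lemma isAffineHom_ι (hd : ∀ V W : X.Opens, IsAffineOpen V → IsAffineOpen W → IsAffineOpen (V ⊓ W))
    {U : X.Opens} (hU : IsAffineOpen U) : IsAffineHom U.ι := by
  refine ⟨fun V hV => ?_⟩
  rw [← Scheme.Hom.isAffineOpen_iff_of_isOpenImmersion U.ι,
    Scheme.Hom.image_preimage_eq_opensRange_inf, Scheme.Opens.opensRange_ι]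
  exact hd U V hU hV

end Modules

end Groth.Agent.LD.SC

namespace Groth.Agent.LD.SC

section Efface
variable {X : Scheme.{u}}

lemma comp_app_apply {M N P : X.Modules} (f : M ⟶ N) (g : N ⟶ P) (V : X.Opens) (x : Γ(M, V)) :
    (f ≫ g).app V x = g.app V (f.app V x) := rfl

/-- `j_*(M|_U)` is acyclic when `U` is affine and `j` is an affine morphism. -/
theorem subsingleton_ext_pushRes (M : X.Modules) [M.IsQuasicoherent] {U : X.Opens}
    (hU : IsAffineOpen U) [IsAffineHom U.ι] (p : ℕ) :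
    Subsingleton (Ext (ZU (JX X) ⊤) (Coh.toAb (pushRes M U)) (p + 1)) := by
  have hb : Opens.IsBasis {V : X.Opens | IsAffineOpen V} := X.isBasis_affineOpens
  haveI : (M.restrict U.ι).IsQuasicoherent := inferInstance
  obtain ⟨e⟩ := leray U.ι.base {V : X.Opens | IsAffineOpen V} hb (p + 1)
    (Coh.toAb (M.restrict U.ι))
    (fun V hV j => subsingleton_ext_of_isAffineOpen (M.restrict U.ι) j (U.ι ⁻¹ᵁ V)
      (hV.preimage U.ι)) ⊤
  haveI : IsAffine ↑U := hU
  have h0 : Subsingleton (Ext (ZU (JX ↑U) (U.ι ⁻¹ᵁ ⊤)) (Coh.toAb (M.restrict U.ι)) (p + 1)) :=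
    subsingleton_ext_of_isAffineOpen (M.restrict U.ι) p (U.ι ⁻¹ᵁ ⊤) (isAffineOpen_top _)
  exact e.symm.toEquiv.subsingleton

/-- **effaceability**: on a quasi-compact scheme with affine diagonal, every quasi-coherent
module embeds into an acyclic quasi-coherent module. -/
theorem exists_mono_acyclic [CompactSpace X]
    (hd : ∀ V W : X.Opens, IsAffineOpen V → IsAffineOpen W → IsAffineOpen (V ⊓ W))
    (M : X.Modules) [M.IsQuasicoherent] :
    ∃ (M' : X.Modules) (i : M ⟶ M'), Mono i ∧ M'.IsQuasicoherent ∧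
      ∀ p : ℕ, Subsingleton (Ext (ZU (JX X) ⊤) (Coh.toAb M') (p + 1)) := by
  classical
  -- the inductive construction
  have key : ∀ s : Finset X.Opens, (∀ U ∈ s, IsAffineOpen U) →
      ∃ (M' : X.Modules) (i : M ⟶ M'), M'.IsQuasicoherent ∧
        (∀ p : ℕ, Subsingleton (Ext (ZU (JX X) ⊤) (Coh.toAb M') (p + 1))) ∧
        ∀ U ∈ s, ∀ V : X.Opens, V ≤ U → Function.Injective (i.app V) := by
    intro s
    induction s using Finset.induction_on with
    | empty =>
      intro _
      haveI := isAffineHom_ι hd (isAffineOpen_bot X)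
      haveI : QuasiCompact (⊥ : X.Opens).ι := inferInstance
      refine ⟨pushRes M ⊥, toPushRes M ⊥, QC.qc_pushforward _ _,
        fun p => subsingleton_ext_pushRes M (isAffineOpen_bot X) p, ?_⟩
      intro U hU
      simp at hU
    | insert a s ha ih =>
      intro hs
      obtain ⟨M', i, hq, hac, hinj⟩ := ih (fun U hU => hs U (Finset.mem_insert_of_mem hU))
      have haff : IsAffineOpen a := hs a (Finset.mem_insert_self a s)
      haveI := isAffineHom_ι hd haff
      haveI : QuasiCompact a.ι := inferInstance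
      refine ⟨M' ⊞ pushRes M a, biprod.lift i (toPushRes M a),
        qc_biprod _ _ hq (QC.qc_pushforward _ _),
        fun p => subsingleton_ext_toAb_biprod _ _ _ _ (hac p) (subsingleton_ext_pushRes M haff p),
        ?_⟩
      intro U hU V hVU x y hxy
      rcases Finset.mem_insert.mp hU with rfl | hU
      · apply toPushRes_app_injective M hVU
        have := congrArg ((biprod.snd : M' ⊞ pushRes M U ⟶ pushRes M U).app V) hxy
        rw [← comp_app_apply, ← comp_app_apply, biprod.lift_snd] at this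
        exact this
      · apply hinj U hU V hVU
        have := congrArg ((biprod.fst : M' ⊞ pushRes M a ⟶ M').app V) hxy
        rw [← comp_app_apply, ← comp_app_apply, biprod.lift_fst] at this
        exact this
  obtain ⟨t, ht, e⟩ := (isCompact_and_isOpen_iff_finite_and_eq_biUnion_affineOpens
    (X := X) (U := Set.univ)).mp ⟨isCompact_univ, isOpen_univ⟩
  obtain ⟨M', i, hq, hac, hinj⟩ := key (ht.toFinset.image (fun U => U.1)) (by
    intro U hU
    obtain ⟨U', -, rfl⟩ := Finset.mem_image.mp hU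
    exact U'.2)
  refine ⟨M', i, ?_, hq, hac⟩
  have hall : ∀ W : X.Opens, Function.Injective (i.app W) := by
    intro W x y hxy
    refine TopCat.Sheaf.eq_of_locally_eq' ⟨_, M.isSheaf⟩ (fun U : t => W ⊓ U.1.1) W
      (fun U => homOfLE inf_le_left) ?_ x y ?_
    · intro z hz
      have hz' : z ∈ (Set.univ : Set X) := trivial
      rw [e] at hz'
      obtain ⟨U, hU, hzU⟩ := Set.mem_iUnion₂.mp hz'
      exact Opens.mem_iSup.mpr ⟨⟨U, hU⟩, hz, hzU⟩
    · intro U
      apply hinj U.1.1 (Finset.mem_image.mpr ⟨U.1, ht.mem_toFinset.mpr U.2, rfl⟩)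
        (W ⊓ U.1.1) inf_le_right
      have h1 := QC.app_res i (inf_le_left : W ⊓ U.1.1 ≤ W) x
      have h2 := QC.app_res i (inf_le_left : W ⊓ U.1.1 ≤ W) y
      exact h1.trans ((congrArg _ hxy).trans h2.symm)
  haveI : Mono ((Scheme.Modules.toPresheaf X).map i) := by
    haveI : ∀ U, Mono (((Scheme.Modules.toPresheaf X).map i).app U) := fun U =>
      (AddCommGrpCat.mono_iff_injective _).mpr (hall U.unop)
    exact NatTrans.mono_of_mono_app _
  exact Functor.mono_of_mono_map (Scheme.Modules.toPresheaf X) inferInstance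

end Efface

end Groth.Agent.LD.SC
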