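import Mathlib.CategoryTheory.Abelian.Injective.Ext
import Mathlib.GroupTheory.QuotientGroup.Basic

/-! # Transporting `Ext` groups along isomorphisms of `Hom`-complexes into injective resolutions. -/

universe w w' v v' u u'
open CategoryTheory Limits Abelian

namespace Groth.Agent.LD.SC

section
variable {C : Type u} [Category.{v} C] [Abelian C] [HasExt.{w} C]
  {Y : C} (R : InjectiveResolution Y) (X : C)

/-- postcomposition with the differential. -/
def postD (n : ℕ) : (X ⟶ R.cocomplex.X n) →+ (X ⟶ R.cocomplex.X (n+1)) where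
  toFun f := f ≫ R.cocomplex.d n (n+1)
  map_zero' := zero_comp
  map_add' _ _ := Preadditive.add_comp _ _ _ _ _ _

/-- the map from cocycles to `Ext`. -/
noncomputable def toExt (n : ℕ) : (postD R X n).ker →+ Ext X Y n where
  toFun f := R.extMk f.1 (n+1) rfl f.2
  map_zero' := R.extMk_zero (n+1) rfl
  map_add' f g := (R.add_extMk f.1 g.1 (n+1) rfl f.2 g.2).symm

lemma toExt_surjective (n : ℕ) : Function.Surjective (toExt R X n) := by
  intro α
  obtain ⟨f, hf, rfl⟩ := R.extMk_surjective α (n+1) rfl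
  exact ⟨⟨f, hf⟩, rfl⟩

lemma toExt_eq_zero_iff (n : ℕ) (f : (postD R X (n+1)).ker) :
    toExt R X (n+1) f = 0 ↔ ∃ g : X ⟶ R.cocomplex.X n, postD R X n g = f.1 :=
  R.extMk_eq_zero_iff f.1 (n+1+1) rfl f.2 n rfl

end

variable {C : Type u} [Category.{v} C] [Abelian C] [HasExt.{w} C]
  {C' : Type u'} [Category.{v'} C'] [Abelian C'] [HasExt.{w'} C']
  {Y : C} (R : InjectiveResolution Y) (X : C)
  {Y' : C'} (R' : InjectiveResolution Y') (X' : C')

/-- **transport of `Ext`** along a levelwise isomorphism of `Hom`-complexes. -/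
theorem nonempty_ext_equiv_of_homEquiv
    (θ : ∀ n, (X ⟶ R.cocomplex.X n) ≃+ (X' ⟶ R'.cocomplex.X n))
    (hθ : ∀ n (g : X ⟶ R.cocomplex.X n), θ (n+1) (postD R X n g) = postD R' X' n (θ n g))
    (n : ℕ) : Nonempty (Ext X Y (n+1) ≃+ Ext X' Y' (n+1)) := by
  -- the induced map on cocycles
  let κ : (postD R X (n+1)).ker →+ (postD R' X' (n+1)).ker :=
    AddMonoidHom.codRestrict ((θ (n+1)).toAddMonoidHom.comp (postD R X (n+1)).ker.subtype) _
      (fun f => by
        rw [AddMonoidHom.mem_ker]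
        change postD R' X' (n+1) (θ (n+1) f.1) = 0
        rw [← hθ, f.2, map_zero])
  have hκ : Function.Surjective κ := by
    intro f'
    refine ⟨⟨(θ (n+1)).symm f'.1, ?_⟩, Subtype.ext ?_⟩
    · rw [AddMonoidHom.mem_ker]
      apply (θ (n+1+1)).injective
      rw [hθ, AddEquiv.apply_symm_apply, map_zero]
      exact f'.2
    · exact (θ (n+1)).apply_symm_apply f'.1
  let ψ : (postD R X (n+1)).ker →+ Ext X' Y' (n+1) := (toExt R' X' (n+1)).comp κ
  have hψ : Function.Surjective ψ := (toExt_surjective R' X' (n+1)).comp hκ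
  have hker : ψ.ker = (toExt R X (n+1)).ker := by
    ext f
    rw [AddMonoidHom.mem_ker, AddMonoidHom.mem_ker]
    change toExt R' X' (n+1) (κ f) = 0 ↔ _
    rw [toExt_eq_zero_iff, toExt_eq_zero_iff]
    constructor
    · rintro ⟨g', hg'⟩
      refine ⟨(θ n).symm g', ?_⟩
      apply (θ (n+1)).injective
      rw [hθ, AddEquiv.apply_symm_apply]
      exact hg'
    · rintro ⟨g, hg⟩
      refine ⟨θ n g, ?_⟩
      rw [← hθ, hg]
      rfl
  exact ⟨(QuotientAddGroup.quotientKerEquivOfSurjective _ (toExt_surjective R X (n+1))).symm.trans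
    ((QuotientAddGroup.quotientAddEquivOfEq hker.symm).trans
      (QuotientAddGroup.quotientKerEquivOfSurjective ψ hψ))⟩

end Groth.Agent.LD.SC
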