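import Groth.Agent.Lib.Lead.SC.MapRes
import Mathlib.CategoryTheory.Preadditive.Injective.Preserves

/-! # Natural version of the degenerate Grothendieck composition: for `G` exact and preserving
injectives, `G ⋙ RᵖH ≅ Rᵖ(G ⋙ H)` as functors. -/

universe v v' v'' u u' u''
open CategoryTheory Limits

namespace Groth.Agent.LD.SC

variable {C : Type u} [Category.{v} C] [Abelian C]
  {D : Type u'} [Category.{v'} D] [Abelian D]
  {E : Type u''} [Category.{v''} E] [Abelian E]
  [HasInjectiveResolutions C] [HasInjectiveResolutions D]
  (G : C ⥤ D) [G.Additive] [PreservesFiniteLimits G] [G.PreservesEpimorphisms]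
  [G.PreservesInjectiveObjects]

lemma exactAt_map_injRes {Z : C} (I : InjectiveResolution Z) (n : ℕ) :
    ((G.mapHomologicalComplex _).obj I.cocomplex).ExactAt (n + 1) := by
  haveI : G.PreservesHomology := Functor.preservesHomology_of_preservesEpis_and_kernels G
  rw [HomologicalComplex.exactAt_iff]
  have h := I.cocomplex_exactAt_succ n
  rw [HomologicalComplex.exactAt_iff] at h
  exact h.map G

/-- `G I` as an injective resolution of `G Z`. -/
noncomputable def mapInjRes' {Z : C} (I : InjectiveResolution Z) : InjectiveResolution (G.obj Z) :=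
  mapInjRes I G (fun n => G.injective_obj_of_injective (I.injective n)) (exactAt_map_injRes G I)

variable (H : D ⥤ E) [H.Additive] (GH : C ⥤ E) [GH.Additive] (e : G ⋙ H ≅ GH) (p : ℕ)

/-- the comparison of complexes `H (G I) ≅ GH I`. -/
noncomputable def mapCompIso {Z : C} (I : InjectiveResolution Z) :
    (H.mapHomologicalComplex _).obj (mapInjRes' G I).cocomplex ≅
      (GH.mapHomologicalComplex _).obj I.cocomplex :=
  HomologicalComplex.Hom.isoOfComponents
    (fun i => (show ((H.mapHomologicalComplex _).obj (mapInjRes' G I).cocomplex).X i ≅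
      ((GH.mapHomologicalComplex _).obj I.cocomplex).X i from e.app (I.cocomplex.X i)))
    (fun i j _ => by
      change e.hom.app _ ≫ GH.map (I.cocomplex.d i j) =
        H.map (G.map (I.cocomplex.d i j)) ≫ e.hom.app _
      exact (e.hom.naturality _).symm)

/-- object-level comparison. -/
noncomputable def compObjIso (Z : C) :
    (H.rightDerived p).obj (G.obj Z) ≅ (GH.rightDerived p).obj Z :=
  (mapInjRes' G (injectiveResolution Z)).isoRightDerivedObj H p ≪≫
    (HomologicalComplex.homologyFunctor E _ p).mapIso (mapCompIso G H GH e (injectiveResolution Z)) ≪≫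
    ((injectiveResolution Z).isoRightDerivedObj GH p).symm

lemma mapInjRes'_ι_f_zero {Z : C} (K : InjectiveResolution Z) :
    (mapInjRes' G K).ι.f 0 = G.map (K.ι.f 0) := by
  simp [mapInjRes', mapInjRes]

/-- **natural** degenerate Grothendieck composition. -/
noncomputable def rightDerivedCompNatIso : G ⋙ H.rightDerived p ≅ GH.rightDerived p :=
  NatIso.ofComponents (fun Z => compObjIso G H GH e p Z) (by
    intro Z W f
    change (H.rightDerived p).map (G.map f) ≫ (compObjIso G H GH e p W).hom =
      (compObjIso G H GH e p Z).hom ≫ (GH.rightDerived p).map f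
    dsimp only [compObjIso, Iso.trans_hom, Iso.symm_hom, Functor.mapIso_hom]
    generalize injectiveResolution Z = I
    generalize injectiveResolution W = J
    let φ : I.cocomplex ⟶ J.cocomplex := InjectiveResolution.desc f J I
    have comm : I.ι.f 0 ≫ φ.f 0 = f ≫ J.ι.f 0 := InjectiveResolution.desc_commutes_zero f J I
    have comm' : (mapInjRes' G I).ι.f 0 ≫ ((G.mapHomologicalComplex _).map φ).f 0 =
        G.map f ≫ (mapInjRes' G J).ι.f 0 := by
      rw [mapInjRes'_ι_f_zero, mapInjRes'_ι_f_zero]
      change G.map (I.ι.f 0) ≫ G.map (φ.f 0) = G.map f ≫ G.map (J.ι.f 0)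
      exact (G.map_comp _ _).symm.trans ((congrArg G.map comm).trans (G.map_comp _ _))
    have n1 := InjectiveResolution.isoRightDerivedObj_hom_naturality (G.map f)
      (mapInjRes' G I) (mapInjRes' G J) ((G.mapHomologicalComplex _).map φ) comm' H p
    have n2 := InjectiveResolution.isoRightDerivedObj_inv_naturality f I J φ comm GH p
    have n3 : (HomologicalComplex.homologyFunctor E _ p).map
          ((H.mapHomologicalComplex _).map ((G.mapHomologicalComplex _).map φ)) ≫
        (HomologicalComplex.homologyFunctor E _ p).map (mapCompIso G H GH e J).hom =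
        (HomologicalComplex.homologyFunctor E _ p).map (mapCompIso G H GH e I).hom ≫
        (HomologicalComplex.homologyFunctor E _ p).map ((GH.mapHomologicalComplex _).map φ) := by
      rw [← Functor.map_comp, ← Functor.map_comp]
      congr 1
      ext i
      change H.map (G.map (φ.f i)) ≫ e.hom.app _ = e.hom.app _ ≫ GH.map (φ.f i)
      exact e.hom.naturality _
    refine (Category.assoc _ _ _).symm.trans ?_
    refine (congrArg (fun z => z ≫ _) n1).trans ?_
    refine (Category.assoc _ _ _).trans ?_
    refine (congrArg (fun z => _ ≫ z) ((Category.assoc _ _ _).symm.trans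
      ((congrArg (fun z => z ≫ _) n3).trans (Category.assoc _ _ _)))).trans ?_
    refine (congrArg (fun z => _ ≫ _ ≫ z) n2.symm).trans ?_
    simp only [Category.assoc])

end Groth.Agent.LD.SC
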