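import Mathlib.CategoryTheory.Sites.SheafCohomology.MayerVietoris
import Mathlib.CategoryTheory.Sites.SheafCohomology.Basic
import Mathlib.CategoryTheory.Adjunction.Whiskering
import Mathlib.CategoryTheory.Sites.EpiMono
import Mathlib.Algebra.Homology.DerivedCategory.Ext.EnoughInjectives

/-! # Sheaf cohomology on a site: the representing sheaves `ℤ_U`, `H⁰`, restriction, and local
vanishing of cohomology classes. -/

universe w v u
open CategoryTheory Limits Opposite Abelian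

namespace Groth.Agent.LD.SC

variable {C : Type u} [Category.{v} C] (J : GrothendieckTopology C)
  [HasSheafify J AddCommGrpCat.{v}]

/-- the free abelian sheaf `ℤ_U`. -/
noncomputable abbrev ZU (U : C) : Sheaf J AddCommGrpCat.{v} :=
  (presheafToSheaf J _).obj (yoneda.obj U ⋙ AddCommGrpCat.free)

/-- functoriality of `ℤ_U`. -/
noncomputable abbrev ZUmap {U V : C} (f : V ⟶ U) : ZU J V ⟶ ZU J U :=
  (presheafToSheaf J _).map (Functor.whiskerRight (yoneda.map f) _)

lemma ZUmap_comp {U V W : C} (f : V ⟶ U) (g : W ⟶ V) :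
    ZUmap J (g ≫ f) = ZUmap J g ≫ ZUmap J f := by
  simp only [ZUmap, ← Functor.map_comp]
  congr 1
  ext : 2
  simp

lemma ZUmap_id (U : C) : ZUmap J (𝟙 U) = 𝟙 _ := by
  simp only [ZUmap]
  rw [← (presheafToSheaf J AddCommGrpCat.{v}).map_id]
  congr 1
  ext : 2
  simp

variable {J}

/-- `Hom(ℤ_U, F) ≃ F(U)`. -/
noncomputable def homEquiv (U : C) (F : Sheaf J AddCommGrpCat.{v}) :
    (ZU J U ⟶ F) ≃ F.obj.obj (op U) :=
  ((sheafificationAdjunction J _).homEquiv _ _).trans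
    (((Adjunction.whiskerRight _ AddCommGrpCat.adj).homEquiv _ _).trans yonedaEquiv)

lemma homEquiv_comp (U : C) {F G : Sheaf J AddCommGrpCat.{v}} (φ : ZU J U ⟶ F) (ψ : F ⟶ G) :
    homEquiv U G (φ ≫ ψ) = ψ.hom.app (op U) (homEquiv U F φ) := by
  simp only [homEquiv, Equiv.trans_apply, Adjunction.homEquiv_naturality_right]
  rfl

lemma homEquiv_map {U V : C} (f : V ⟶ U) {F : Sheaf J AddCommGrpCat.{v}} (φ : ZU J U ⟶ F) :
    homEquiv V F (ZUmap J f ≫ φ) = F.obj.map f.op (homEquiv U F φ) := by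
  simp only [homEquiv, Equiv.trans_apply, ZUmap, Adjunction.homEquiv_naturality_left]
  erw [Adjunction.homEquiv_naturality_left]
  rw [← yonedaEquiv_naturality]
  rfl

/-- the canonical section of `ℤ_U` over `U`. -/
noncomputable def gen (U : C) : (ZU J U).obj.obj (op U) := homEquiv U (ZU J U) (𝟙 _)

lemma homEquiv_apply (U : C) {F : Sheaf J AddCommGrpCat.{v}} (φ : ZU J U ⟶ F) :
    homEquiv U F φ = φ.hom.app (op U) (gen U) := by
  rw [gen, ← homEquiv_comp, Category.id_comp]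

lemma homEquiv_add (U : C) {F : Sheaf J AddCommGrpCat.{v}} (φ ψ : ZU J U ⟶ F) :
    homEquiv U F (φ + ψ) = homEquiv U F φ + homEquiv U F ψ := by
  rw [homEquiv_apply, homEquiv_apply, homEquiv_apply]
  rfl

/-- `Hom(ℤ_U, F) ≃+ F(U)`. -/
noncomputable def homAddEquiv (U : C) (F : Sheaf J AddCommGrpCat.{v}) :
    (ZU J U ⟶ F) ≃+ F.obj.obj (op U) :=
  { homEquiv U F with map_add' := homEquiv_add U }

end Groth.Agent.LD.SC

namespace Groth.Agent.LD.SC

variable {C : Type u} [Category.{v} C] {J : GrothendieckTopology C}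
  [HasSheafify J AddCommGrpCat.{v}] [HasExt.{w} (Sheaf J AddCommGrpCat.{v})]

/-- restriction `Hⁿ(U, F) → Hⁿ(V, F)`. -/
noncomputable def Hres {U V : C} (f : V ⟶ U) {F : Sheaf J AddCommGrpCat.{v}} {n : ℕ}
    (x : Ext (ZU J U) F n) : Ext (ZU J V) F n :=
  (Ext.mk₀ (ZUmap J f)).comp x (zero_add n)

lemma Hres_zero {U V : C} (f : V ⟶ U) {F : Sheaf J AddCommGrpCat.{v}} {n : ℕ} :
    Hres f (0 : Ext (ZU J U) F n) = 0 := by
  simp [Hres]

lemma Hres_comp {U V W : C} (f : V ⟶ U) (g : W ⟶ V) {F : Sheaf J AddCommGrpCat.{v}} {n : ℕ}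
    (x : Ext (ZU J U) F n) : Hres (g ≫ f) x = Hres g (Hres f x) := by
  simp only [Hres, ZUmap_comp]
  rw [← Ext.mk₀_comp_mk₀, Ext.comp_assoc_of_second_deg_zero]

lemma Hres_id {U : C} {F : Sheaf J AddCommGrpCat.{v}} {n : ℕ}
    (x : Ext (ZU J U) F n) : Hres (𝟙 U) x = x := by
  simp [Hres, ZUmap_id]

lemma Hres_comp_right {U V : C} (f : V ⟶ U) {F G : Sheaf J AddCommGrpCat.{v}} {n m k : ℕ}
    (x : Ext (ZU J U) F n) (y : Ext F G m) (h : n + m = k) :
    Hres f (x.comp y h) = (Hres f x).comp y h := by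
  simp only [Hres]
  exact (Ext.comp_assoc _ _ _ _ _ (by omega)).symm

lemma cohomologyPresheaf_map_eq {U V : C} (f : V ⟶ U) (F : Sheaf J AddCommGrpCat.{v}) (n : ℕ)
    (x : F.H' n U) : (F.cohomologyPresheaf n).map f.op x = Hres f x := rfl

/-- `H⁰(U, F) ≃+ F(U)`. -/
noncomputable def H0Equiv (U : C) (F : Sheaf J AddCommGrpCat.{v}) :
    Ext (ZU J U) F 0 ≃+ F.obj.obj (op U) :=
  Ext.addEquiv₀.trans (homAddEquiv U F)

lemma H0Equiv_mk₀ (U : C) {F : Sheaf J AddCommGrpCat.{v}} (φ : ZU J U ⟶ F) :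
    H0Equiv U F (Ext.mk₀ φ) = homEquiv U F φ := by
  have : Ext.addEquiv₀ (Ext.mk₀ φ) = φ := Ext.addEquiv₀.apply_symm_apply φ
  change homEquiv U F (Ext.addEquiv₀ (Ext.mk₀ φ)) = _
  rw [this]

end Groth.Agent.LD.SC

namespace Groth.Agent.LD.SC

variable {C : Type u} [Category.{v} C] {J : GrothendieckTopology C}
  [HasSheafify J AddCommGrpCat.{v}] [HasExt.{w} (Sheaf J AddCommGrpCat.{v})]
  [EnoughInjectives (Sheaf J AddCommGrpCat.{v})]
  [J.HasSheafCompose (forget AddCommGrpCat.{v})] [J.WEqualsLocallyBijective AddCommGrpCat.{v}]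

/-- **local vanishing**: a cohomology class of positive degree vanishes on a covering sieve. -/
theorem exists_sieve_Hres_eq_zero (n : ℕ) : ∀ (F : Sheaf J AddCommGrpCat.{v}) {U : C}
    (ξ : Ext (ZU J U) F (n + 1)),
    ∃ S ∈ J U, ∀ {V : C} (f : V ⟶ U), S f → Hres f ξ = 0 := by
  induction n with
  | zero =>
    intro F U ξ
    let S := ShortComplex.mk _ _ (cokernel.condition (Injective.ι F))
    have hS : S.ShortExact :=
      { exact := ShortComplex.exact_of_g_is_cokernel _ (cokernelIsCokernel S.f) }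
    obtain ⟨x₃, hx₃⟩ := Ext.covariant_sequence_exact₁ (ZU J U) hS ξ
      (Ext.eq_zero_of_injective _) (rfl : 0 + 1 = 1)
    obtain ⟨q, rfl⟩ := Ext.addEquiv₀.symm.surjective x₃
    haveI : Epi S.g := hS.epi_g
    haveI : Sheaf.IsLocallySurjective S.g := (Sheaf.isLocallySurjective_iff_epi' (φ := S.g)).mpr inferInstance
    refine ⟨Presheaf.imageSieve S.g.hom (homEquiv U S.X₃ q),
      Presheaf.imageSieve_mem J S.g.hom _, ?_⟩
    rintro V f ⟨t, ht⟩
    rw [← hx₃, Hres_comp_right]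
    have h1 : ZUmap J f ≫ q = (homEquiv V S.X₂).symm t ≫ S.g := by
      apply (homEquiv V S.X₃).injective
      rw [homEquiv_map, homEquiv_comp, Equiv.apply_symm_apply]
      exact ht.symm
    have h2 : Hres f (Ext.addEquiv₀.symm q) = (Ext.mk₀ ((homEquiv V S.X₂).symm t)).comp
        (Ext.mk₀ S.g) (zero_add 0) := by
      change (Ext.mk₀ (ZUmap J f)).comp (Ext.mk₀ q) _ = _
      rw [Ext.mk₀_comp_mk₀, Ext.mk₀_comp_mk₀, h1]
    rw [h2, Ext.comp_assoc_of_second_deg_zero, hS.comp_extClass, Ext.comp_zero]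
  | succ n ih =>
    intro F U ξ
    let S := ShortComplex.mk _ _ (cokernel.condition (Injective.ι F))
    have hS : S.ShortExact :=
      { exact := ShortComplex.exact_of_g_is_cokernel _ (cokernelIsCokernel S.f) }
    obtain ⟨x₃, hx₃⟩ := Ext.covariant_sequence_exact₁ (ZU J U) hS ξ
      (Ext.eq_zero_of_injective _) (rfl : (n + 1) + 1 = n + 1 + 1)
    obtain ⟨T, hT, hT0⟩ := ih S.X₃ x₃
    refine ⟨T, hT, fun f hf => ?_⟩
    rw [← hx₃, Hres_comp_right, hT0 f hf, Ext.zero_comp]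

end Groth.Agent.LD.SC
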