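import Groth.Agent.Lib.Lead.SC.LerayDeg

/-! # Closed embeddings: `i_*` is exact, `R^{q+1} i_* = 0`, `H^p(X, F) ≃ H^p(Y, i_* F)`. -/

universe v v' u u'
open CategoryTheory Limits Opposite Abelian TopologicalSpace

namespace Groth.Agent.LD.SC

section General
variable {C : Type u} [Category.{v} C] [Abelian C] [EnoughInjectives C]
  {D : Type u'} [Category.{v'} D] [Abelian D]

/-- the higher right derived functors of an exact functor vanish. -/
lemma isZero_rightDerived_succ_of_preservesEpi (G : C ⥤ D) [G.Additive] [PreservesFiniteLimits G]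
    [G.PreservesEpimorphisms] (X : C) (n : ℕ) : IsZero ((G.rightDerived (n + 1)).obj X) := by
  haveI : G.PreservesHomology := Functor.preservesHomology_of_preservesEpis_and_kernels G
  let R := InjectiveResolution.of X
  refine IsZero.of_iso ?_ (R.isoRightDerivedObj G (n + 1))
  change IsZero (((G.mapHomologicalComplex _).obj R.cocomplex).homology (n + 1))
  rw [← HomologicalComplex.exactAt_iff_isZero_homology, HomologicalComplex.exactAt_iff]
  have h := R.cocomplex_exactAt_succ n
  rw [HomologicalComplex.exactAt_iff] at h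
  exact h.map G

end General

variable {X Y : TopCat.{u}} (f : X ⟶ Y)

lemma subsingleton_of_eq_bot (F : Sheaf (Opens.grothendieckTopology X) AddCommGrpCat.{u})
    {U : Opens X} (h : U = ⊥) : Subsingleton (F.obj.obj (op U)) := by
  have hT := TopCat.Sheaf.isTerminalOfEqEmpty F h
  have hz : IsZero (F.obj.obj (op U)) := by
    rw [IsZero.iff_id_eq_zero]
    exact hT.hom_ext _ _
  exact AddCommGrpCat.subsingleton_of_isZero hz

include f in
lemma preservesEpi_push_of_isClosedEmbedding (hf : Topology.IsClosedEmbedding f) :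
    (pushAb f).PreservesEpimorphisms := by
  refine ⟨fun {F G} φ hφ => ?_⟩
  apply (Sheaf.isLocallySurjective_iff_epi' (φ := (pushAb f).map φ)).mp
  have hloc : Sheaf.IsLocallySurjective φ := (Sheaf.isLocallySurjective_iff_epi' (φ := φ)).mpr hφ
  have hloc' := (TopCat.Presheaf.isLocallySurjective_iff _).mp hloc
  apply (TopCat.Presheaf.isLocallySurjective_iff _).mpr
  intro W t y hy
  by_cases hyr : y ∈ Set.range f
  · obtain ⟨x, rfl⟩ := hyr
    obtain ⟨U', hU'W, ⟨s, hs⟩, hxU'⟩ := hloc' ((Opens.map f).obj W) t x hy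
    obtain ⟨V', hV'o, hV'⟩ := hf.isInducing.isOpen_iff.mp U'.2
    let V : Opens Y := ⟨V', hV'o⟩ ⊓ W
    have hVU : (Opens.map f).obj V = U' := by
      apply le_antisymm
      · intro z hz
        have : z ∈ f ⁻¹' V' := hz.1
        rw [hV'] at this
        exact this
      · intro z hz
        refine ⟨?_, hU'W hz⟩
        have : z ∈ f ⁻¹' V' := by rw [hV']; exact hz
        exact this
    refine ⟨V, inf_le_right, ?_, ?_⟩
    · subst hVU
      exact ⟨s, hs⟩
    · refine ⟨?_, hy⟩
      have : x ∈ f ⁻¹' V' := by rw [hV']; exact hxU'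
      exact this
  · let V : Opens Y := ⟨(Set.range f)ᶜ, hf.isClosed_range.isOpen_compl⟩ ⊓ W
    have hVe : (Opens.map f).obj V = ⊥ := by
      apply le_antisymm _ bot_le
      intro z hz
      exact (hz.1 ⟨z, rfl⟩).elim
    refine ⟨V, inf_le_right, ?_, ⟨hyr, hy⟩⟩
    haveI : Subsingleton (G.obj.obj (op ((Opens.map f).obj V))) := subsingleton_of_eq_bot G hVe
    exact ⟨0, Subsingleton.elim (α := G.obj.obj (op ((Opens.map f).obj V))) _ _⟩

theorem isZero_rightDerived_push_of_isClosedEmbedding (hf : Topology.IsClosedEmbedding f)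
    (F : Sheaf (Opens.grothendieckTopology X) AddCommGrpCat.{u}) (q : ℕ) :
    IsZero (((pushAb f).rightDerived (q + 1)).obj F) := by
  haveI := preservesEpi_push_of_isClosedEmbedding f hf
  exact isZero_rightDerived_succ_of_preservesEpi (pushAb f) F q

end Groth.Agent.LD.SC
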