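import Mathlib.Algebra.Homology.HomotopyCategory.KInjective
import Mathlib.CategoryTheory.Abelian.Exact
import Mathlib.Algebra.Homology.Additive

/-! # A right adjoint of an exact functor preserves K-injective complexes. -/

universe v v' u u'
open CategoryTheory Limits

namespace Groth.Agent.LD.SC

variable {C : Type u} [Category.{v} C] [Abelian C] {D : Type u'} [Category.{v'} D] [Abelian D]

theorem isKInjective_map_of_adjunction {L : C ⥤ D} {R : D ⥤ C} (adj : L ⊣ R) [L.Additive]
    [R.Additive] [L.PreservesHomology] (I : CochainComplex D ℤ) [I.IsKInjective] :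
    CochainComplex.IsKInjective ((R.mapHomologicalComplex (ComplexShape.up ℤ)).obj I) where
  nonempty_homotopy_zero {K} f hK := by
    let g : ∀ n, K.X n ⟶ R.obj (I.X n) := fun n => f.f n
    have hg : ∀ i j, g i ≫ R.map (I.d i j) = K.d i j ≫ g j := fun i j => f.comm i j
    let ε : ∀ n, L.obj (R.obj (I.X n)) ⟶ I.X n := fun n => adj.counit.app (I.X n)
    have hε : ∀ i j, ε i ≫ I.d i j = L.map (R.map (I.d i j)) ≫ ε j :=
      fun i j => (adj.counit.naturality (I.d i j)).symm
    let η : ∀ n, K.X n ⟶ R.obj (L.obj (K.X n)) := fun n => adj.unit.app (K.X n)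
    have hη : ∀ i j, K.d i j ≫ η j = η i ≫ R.map (L.map (K.d i j)) :=
      fun i j => adj.unit.naturality (K.d i j)
    have htri : ∀ n, η n ≫ R.map (L.map (g n) ≫ ε n) = g n := fun n => by
      have h1 : η n ≫ R.map (L.map (g n)) = g n ≫ adj.unit.app (R.obj (I.X n)) :=
        (adj.unit.naturality (g n)).symm
      have h2 : adj.unit.app (R.obj (I.X n)) ≫ R.map (ε n) = 𝟙 (R.obj (I.X n)) :=
        adj.right_triangle_components (I.X n)
      rw [R.map_comp, ← Category.assoc, h1, Category.assoc, h2]
      exact Category.comp_id _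
    let f' : (L.mapHomologicalComplex (ComplexShape.up ℤ)).obj K ⟶ I :=
      { f := fun n => L.map (g n) ≫ ε n
        comm' := fun i j _ => by
          change (L.map (g i) ≫ ε i) ≫ I.d i j = L.map (K.d i j) ≫ L.map (g j) ≫ ε j
          rw [Category.assoc, hε, ← Category.assoc, ← L.map_comp, hg, L.map_comp,
            Category.assoc] }
    have hLK : ((L.mapHomologicalComplex (ComplexShape.up ℤ)).obj K).Acyclic := by
      intro i
      have h := hK i
      rw [HomologicalComplex.exactAt_iff] at h ⊢
      exact h.map L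
    let h := CochainComplex.IsKInjective.homotopyZero f' hLK
    let k : ∀ i j, L.obj (K.X i) ⟶ I.X j := fun i j => h.hom i j
    have hk0 : ∀ i j, ¬ (ComplexShape.up ℤ).Rel j i → k i j = 0 := fun i j hij => h.zero i j hij
    have hkc : ∀ i, L.map (g i) ≫ ε i =
        L.map (K.d i (i + 1)) ≫ k (i + 1) i + k i (i - 1) ≫ I.d (i - 1) i := fun i => by
      have hc := h.comm i
      rw [dNext_eq _ (show (ComplexShape.up ℤ).Rel i (i + 1) from rfl),
        prevD_eq _ (show (ComplexShape.up ℤ).Rel (i - 1) i by simp)] at hc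
      exact hc.trans (add_zero _)
    refine ⟨{ hom := fun i j => η i ≫ R.map (k i j)
              zero := fun i j hij => by
                rw [hk0 i j hij, R.map_zero]
                exact comp_zero
              comm := fun i => ?_ }⟩
    rw [dNext_eq _ (show (ComplexShape.up ℤ).Rel i (i + 1) from rfl),
      prevD_eq _ (show (ComplexShape.up ℤ).Rel (i - 1) i by simp)]
    change g i = K.d i (i + 1) ≫ (η (i + 1) ≫ R.map (k (i + 1) i)) +
      (η i ≫ R.map (k i (i - 1))) ≫ R.map (I.d (i - 1) i) + 0
    rw [add_zero, ← htri i, hkc i, R.map_add, Preadditive.comp_add, R.map_comp, R.map_comp,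
      ← Category.assoc (K.d i (i + 1)), hη, Category.assoc, Category.assoc]

end Groth.Agent.LD.SC
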