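import Groth.Agent.Lib.Lead.SC.Affine
import Groth.Agent.Lib.Lead.SC.Global

/-! # Cohomological dimension of quasi-compact (quasi-)separated schemes. -/

universe u
open CategoryTheory Limits Opposite Abelian TopologicalSpace AlgebraicGeometry

namespace Groth.Agent.LD.SC

variable {X : Scheme.{u}}

/-- Mayer–Vietoris vanishing: `H^p(V ∪ W) = 0` for `p ≥ 2` if `H^p(V) = H^p(W) = 0` and
`H^{p-1}(V ∩ W) = 0`. -/
theorem subsingleton_ext_sup (F : Sheaf (JX X) AddCommGrpCat.{u}) (V W : X.Opens) (n : ℕ)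
    (hV : Subsingleton (Ext (ZU (JX X) V) F (n + 2)))
    (hW : Subsingleton (Ext (ZU (JX X) W) F (n + 2)))
    (hVW : Subsingleton (Ext (ZU (JX X) (V ⊓ W)) F (n + 1))) :
    Subsingleton (Ext (ZU (JX X) (V ⊔ W)) F (n + 2)) := by
  refine subsingleton_of_forall_eq 0 fun ξ => ?_
  exact MV_eq_zero_succ (Opens.mayerVietorisSquare V W) F n ξ (@Subsingleton.elim _ hV _ _)
    (@Subsingleton.elim _ hW _ _) hVW

/-- **cohomological dimension of a finite union of affines**: for a class of affine opens closed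
under intersection, the cohomology of a quasi-coherent module over a union of at most `k` of its
members vanishes in degrees `≥ max k 1`. -/
theorem subsingleton_ext_finset_sup (M : X.Modules) [M.IsQuasicoherent] (𝒜 : X.Opens → Prop)
    (h𝒜 : ∀ W, 𝒜 W → IsAffineOpen W) (hinf : ∀ W W', 𝒜 W → 𝒜 W' → 𝒜 (W ⊓ W')) :
    ∀ (k : ℕ) (s : Finset X.Opens), s.card ≤ k → (∀ W ∈ s, 𝒜 W) → ∀ p : ℕ, k ≤ p + 1 →
      Subsingleton (Ext (ZU (JX X) (s.sup id)) (Coh.toAb M) (p + 1)) := by
  classical
  intro k
  induction k with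
  | zero =>
    intro s hs _ p _
    obtain rfl : s = ∅ := Finset.card_eq_zero.mp (Nat.le_zero.mp hs)
    rw [Finset.sup_empty]
    exact subsingleton_of_forall_eq 0 fun ξ => ext_bot_eq_zero ξ
  | succ k ih =>
    intro s hs hs𝒜 p hp
    rcases s.eq_empty_or_nonempty with rfl | ⟨U, hUs⟩
    · rw [Finset.sup_empty]
      exact subsingleton_of_forall_eq 0 fun ξ => ext_bot_eq_zero ξ
    have hins : insert U (s.erase U) = s := Finset.insert_erase hUs
    have hcard : (s.erase U).card ≤ k := by
      rw [Finset.card_erase_of_mem hUs]; omega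
    have hU𝒜 : 𝒜 U := hs𝒜 U hUs
    have hsup : s.sup id = (s.erase U).sup id ⊔ U := by
      rw [← hins, Finset.sup_insert, hins, sup_comm]; rfl
    rw [hsup]
    cases p with
    | zero =>
      -- `k = 0`: the union is `U`
      have hk : k = 0 := by omega
      have : s.erase U = ∅ := Finset.card_eq_zero.mp (Nat.le_zero.mp (hk ▸ hcard))
      rw [this, Finset.sup_empty, bot_sup_eq]
      exact subsingleton_ext_of_isAffineOpen M 0 U (h𝒜 U hU𝒜)
    | succ p =>
      apply subsingleton_ext_sup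
      · -- the union of the others
        rcases Nat.eq_zero_or_pos k with hk | hk
        · have : s.erase U = ∅ := Finset.card_eq_zero.mp (Nat.le_zero.mp (hk ▸ hcard))
          rw [this, Finset.sup_empty]
          exact subsingleton_of_forall_eq 0 fun ξ => ext_bot_eq_zero ξ
        · exact ih (s.erase U) hcard (fun W hW => hs𝒜 W (Finset.mem_of_mem_erase hW)) (p + 1)
            (by omega)
      · exact subsingleton_ext_of_isAffineOpen M (p + 1) U (h𝒜 U hU𝒜)
      · -- the intersection
        have hinter : (s.erase U).sup id ⊓ U = ((s.erase U).image (· ⊓ U)).sup id := by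
          rw [Finset.sup_inf_distrib_right, Finset.sup_image]
          rfl
        rw [hinter]
        apply ih _ (Finset.card_image_le.trans hcard) _ p (by omega)
        intro W hW
        obtain ⟨W', hW', rfl⟩ := Finset.mem_image.mp hW
        exact hinf _ _ (hs𝒜 W' (Finset.mem_of_mem_erase hW')) hU𝒜

/-- a compact open subset of an affine open is a finite union of basic opens. -/
lemma exists_finset_basicOpen_sup_eq {U V : X.Opens} (hU : IsAffineOpen U) (hVU : V ≤ U)
    (hV : IsCompact (V : Set X)) :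
    ∃ t : Finset X.Opens, (∀ W ∈ t, ∃ f : Γ(X, U), W = X.basicOpen f) ∧ t.sup id = V := by
  classical
  have hbas : ∀ x : V, ∃ r : Γ(X, U), X.basicOpen r ≤ V ∧ x.1 ∈ X.basicOpen r := fun x =>
    hU.exists_basicOpen_le (V := V) x (hVU x.2)
  choose r hrV hxr using hbas
  obtain ⟨t0, ht0⟩ := hV.elim_finite_subcover (fun x : V => (X.basicOpen (r x) : Set X))
    (fun x => (X.basicOpen (r x)).2) (fun x hx => Set.mem_iUnion.mpr ⟨⟨x, hx⟩, hxr ⟨x, hx⟩⟩)
  refine ⟨t0.image (fun x => X.basicOpen (r x)), ?_, ?_⟩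
  · intro W hW
    obtain ⟨x, -, rfl⟩ := Finset.mem_image.mp hW
    exact ⟨r x, rfl⟩
  · apply le_antisymm
    · rw [Finset.sup_le_iff]
      intro W hW
      obtain ⟨x, -, rfl⟩ := Finset.mem_image.mp hW
      exact hrV x
    · intro x hx
      obtain ⟨i, hi, hxi⟩ := Set.mem_iUnion₂.mp (ht0 hx)
      have hle : X.basicOpen (r i) ≤ (t0.image (fun x => X.basicOpen (r x))).sup id :=
        Finset.le_sup (f := id) (Finset.mem_image_of_mem _ hi)
      exact hle hxi

/-- **finite cohomological dimension**: on a quasi-separated scheme, the cohomology of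
quasi-coherent modules over a quasi-compact open vanishes in large degrees, uniformly. -/
theorem exists_cohDim_of_isCompact [QuasiSeparatedSpace X] (S : X.Opens)
    (hS : IsCompact (S : Set X)) :
    ∃ d : ℕ, ∀ (M : X.Modules), M.IsQuasicoherent → ∀ p : ℕ, d ≤ p →
      Subsingleton (Ext (ZU (JX X) S) (Coh.toAb M) (p + 1)) := by
  classical
  refine compact_open_induction_on (P := fun S => ∃ d : ℕ, ∀ (M : X.Modules), M.IsQuasicoherent →
    ∀ p : ℕ, d ≤ p → Subsingleton (Ext (ZU (JX X) S) (Coh.toAb M) (p + 1))) S hS ?_ ?_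
  · exact ⟨0, fun M _ p _ => subsingleton_of_forall_eq 0 fun ξ => ext_bot_eq_zero ξ⟩
  · rintro S hS U ⟨d₁, hd₁⟩
    have hSU : IsCompact ((S ⊓ U.1 : X.Opens) : Set X) :=
      hS.inter_of_isOpen U.2.isCompact S.2 U.1.2
    obtain ⟨t, ht, htsup⟩ := exists_finset_basicOpen_sup_eq U.2 (inf_le_right : S ⊓ U.1 ≤ U.1) hSU
    refine ⟨max d₁ t.card + 1, fun M hM p hp => ?_⟩
    haveI := hM
    obtain ⟨n, rfl⟩ : ∃ n, p = n + 1 := ⟨p - 1, by omega⟩
    apply subsingleton_ext_sup
    · exact hd₁ M hM (n + 1) (by omega)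
    · exact subsingleton_ext_of_isAffineOpen M (n + 1) U.1 U.2
    · rw [← htsup]
      apply subsingleton_ext_finset_sup M (fun W => ∃ f : Γ(X, U.1), W = X.basicOpen f)
        (fun W ⟨f, hf⟩ => hf ▸ U.2.basicOpen f) ?_ t.card t le_rfl ht n (by omega)
      rintro W W' ⟨f, rfl⟩ ⟨f', rfl⟩
      exact ⟨f * f', (X.basicOpen_mul f f').symm⟩

/-- **finite cohomological dimension** of quasi-compact quasi-separated schemes. -/
theorem exists_cohDim_of_qcqs (X : Scheme.{u}) [CompactSpace X] [QuasiSeparatedSpace X] :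
    ∃ d : ℕ, ∀ (M : X.Modules), M.IsQuasicoherent → ∀ p : ℕ, d ≤ p →
      Subsingleton (Coh.HH X M p) := by
  obtain ⟨d, hd⟩ := exists_cohDim_of_isCompact (⊤ : X.Opens) isCompact_univ
  refine ⟨d + 1, fun M hM p hp => ?_⟩
  obtain ⟨n, rfl⟩ : ∃ n, p = n + 1 := ⟨p - 1, by omega⟩
  exact subsingleton_H_of_subsingleton_ext (J := JX X) isTerminalTop (Coh.toAb M) (n + 1)
    (hd M hM n (by omega))

/-- on a scheme with affine diagonal covered by `k` affine opens, the cohomology of quasi-coherent
modules vanishes in degrees `≥ max k 1`. -/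
theorem subsingleton_HH_of_affine_cover (X : Scheme.{u})
    [IsAffineHom (pullback.diagonal (terminal.from X))] (M : X.Modules) [M.IsQuasicoherent]
    (s : Finset X.Opens) (hs : ∀ W ∈ s, IsAffineOpen W) (hsup : s.sup id = ⊤) (p : ℕ)
    (hp : s.card ≤ p + 1) : Subsingleton (Coh.HH X M (p + 1)) := by
  have h := subsingleton_ext_finset_sup M IsAffineOpen (fun _ h => h)
    (fun _ _ h h' => h.inf h') s.card s le_rfl hs p hp
  rw [hsup] at h
  exact subsingleton_H_of_subsingleton_ext (J := JX X) isTerminalTop (Coh.toAb M) (p + 1) h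

end Groth.Agent.LD.SC
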