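import Groth.Agent.Lib.Lead.SC.ExtZero
import Groth.Agent.Lib.Lead.SC.MapResNat

/-! # Restriction of higher direct images to an open. -/

universe u
open CategoryTheory Limits Opposite TopologicalSpace Topology

namespace Groth.Agent.LD.SC

section Postcomp
variable {C D E : Type*} [Category C] [Abelian C] [Category D] [Abelian D] [Category E] [Abelian E]
  [HasInjectiveResolutions C]

/-- exact functors commute with right derived functors (object level). -/
noncomputable def rightDerivedPostcompIso (F : C ⥤ D) [F.Additive] (H' : D ⥤ E) [H'.Additive]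
    [H'.PreservesHomology] (Z : C) (p : ℕ) :
    ((F ⋙ H').rightDerived p).obj Z ≅ H'.obj ((F.rightDerived p).obj Z) :=
  (injectiveResolution Z).isoRightDerivedObj (F ⋙ H') p ≪≫
    (show (((F ⋙ H').mapHomologicalComplex _).obj (injectiveResolution Z).cocomplex).homology p ≅
        H'.obj (((F.mapHomologicalComplex _).obj (injectiveResolution Z).cocomplex).homology p) from
      ((((F.mapHomologicalComplex _).obj (injectiveResolution Z).cocomplex).sc p).mapHomologyIso H')) ≪≫
    H'.mapIso ((injectiveResolution Z).isoRightDerivedObj F p).symm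

end Postcomp

variable {X Y : TopCat.{u}} (f : X ⟶ Y) (V : Opens Y)

/-- the restriction `f⁻¹ V ⟶ V` of `f`. -/
abbrev resMap : TopCat.of ((Opens.map f).obj V) ⟶ TopCat.of V :=
  TopCat.ofHom ⟨(V : Set Y).restrictPreimage f, f.hom.continuous.restrictPreimage⟩

lemma image_preimage_eq (V' : Opens (TopCat.of V)) :
    ((Opens.map f).obj V).isOpenEmbedding.isOpenMap.functor.obj ((Opens.map (resMap f V)).obj V') =
      (Opens.map f).obj (V.isOpenEmbedding.isOpenMap.functor.obj V') := by
  ext x
  constructor
  · rintro ⟨⟨x', hx'⟩, hx, rfl⟩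
    exact ⟨⟨f x', hx'⟩, hx, rfl⟩
  · rintro ⟨⟨y, hy⟩, hyV', e⟩
    have e' : y = f x := e
    subst e'
    exact ⟨⟨x, hy⟩, hyV', rfl⟩


/-- `(F|_{f⁻¹V})` pushed to `V` is `(f_* F)|_V`, naturally. -/
noncomputable def restrPushIso :
    CohTop.restrFunctor ((Opens.map f).obj V) ⋙ CohTop.push (resMap f V) ≅
      CohTop.push f ⋙ CohTop.restrFunctor V :=
  NatIso.ofComponents (fun F =>
    { hom := ⟨{ app := fun V' => F.obj.map (eqToHom (congrArg op (image_preimage_eq f V V'.unop)))
                naturality := fun V' V'' i => by
                  change F.obj.map _ ≫ F.obj.map _ = F.obj.map _ ≫ F.obj.map _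
                  rw [← F.obj.map_comp, ← F.obj.map_comp]
                  congr 1 }⟩
      inv := ⟨{ app := fun V' => F.obj.map (eqToHom (congrArg op (image_preimage_eq f V V'.unop).symm))
                naturality := fun V' V'' i => by
                  change F.obj.map _ ≫ F.obj.map _ = F.obj.map _ ≫ F.obj.map _
                  rw [← F.obj.map_comp, ← F.obj.map_comp]
                  congr 1 }⟩
      hom_inv_id := by
        apply Sheaf.hom_ext
        apply NatTrans.ext
        funext V'
        change F.obj.map _ ≫ F.obj.map _ = 𝟙 _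
        rw [← F.obj.map_comp, eqToHom_trans, eqToHom_refl, F.obj.map_id]
      inv_hom_id := by
        apply Sheaf.hom_ext
        apply NatTrans.ext
        funext V'
        change F.obj.map _ ≫ F.obj.map _ = 𝟙 _
        rw [← F.obj.map_comp, eqToHom_trans, eqToHom_refl, F.obj.map_id] })
    (by
      intro F G φ
      apply Sheaf.hom_ext
      apply NatTrans.ext
      funext V'
      change φ.hom.app _ ≫ G.obj.map _ = F.obj.map _ ≫ φ.hom.app _
      exact (φ.hom.naturality _).symm)

end Groth.Agent.LD.SC
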