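import Groth.Agent.Lib.Lead.SC.Basic
import Mathlib.Algebra.Homology.DerivedCategory.Ext.ExactSequences

/-! # Dimension shifting for `Ext`. -/

universe w v u
open CategoryTheory Limits Opposite Abelian

namespace Groth.Agent.LD.SC

section General
variable {C : Type u} [Category.{v} C] [Abelian C] [HasExt.{w} C]

/-- dimension shifting: if `Extⁿ(A, X₂) = Extⁿ⁺¹(A, X₂) = 0` then
`Extⁿ(A, X₃) ≃ Extⁿ⁺¹(A, X₁)`. -/
noncomputable def extShiftEquiv {S : ShortComplex C} (hS : S.ShortExact) (A : C) (n : ℕ)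
    (h0 : Subsingleton (Ext A S.X₂ n)) (h1 : Subsingleton (Ext A S.X₂ (n + 1))) :
    Ext A S.X₃ n ≃+ Ext A S.X₁ (n + 1) :=
  AddEquiv.ofBijective (hS.extClass.postcomp A (rfl : n + 1 = n + 1)) (by
    constructor
    · rw [injective_iff_map_eq_zero]
      intro x hx
      obtain ⟨y, rfl⟩ := Ext.covariant_sequence_exact₃ A hS x rfl hx
      rw [Subsingleton.elim y 0, Ext.zero_comp]
    · intro ξ
      exact Ext.covariant_sequence_exact₁ A hS ξ (Subsingleton.elim _ _) rfl)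

lemma subsingleton_ext_succ_of_shortExact {S : ShortComplex C} (hS : S.ShortExact) (A : C) (n : ℕ)
    (h1 : Subsingleton (Ext A S.X₂ (n + 1))) (h3 : Subsingleton (Ext A S.X₃ n)) :
    Subsingleton (Ext A S.X₁ (n + 1)) := by
  refine ⟨fun a b => ?_⟩
  suffices h : ∀ ξ : Ext A S.X₁ (n + 1), ξ = 0 by rw [h a, h b]
  intro ξ
  obtain ⟨x, rfl⟩ := Ext.covariant_sequence_exact₁ A hS ξ (Subsingleton.elim _ _) rfl
  rw [Subsingleton.elim x 0, Ext.zero_comp]

lemma subsingleton_ext_of_shortExact₃ {S : ShortComplex C} (hS : S.ShortExact) (A : C) (n : ℕ)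
    (h2 : Subsingleton (Ext A S.X₂ n)) (h1 : Subsingleton (Ext A S.X₁ (n + 1))) :
    Subsingleton (Ext A S.X₃ n) := by
  refine ⟨fun a b => ?_⟩
  suffices h : ∀ ξ : Ext A S.X₃ n, ξ = 0 by rw [h a, h b]
  intro ξ
  obtain ⟨y, rfl⟩ := Ext.covariant_sequence_exact₃ A hS ξ rfl (Subsingleton.elim _ _)
  rw [Subsingleton.elim y 0, Ext.zero_comp]

lemma subsingleton_ext_of_shortExact₂ {S : ShortComplex C} (hS : S.ShortExact) (A : C) (n : ℕ)
    (h1 : Subsingleton (Ext A S.X₁ n)) (h3 : Subsingleton (Ext A S.X₃ n)) :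
    Subsingleton (Ext A S.X₂ n) := by
  refine ⟨fun a b => ?_⟩
  suffices h : ∀ ξ : Ext A S.X₂ n, ξ = 0 by rw [h a, h b]
  intro ξ
  obtain ⟨y, rfl⟩ := Ext.covariant_sequence_exact₂ A hS ξ (Subsingleton.elim _ _)
  rw [Subsingleton.elim y 0, Ext.zero_comp]

end General

section Sheaf
variable {C : Type u} [Category.{v} C] {J : GrothendieckTopology C}
  [HasSheafify J AddCommGrpCat.{v}] [HasExt.{w} (Sheaf J AddCommGrpCat.{v})]

lemma H0Equiv_comp (U : C) {F G : Sheaf J AddCommGrpCat.{v}} (x : Ext (ZU J U) F 0) (ψ : F ⟶ G) :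
    H0Equiv U G (x.comp (Ext.mk₀ ψ) (add_zero 0)) = ψ.hom.app (op U) (H0Equiv U F x) := by
  obtain ⟨φ, rfl⟩ := Ext.addEquiv₀.symm.surjective x
  change H0Equiv U G ((Ext.mk₀ φ).comp (Ext.mk₀ ψ) _) = ψ.hom.app (op U) (H0Equiv U F (Ext.mk₀ φ))
  rw [Ext.mk₀_comp_mk₀, H0Equiv_mk₀, H0Equiv_mk₀, homEquiv_comp]

/-- the connecting map `X₃(U) → H¹(U, X₁)`. -/
noncomputable def delta0 {S : ShortComplex (Sheaf J AddCommGrpCat.{v})} (hS : S.ShortExact)
    (U : C) : S.X₃.obj.obj (op U) →+ Ext (ZU J U) S.X₁ 1 :=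
  (hS.extClass.postcomp (ZU J U) (rfl : 0 + 1 = 1)).comp (H0Equiv U S.X₃).symm.toAddMonoidHom

lemma delta0_surjective {S : ShortComplex (Sheaf J AddCommGrpCat.{v})} (hS : S.ShortExact)
    (U : C) (h1 : Subsingleton (Ext (ZU J U) S.X₂ 1)) : Function.Surjective (delta0 hS U) := by
  intro ξ
  obtain ⟨x, hx⟩ := Ext.covariant_sequence_exact₁ (ZU J U) hS ξ (Subsingleton.elim _ _) rfl
  exact ⟨H0Equiv U S.X₃ x, by simpa [delta0] using hx⟩

lemma delta0_ker {S : ShortComplex (Sheaf J AddCommGrpCat.{v})} (hS : S.ShortExact) (U : C) :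
    (delta0 hS U).ker = (S.g.hom.app (op U)).hom.range := by
  ext x
  rw [AddMonoidHom.mem_ker, AddMonoidHom.mem_range]
  constructor
  · intro hx
    obtain ⟨y, hy⟩ := Ext.covariant_sequence_exact₃ (ZU J U) hS ((H0Equiv U S.X₃).symm x) rfl hx
    refine ⟨H0Equiv U S.X₂ y, ?_⟩
    have := H0Equiv_comp U y S.g
    rw [hy, AddEquiv.apply_symm_apply] at this
    exact this.symm
  · rintro ⟨t, rfl⟩
    have h := H0Equiv_comp U ((H0Equiv U S.X₂).symm t) S.g
    rw [AddEquiv.apply_symm_apply] at h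
    have h2 : (H0Equiv U S.X₃).symm ((S.g.hom.app (op U)).hom t) =
        ((H0Equiv U S.X₂).symm t).comp (Ext.mk₀ S.g) (add_zero 0) := by
      rw [AddEquiv.symm_apply_eq]
      exact h.symm
    change (hS.extClass.postcomp (ZU J U) (rfl : 0 + 1 = 1)) ((H0Equiv U S.X₃).symm _) = 0
    rw [h2]
    change (((H0Equiv U S.X₂).symm t).comp (Ext.mk₀ S.g) (add_zero 0)).comp hS.extClass
      (rfl : 0 + 1 = 1) = 0
    rw [Ext.comp_assoc_of_second_deg_zero, hS.comp_extClass, Ext.comp_zero]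

/-- `H¹(U, X₁) ≃ X₃(U) / im(X₂(U))` when `H¹(U, X₂) = 0`. -/
noncomputable def ext1Equiv {S : ShortComplex (Sheaf J AddCommGrpCat.{v})} (hS : S.ShortExact)
    (U : C) (h1 : Subsingleton (Ext (ZU J U) S.X₂ 1)) :
    (S.X₃.obj.obj (op U) ⧸ (S.g.hom.app (op U)).hom.range) ≃+ Ext (ZU J U) S.X₁ 1 :=
  (QuotientAddGroup.quotientAddEquivOfEq (delta0_ker hS U).symm).trans
    (QuotientAddGroup.quotientKerEquivOfSurjective (delta0 hS U) (delta0_surjective hS U h1))

end Sheaf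

end Groth.Agent.LD.SC

namespace Groth.Agent.LD.SC

section Sheaf2
variable {C : Type u} [Category.{v} C] {J : GrothendieckTopology C}
  [HasSheafify J AddCommGrpCat.{v}] [HasExt.{w} (Sheaf J AddCommGrpCat.{v})]

lemma surjective_app_of_subsingleton_ext1 {S : ShortComplex (Sheaf J AddCommGrpCat.{v})}
    (hS : S.ShortExact) (U : C) (h : Subsingleton (Ext (ZU J U) S.X₁ 1)) :
    Function.Surjective (S.g.hom.app (op U)).hom := by
  intro x
  have hx : x ∈ (delta0 hS U).ker := by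
    rw [AddMonoidHom.mem_ker]
    exact Subsingleton.elim _ _
  rw [delta0_ker] at hx
  exact hx

end Sheaf2

end Groth.Agent.LD.SC
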