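import Groth.Agent.Lib.Lead.QC.SerreCore
import Groth.Agent.Lib.Lead.QC.Epi
import Groth.Agent.Lib.Lead.QC.EpiLocal
import Groth.Agent.Lib.Lead.QC.InvBasis
import Groth.Agent.Lib.Lead.SC.Shift
import Groth.Agent.Lib.Lead.SC.Global
import Groth.Agent.Lib.Lead.SC.Efface

/-! # Serre's criterion for affineness. -/

universe u
open CategoryTheory Limits Opposite Abelian TopologicalSpace AlgebraicGeometry ZeroObject

namespace Groth.Agent.LD.SC

variable {X : Scheme.{u}}

/-- the forgetful functor to abelian sheaves. -/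
noncomputable abbrev toAbF (X : Scheme.{u}) : X.Modules ⥤ Sheaf (JX X) AddCommGrpCat.{u} :=
  SheafOfModules.toSheaf X.ringCatSheaf

instance : (toAbF X).Additive :=
  inferInstanceAs (SheafOfModules.toSheaf X.ringCatSheaf).Additive
instance : PreservesFiniteLimits (toAbF X) :=
  inferInstanceAs (PreservesFiniteLimits (SheafOfModules.toSheaf X.ringCatSheaf))

/-- the forgetful functor to abelian sheaves preserves short exact sequences. -/
theorem shortExact_toSheaf {S : ShortComplex X.Modules} (hS : S.ShortExact) :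
    (S.map (toAbF X)).ShortExact := by
  have := hS.mono_f
  have := hS.epi_g
  have : Mono (S.map (toAbF X)).f := by
    change Mono ((toAbF X).map S.f); infer_instance
  have : Epi (S.map (toAbF X)).g := by
    change Epi ((SheafOfModules.toSheaf X.ringCatSheaf).map S.g)
    exact @QC.toSheaf_map_epi _ _ _ X.ringCatSheaf _ _ _ _ S.g hS.epi_g
  exact ShortComplex.ShortExact.mk
    (hS.exact.map_of_mono_of_preservesKernel _ hS.mono_f inferInstance)

/-- `H¹(X, M) = 0`. -/
def H1Zero (M : X.Modules) : Prop :=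
  Subsingleton (Ext (ZU (JX X) (⊤ : X.Opens)) (Coh.toAb M) 1)

lemma h1Zero_of_HH (M : X.Modules) (h : Subsingleton (Coh.HH X M 1)) : H1Zero M :=
  (HEquiv (J := JX X) CategoryTheory.Limits.isTerminalTop (Coh.toAb M) 1).symm.toEquiv.subsingleton

theorem surjective_app_top_of_h1Zero {S : ShortComplex X.Modules} (hS : S.ShortExact)
    (h : H1Zero S.X₁) : Function.Surjective (S.g.app ⊤) :=
  surjective_app_of_subsingleton_ext1 (shortExact_toSheaf hS) (⊤ : X.Opens) h

lemma h1Zero_of_isZero (M : X.Modules) (hM : IsZero M) : H1Zero M := by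
  have h0 : IsZero (Coh.toAb M) := (toAbF X).map_isZero hM
  refine ⟨fun a b => ?_⟩
  suffices h : ∀ ξ : Ext (ZU (JX X) (⊤ : X.Opens)) (Coh.toAb M) 1, ξ = 0 by rw [h a, h b]
  intro ξ
  have h : ξ = ξ.comp (Ext.mk₀ (𝟙 (Coh.toAb M))) (add_zero 1) := by simp
  rw [h, h0.eq_of_src (𝟙 _) 0, Ext.mk₀_zero, Ext.comp_zero]

lemma h1Zero_of_shortExact {S : ShortComplex X.Modules} (hS : S.ShortExact) (h1 : H1Zero S.X₁)
    (h3 : H1Zero S.X₃) : H1Zero S.X₂ := by
  have hS' := shortExact_toSheaf hS
  exact subsingleton_ext_of_shortExact₂ (C := Sheaf (JX X) AddCommGrpCat.{u}) hS'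
    (ZU (JX X) (⊤ : X.Opens)) 1 h1 h3

variable (X)

/-- `O^l`, built by recursion. -/
noncomputable def OpowL : List Γ(X, ⊤) → X.Modules
  | [] => 0
  | _ :: l => OpowL l ⊞ QC.unitMod X

/-- `(a_f) ↦ ∑ a_f f`. -/
noncomputable def phiL : (l : List Γ(X, ⊤)) → (OpowL X l ⟶ QC.unitMod X)
  | [] => 0
  | f :: l => biprod.desc (phiL l) (QC.homOfSection (QC.unitMod X) f)

lemma qc_zero : (0 : X.Modules).IsQuasicoherent := by
  have h0 : IsZero (0 : X.Modules) := isZero_zero _
  have h1 : (kernel (𝟙 (QC.unitMod X))).IsQuasicoherent :=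
    QC.qc_kernel _ inferInstance inferInstance
  have h2 : IsZero (kernel (𝟙 (QC.unitMod X))) := isZero_kernel_of_mono _
  exact QC.qc_of_iso (h2.iso h0) h1

lemma qc_OpowL : ∀ l : List Γ(X, ⊤), (OpowL X l).IsQuasicoherent
  | [] => qc_zero X
  | _ :: l => qc_biprod _ _ (qc_OpowL l) inferInstance

variable {X}

lemma desc_app {A B C : X.Modules} (a : A ⟶ C) (b : B ⟶ C) (W : X.Opens) (t : Γ(A ⊞ B, W)) :
    (biprod.desc a b).app W t =
      a.app W ((biprod.fst : A ⊞ B ⟶ A).app W t) + b.app W ((biprod.snd : A ⊞ B ⟶ B).app W t) := by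
  rw [biprod.desc_eq]
  rfl

lemma mulHom_app (f : Γ(X, ⊤)) (W : X.Opens) (c : Γ(X, W)) :
    (QC.homOfSection (QC.unitMod X) f).app W c =
      c * X.presheaf.map (homOfLE (le_top : W ≤ ⊤)).op f := by
  rw [QC.unitHom_app, QC.homOfSection_app_one]
  rfl

theorem phiL_app_top_mem_span : ∀ (l : List Γ(X, ⊤)) (t : Γ(OpowL X l, ⊤)),
    (show Γ(X, ⊤) from (phiL X l).app ⊤ t) ∈ Ideal.span {f | f ∈ l}
  | [], t => by
    have : (show Γ(X, ⊤) from (phiL X []).app ⊤ t) = 0 := rfl
    rw [this]; exact Ideal.zero_mem _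
  | f :: l, t => by
    have h1 : (show Γ(X, ⊤) from (phiL X (f :: l)).app ⊤ t) =
        (show Γ(X, ⊤) from
          (phiL X l).app ⊤ ((biprod.fst : OpowL X l ⊞ QC.unitMod X ⟶ _).app ⊤ t)) +
        (show Γ(X, ⊤) from (QC.homOfSection (QC.unitMod X) f).app ⊤
          ((biprod.snd : OpowL X l ⊞ QC.unitMod X ⟶ _).app ⊤ t)) := desc_app _ _ ⊤ t
    rw [h1]
    refine Ideal.add_mem _ ?_ ?_
    · refine Ideal.span_mono ?_ (phiL_app_top_mem_span l _)
      intro g hg
      exact List.mem_cons_of_mem f hg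
    · have h2 := mulHom_app f ⊤ ((biprod.snd : OpowL X l ⊞ QC.unitMod X ⟶ _).app ⊤ t)
      refine h2 ▸ ?_
      refine Ideal.mul_mem_left _ _ ?_
      have : X.presheaf.map (homOfLE (le_top : (⊤ : X.Opens) ≤ ⊤)).op f = f := by
        have : (homOfLE (le_top : (⊤ : X.Opens) ≤ ⊤)).op = 𝟙 (op ⊤) := rfl
        rw [this, X.presheaf.map_id]; rfl
      rw [this]
      exact Ideal.subset_span List.mem_cons_self

theorem phiL_local_lift : ∀ (l : List Γ(X, ⊤)) (x : X) (_ : ∃ f ∈ l, x ∈ X.basicOpen f)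
    (W : X.Opens) (s : Γ(X, W)) (_ : x ∈ W),
    ∃ (W' : X.Opens) (hW' : W' ≤ W), x ∈ W' ∧ ∃ t : Γ(OpowL X l, W'),
      (phiL X l).app W' t = X.presheaf.map (homOfLE hW').op s
  | [], x, h, W, s, hxW => by
    obtain ⟨f, hf, -⟩ := h
    exact absurd hf List.not_mem_nil
  | f :: l, x, h, W, s, hxW => by
    by_cases hxf : x ∈ X.basicOpen f
    · let W' : X.Opens := W ⊓ X.basicOpen f
      have hu : IsUnit (X.presheaf.map (homOfLE (le_top : W' ≤ ⊤)).op f) :=
        QC.isUnit_res_of_le_basicOpen f le_top inf_le_right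
      obtain ⟨u, hu'⟩ := hu
      let c : Γ(X, W') := X.presheaf.map (homOfLE (inf_le_left : W' ≤ W)).op s * ↑u⁻¹
      refine ⟨W', inf_le_left, ⟨hxW, hxf⟩,
        (biprod.inr : QC.unitMod X ⟶ OpowL X l ⊞ QC.unitMod X).app W' c, ?_⟩
      have h1 : (phiL X (f :: l)).app W'
          ((biprod.inr : QC.unitMod X ⟶ OpowL X l ⊞ QC.unitMod X).app W' c) =
          (QC.homOfSection (QC.unitMod X) f).app W' c := by
        change ((biprod.inr : QC.unitMod X ⟶ OpowL X l ⊞ QC.unitMod X) ≫
          biprod.desc (phiL X l) (QC.homOfSection (QC.unitMod X) f)).app W' c = _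
        rw [biprod.inr_desc]
      rw [h1, mulHom_app, ← hu']
      change X.presheaf.map (homOfLE (inf_le_left : W' ≤ W)).op s * ↑u⁻¹ * ↑u = _
      rw [mul_assoc, Units.inv_mul, mul_one]
    · have h' : ∃ f' ∈ l, x ∈ X.basicOpen f' := by
        obtain ⟨f', hf', hxf'⟩ := h
        rcases List.mem_cons.mp hf' with rfl | hf'
        · exact absurd hxf' hxf
        · exact ⟨f', hf', hxf'⟩
      obtain ⟨W', hW', hxW', t', ht'⟩ := phiL_local_lift l x h' W s hxW
      refine ⟨W', hW', hxW',
        (biprod.inl : OpowL X l ⟶ OpowL X l ⊞ QC.unitMod X).app W' t', ?_⟩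
      have h1 : (phiL X (f :: l)).app W'
          ((biprod.inl : OpowL X l ⟶ OpowL X l ⊞ QC.unitMod X).app W' t') =
          (phiL X l).app W' t' := by
        change ((biprod.inl : OpowL X l ⟶ OpowL X l ⊞ QC.unitMod X) ≫
          biprod.desc (phiL X l) (QC.homOfSection (QC.unitMod X) f)).app W' t' = _
        rw [biprod.inl_desc]
      rw [h1, ht']

theorem epi_phiL (l : List Γ(X, ⊤)) (hcov : ∀ x : X, ∃ f ∈ l, x ∈ X.basicOpen f) :
    Epi (phiL X l) := by
  apply QC.epi_of_local_lift
  intro U t x hx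
  obtain ⟨W', hW', hxW', t', ht'⟩ := phiL_local_lift l x (hcov x) U t hx
  exact ⟨W', hW', hxW', t', ht'⟩

section
variable (h : ∀ (I : X.Modules) (i : I ⟶ QC.unitMod X), Mono i → I.IsQuasicoherent → H1Zero I)

include h in
theorem h1Zero_of_mono_OpowL : ∀ (l : List Γ(X, ⊤)) (G : X.Modules) (j : G ⟶ OpowL X l),
    Mono j → G.IsQuasicoherent → H1Zero G
  | [], G, j, hj, _ => by
    apply h1Zero_of_isZero
    rw [IsZero.iff_id_eq_zero]
    haveI := hj
    rw [← cancel_mono j]
    exact (isZero_zero _).eq_of_tgt _ _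
  | f :: l, G, j, hj, hG => by
    haveI := hj
    let g : G ⟶ QC.unitMod X := j ≫ biprod.snd
    have hK : (kernel g).IsQuasicoherent := QC.qc_kernel g hG inferInstance
    have hmono : Mono (kernel.ι g ≫ j ≫ (biprod.fst : OpowL X l ⊞ QC.unitMod X ⟶ OpowL X l)) := by
      apply Preadditive.mono_of_cancel_zero
      intro P a ha
      let j' : G ⟶ OpowL X l ⊞ QC.unitMod X := j
      have h1 : (a ≫ kernel.ι g) ≫ j' = 0 := by
        apply biprod.hom_ext
        · rw [zero_comp]
          have ha' : a ≫ kernel.ι g ≫ j' ≫ biprod.fst = 0 := ha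
          simpa only [Category.assoc] using ha'
        · rw [zero_comp, Category.assoc, Category.assoc]
          have : kernel.ι g ≫ j' ≫ biprod.snd = 0 := kernel.condition g
          rw [this, comp_zero]
      have h2 : a ≫ kernel.ι g = 0 := by
        rw [← cancel_mono j]
        exact h1.trans zero_comp.symm
      rw [← cancel_mono (kernel.ι g), h2, zero_comp]
    have h1 : H1Zero (kernel g) := h1Zero_of_mono_OpowL l (kernel g) _ hmono hK
    have h3 : H1Zero (Abelian.coimage g) :=
      h (Abelian.coimage g) (Abelian.factorThruCoimage g) inferInstance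
        (QC.qc_cokernel _ hK hG)
    let S : ShortComplex X.Modules :=
      ShortComplex.mk (kernel.ι g) (cokernel.π (kernel.ι g)) (cokernel.condition _)
    have hS : S.ShortExact :=
      { exact := ShortComplex.exact_of_g_is_cokernel S (cokernelIsCokernel _)
        mono_f := inferInstanceAs (Mono (kernel.ι g))
        epi_g := inferInstanceAs (Epi (cokernel.π (kernel.ι g))) }
    exact h1Zero_of_shortExact hS h1 h3

include h in
theorem span_eq_top_of_cover (s : Finset Γ(X, ⊤)) (hcov : ∀ x : X, ∃ f ∈ s, x ∈ X.basicOpen f) :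
    Ideal.span (s : Set Γ(X, ⊤)) = ⊤ := by
  classical
  let l := s.toList
  have hcov' : ∀ x : X, ∃ f ∈ l, x ∈ X.basicOpen f := by
    intro x
    obtain ⟨f, hf, hxf⟩ := hcov x
    exact ⟨f, Finset.mem_toList.mpr hf, hxf⟩
  have hepi := epi_phiL l hcov'
  have hq := qc_OpowL X l
  have hK : H1Zero (kernel (phiL X l)) :=
    h1Zero_of_mono_OpowL h l _ (kernel.ι _) inferInstance (QC.qc_kernel _ hq inferInstance)
  let S : ShortComplex X.Modules :=
    ShortComplex.mk (kernel.ι (phiL X l)) (phiL X l) (kernel.condition _)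
  have hS : S.ShortExact :=
    { exact := ShortComplex.exact_of_f_is_kernel S (kernelIsKernel _)
      mono_f := inferInstanceAs (Mono (kernel.ι (phiL X l)))
      epi_g := hepi }
  obtain ⟨t, ht⟩ := surjective_app_top_of_h1Zero hS hK (1 : Γ(X, ⊤))
  rw [Ideal.eq_top_iff_one]
  have h1 := phiL_app_top_mem_span l t
  have ht' : (phiL X l).app ⊤ t = (1 : Γ(X, ⊤)) := ht
  rw [ht'] at h1
  have hset : {f | f ∈ l} = (s : Set Γ(X, ⊤)) := by
    ext f
    exact Finset.mem_toList
  rw [hset] at h1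
  exact h1

include h in
/-- **Serre's criterion.** -/
theorem isAffine_of_h1Zero [CompactSpace X] : IsAffine X := by
  apply QC.isAffine_of_core
  · intro I i hi hI
    haveI := hi
    let S : ShortComplex X.Modules := ShortComplex.mk i (cokernel.π i) (cokernel.condition i)
    have hS : S.ShortExact :=
      { exact := ShortComplex.exact_of_g_is_cokernel S (cokernelIsCokernel _)
        mono_f := hi
        epi_g := inferInstanceAs (Epi (cokernel.π i)) }
    exact surjective_app_top_of_h1Zero hS (h I i hi hI)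
  · intro s hs
    exact span_eq_top_of_cover h s hs

end

end Groth.Agent.LD.SC
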