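import Groth.Agent.Lib.Lead.SC.Flasque
import Groth.Agent.Lib.Lead.SC.Shift
import Mathlib.Topology.Sheaves.Functors
import Mathlib.Topology.Sheaves.LocallySurjective

/-! # Leray: cohomology of a pushforward when the higher direct images vanish. -/

universe u
open CategoryTheory Limits Opposite Abelian TopologicalSpace

namespace Groth.Agent.LD.SC

section Top
variable {X Y : TopCat.{u}} (f : X ⟶ Y)

/-- pushforward of abelian sheaves. -/
noncomputable abbrev pushAb :
    Sheaf (Opens.grothendieckTopology X) AddCommGrpCat.{u} ⥤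
      Sheaf (Opens.grothendieckTopology Y) AddCommGrpCat.{u} :=
  TopCat.Sheaf.pushforward AddCommGrpCat.{u} f

instance : (pushAb f).Additive where

instance : (pushAb f).IsRightAdjoint :=
  inferInstanceAs (TopCat.Sheaf.pushforward AddCommGrpCat.{u} f).IsRightAdjoint

variable [HasExt.{u} (Sheaf (Opens.grothendieckTopology X) AddCommGrpCat.{u})]

lemma shortExact_push {S : ShortComplex (Sheaf (Opens.grothendieckTopology X) AddCommGrpCat.{u})}
    (hS : S.ShortExact) (𝔅 : Set (Opens Y)) (h𝔅 : Opens.IsBasis 𝔅)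
    (h1 : ∀ V ∈ 𝔅, Subsingleton
      (Ext (ZU (Opens.grothendieckTopology X) ((Opens.map f).obj V)) S.X₁ 1)) :
    (S.map (pushAb f)).ShortExact := by
  haveI := hS.mono_f
  haveI : Mono ((S.map (pushAb f)).f) := by
    change Mono ((pushAb f).map S.f)
    infer_instance
  haveI : Epi ((S.map (pushAb f)).g) := by
    apply (Sheaf.isLocallySurjective_iff_epi' (φ := (S.map (pushAb f)).g)).mp
    apply (TopCat.Presheaf.isLocallySurjective_iff _).mpr
    intro W t y hy
    obtain ⟨V, hV, hyV, hVW⟩ := Opens.isBasis_iff_nbhd.mp h𝔅 hy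
    refine ⟨V, hVW, ?_, hyV⟩
    obtain ⟨s, hs⟩ := surjective_app_of_subsingleton_ext1 hS _ (h1 V hV)
      ((S.X₃.obj.map (homOfLE ((Opens.map f).monotone hVW)).op) t)
    exact ⟨s, hs⟩
  exact ShortComplex.ShortExact.mk
    (hS.exact.map_of_mono_of_preservesKernel _ hS.mono_f inferInstance)

variable [HasExt.{u} (Sheaf (Opens.grothendieckTopology Y) AddCommGrpCat.{u})]
  [EnoughInjectives (Sheaf (Opens.grothendieckTopology X) AddCommGrpCat.{u})]
  [EnoughInjectives (Sheaf (Opens.grothendieckTopology Y) AddCommGrpCat.{u})]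

/-- **Leray**: if `Hⁱ(f⁻¹V, F) = 0` for `i > 0` and `V` in a basis, then
`Hᵖ(f⁻¹W, F) ≃ Hᵖ(W, f_* F)`. -/
theorem leray (𝔅 : Set (Opens Y)) (h𝔅 : Opens.IsBasis 𝔅) (p : ℕ) :
    ∀ (F : Sheaf (Opens.grothendieckTopology X) AddCommGrpCat.{u})
      (_ : ∀ V ∈ 𝔅, ∀ i : ℕ, Subsingleton
        (Ext (ZU (Opens.grothendieckTopology X) ((Opens.map f).obj V)) F (i + 1)))
      (W : Opens Y),
      Nonempty (Ext (ZU (Opens.grothendieckTopology X) ((Opens.map f).obj W)) F p ≃+
        Ext (ZU (Opens.grothendieckTopology Y) W) ((pushAb f).obj F) p) := by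
  induction p with
  | zero =>
    intro F _ W
    exact ⟨(H0Equiv ((Opens.map f).obj W) F).trans (H0Equiv W ((pushAb f).obj F)).symm⟩
  | succ n ih =>
    intro F hF W
    let S := ShortComplex.mk _ _ (cokernel.condition (Injective.ι F))
    have hS : S.ShortExact :=
      { exact := ShortComplex.exact_of_g_is_cokernel _ (cokernelIsCokernel S.f) }
    have hS' := shortExact_push f hS 𝔅 h𝔅 (fun V hV => hF V hV 0)
    haveI : TopCat.Sheaf.IsFlasque S.X₂ := isFlasque_of_injective (Injective.under F)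
    haveI : TopCat.Sheaf.IsFlasque ((pushAb f).obj S.X₂) := inferInstance
    rcases n with _ | n
    · have e1 := ext1Equiv hS ((Opens.map f).obj W) (subsingleton_ext_of_isFlasque 0 S.X₂ _)
      have e2 := ext1Equiv hS' W (subsingleton_ext_of_isFlasque 0 ((pushAb f).obj S.X₂) W)
      exact ⟨e1.symm.trans e2⟩
    · have hQ : ∀ V ∈ 𝔅, ∀ i : ℕ, Subsingleton
          (Ext (ZU (Opens.grothendieckTopology X) ((Opens.map f).obj V)) S.X₃ (i + 1)) :=
        fun V hV i => subsingleton_ext_of_shortExact₃ hS _ (i + 1)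
          (subsingleton_ext_of_isFlasque i S.X₂ _) (hF V hV (i + 1))
      obtain ⟨e⟩ := ih S.X₃ hQ W
      have e1 := extShiftEquiv hS (ZU (Opens.grothendieckTopology X) ((Opens.map f).obj W)) (n + 1)
        (subsingleton_ext_of_isFlasque n S.X₂ _) (subsingleton_ext_of_isFlasque (n + 1) S.X₂ _)
      have e2 := extShiftEquiv hS' (ZU (Opens.grothendieckTopology Y) W) (n + 1)
        (subsingleton_ext_of_isFlasque n ((pushAb f).obj S.X₂) W)
        (subsingleton_ext_of_isFlasque (n + 1) ((pushAb f).obj S.X₂) W)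
      exact ⟨e1.symm.trans (e.trans e2)⟩

end Top

end Groth.Agent.LD.SC
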