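import Groth.Agent.Lib.Lead.SC.Cyc
import Groth.Agent.Lib.Lead.SC.Leray

/-! # Vanishing of higher direct images from vanishing of cohomology on a basis. -/

universe w v u
open CategoryTheory Limits Opposite Abelian TopologicalSpace

namespace Groth.Agent.LD.SC

lemma subsingleton_ext_of_iso {C : Type u} [Category.{v} C] [Abelian C] [HasExt.{w} C]
    {A F F' : C} (e : F ≅ F') (n : ℕ) (h : Subsingleton (Ext A F n)) :
    Subsingleton (Ext A F' n) := by
  refine ⟨fun a b => ?_⟩
  have key : ∀ ξ : Ext A F' n,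
      ξ = (ξ.comp (Ext.mk₀ e.inv) (add_zero n)).comp (Ext.mk₀ e.hom) (add_zero n) := by
    intro ξ
    rw [Ext.comp_assoc_of_third_deg_zero, Ext.mk₀_comp_mk₀, e.inv_hom_id, Ext.comp_mk₀_id]
  rw [key a, key b, Subsingleton.elim (a.comp (Ext.mk₀ e.inv) (add_zero n))
    (b.comp (Ext.mk₀ e.inv) (add_zero n))]

section Top
variable {X Y : TopCat.{u}} (f : X ⟶ Y)
variable [HasExt.{u} (Sheaf (Opens.grothendieckTopology X) AddCommGrpCat.{u})]
  [EnoughInjectives (Sheaf (Opens.grothendieckTopology X) AddCommGrpCat.{u})]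

/-- cohomology vanishing for the cocycles of an injective resolution, by dimension shifting. -/
theorem subsingleton_ext_Zc {F : Sheaf (Opens.grothendieckTopology X) AddCommGrpCat.{u}}
    (I : InjectiveResolution F) (A : Sheaf (Opens.grothendieckTopology X) AddCommGrpCat.{u})
    (hA : ∀ (G : Sheaf (Opens.grothendieckTopology X) AddCommGrpCat.{u}) [Injective G] (i : ℕ),
      Subsingleton (Ext A G (i + 1)))
    (m : ℕ) (h : ∀ i, m ≤ i → Subsingleton (Ext A F (i + 1))) :
    ∀ (k i : ℕ), m ≤ i + k → Subsingleton (Ext A (Zc I.cocomplex k) (i + 1)) := by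
  intro k
  induction k with
  | zero =>
    intro i hi
    have e : F ≅ Zc I.cocomplex 0 :=
      IsLimit.conePointUniqueUpToIso I.isLimitKernelFork (limit.isLimit _)
    exact subsingleton_ext_of_iso e _ (h i (by omega))
  | succ k ih =>
    intro i hi
    have hS := Sc_shortExact I.cocomplex k (I.cocomplex_exactAt_succ k)
    exact subsingleton_ext_of_shortExact₃ hS A (i + 1)
      (hA (I.cocomplex.X k) i) (ih (i + 1) (by omega))

instance : PreservesFiniteLimits (pushAb f) := by
  haveI : PreservesLimits (pushAb f) := (Adjunction.ofIsRightAdjoint (pushAb f)).rightAdjoint_preservesLimits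
  infer_instance

/-- if `H^{i+1}(f⁻¹V, F) = 0` for `i ≥ m` and `V` in a basis, then `f_*` of an injective
resolution of `F` is exact in degrees `≥ m + 1`. -/
theorem exactAt_push_of_ext_vanish {F : Sheaf (Opens.grothendieckTopology X) AddCommGrpCat.{u}}
    (I : InjectiveResolution F) (𝔅 : Set (Opens Y)) (h𝔅 : Opens.IsBasis 𝔅) (m : ℕ)
    (h : ∀ V ∈ 𝔅, ∀ i, m ≤ i → Subsingleton
      (Ext (ZU (Opens.grothendieckTopology X) ((Opens.map f).obj V)) F (i + 1)))
    (p : ℕ) (hp : m ≤ p) :
    (((pushAb f).mapHomologicalComplex _).obj I.cocomplex).ExactAt (p + 1) := by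
  apply exactAt_map_succ
  have hS := Sc_shortExact I.cocomplex p (I.cocomplex_exactAt_succ p)
  have hS' := shortExact_push f hS 𝔅 h𝔅 (fun V hV =>
    subsingleton_ext_Zc I _ (fun G _ i => by
      haveI : TopCat.Sheaf.IsFlasque G := isFlasque_of_injective G
      exact subsingleton_ext_of_isFlasque i G _) m (h V hV) p 0 (by omega))
  exact hS'.epi_g

/-- vanishing of higher direct images from vanishing of cohomology on a basis. -/
theorem isZero_rightDerived_push {F : Sheaf (Opens.grothendieckTopology X) AddCommGrpCat.{u}}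
    (𝔅 : Set (Opens Y)) (h𝔅 : Opens.IsBasis 𝔅) (m : ℕ)
    (h : ∀ V ∈ 𝔅, ∀ i, m ≤ i → Subsingleton
      (Ext (ZU (Opens.grothendieckTopology X) ((Opens.map f).obj V)) F (i + 1)))
    (p : ℕ) (hp : m ≤ p) :
    IsZero (((pushAb f).rightDerived (p + 1)).obj F) := by
  let I := InjectiveResolution.of F
  refine IsZero.of_iso ?_ (I.isoRightDerivedObj (pushAb f) (p + 1))
  exact (HomologicalComplex.exactAt_iff_isZero_homology _ _).mp
    (exactAt_push_of_ext_vanish f I 𝔅 h𝔅 m h p hp)

end Top

end Groth.Agent.LD.SC
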