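import Groth.Agent.Lib.Lead.SC.CohPsh4
import Groth.Prelude.Def_CohCx
import Mathlib.CategoryTheory.Sites.Adjunction
import Mathlib.CategoryTheory.Adjunction.Opposites

/-! # Totally acyclic sheaves have vanishing cohomology and vanishing higher direct images. -/

universe u
open CategoryTheory Limits Opposite Abelian

namespace Groth.Agent.LD.SC

variable {C : Type u} [SmallCategory C] (J : GrothendieckTopology C)

lemma subsingleton_ext_of_iso_left {A : Type*} [Category A] [Abelian A] [HasExt.{u} A]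
    {X X' Y : A} (e : X ≅ X') (n : ℕ) (h : Subsingleton (Ext X Y n)) :
    Subsingleton (Ext X' Y n) := by
  refine ⟨fun a b => ?_⟩
  have key : ∀ ξ : Ext X' Y n,
      ξ = (Ext.mk₀ e.inv).comp ((Ext.mk₀ e.hom).comp ξ (zero_add n)) (zero_add n) := by
    intro ξ
    rw [← Ext.comp_assoc_of_second_deg_zero, Ext.mk₀_comp_mk₀, e.inv_hom_id, Ext.mk₀_id_comp]
  rw [key a, key b, Subsingleton.elim ((Ext.mk₀ e.hom).comp a (zero_add n))
    ((Ext.mk₀ e.hom).comp b (zero_add n))]

/-- the free abelian sheaf on the sheafified representable is the free abelian sheaf `ℤ_U`. -/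
noncomputable def freeSheafifyIso (U : C) :
    (presheafToSheaf J AddCommGrpCat.{u}).obj
      (((presheafToSheaf J (Type u)).obj (yoneda.obj U)).obj ⋙ AddCommGrpCat.free.{u}) ≅ ZU J U :=
  let adj1 := (sheafificationAdjunction J (Type u)).comp
    (Sheaf.adjunction J AddCommGrpCat.adj.{u})
  let adj2 := (Adjunction.whiskerRight Cᵒᵖ AddCommGrpCat.adj.{u}).comp
    (sheafificationAdjunction J AddCommGrpCat.{u})
  (Adjunction.leftAdjointUniq adj1 adj2).app (yoneda.obj U)

theorem subsingleton_ext_of_isTotallyAcyclic (F : Sheaf J AddCommGrpCat.{u})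
    (hF : CohCx.IsTotallyAcyclic F) (U : C) (p : ℕ) :
    Subsingleton (Ext (ZU J U) F (p + 1)) :=
  subsingleton_ext_of_iso_left (freeSheafifyIso J U) (p + 1)
    (hF ((presheafToSheaf J (Type u)).obj (yoneda.obj U)) p)

theorem isZero_rightDerived_push_of_isTotallyAcyclic {D : Type u} [SmallCategory D]
    (K : GrothendieckTopology D) (u' : D ⥤ C) [u'.IsContinuous K J]
    (F : Sheaf J AddCommGrpCat.{u}) (hF : CohCx.IsTotallyAcyclic F) (p : ℕ) :
    IsZero (((pushS J K u').rightDerived (p + 1)).obj F) := by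
  obtain ⟨e⟩ := nonempty_rightDerived_push_iso J K u' F (p + 1)
  refine IsZero.of_iso ?_ e
  apply Functor.map_isZero
  rw [Functor.isZero_iff]
  intro V
  haveI : Subsingleton ((u'.op ⋙ Sheaf.cohomologyPresheaf.{u} F (p + 1)).obj V) :=
    subsingleton_ext_of_isTotallyAcyclic J F hF (u'.obj V.unop) p
  exact AddCommGrpCat.isZero_of_subsingleton _

end Groth.Agent.LD.SC
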