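import Groth.Agent.Lib.Lead.SC.RPushComp
import Groth.Agent.Lib.Lead.SC.ExtRes
import Groth.Agent.Lib.Lead.SC.Global
import Groth.Prelude.Def_CohTop

/-! # Degenerate Leray: if `R^q f_* F = 0` for `q > 0` then `H^p(f⁻¹W, F) ≃ H^p(W, f_* F)`. -/

universe u
open CategoryTheory Limits Opposite Abelian TopologicalSpace

namespace Groth.Agent.LD.SC

variable {X Y : TopCat.{u}} (f : X ⟶ Y)

/-- exactness of `f_* I^•` in positive degrees from vanishing of the higher direct images. -/
lemma exactAt_push_of_isZero_rightDerived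
    {F : Sheaf (Opens.grothendieckTopology X) AddCommGrpCat.{u}}
    (R : InjectiveResolution F)
    (h : ∀ q : ℕ, IsZero (((pushAb f).rightDerived (q + 1)).obj F)) (n : ℕ) :
    (((pushAb f).mapHomologicalComplex _).obj R.cocomplex).ExactAt (n + 1) := by
  rw [HomologicalComplex.exactAt_iff_isZero_homology]
  exact (h n).of_iso (R.isoRightDerivedObj (pushAb f) (n + 1)).symm

theorem leray_of_isZero_rightDerived
    (F : Sheaf (Opens.grothendieckTopology X) AddCommGrpCat.{u})
    (h : ∀ q : ℕ, IsZero (((pushAb f).rightDerived (q + 1)).obj F)) (W : Opens Y) (p : ℕ) :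
    Nonempty (Ext (ZU (Opens.grothendieckTopology X) ((Opens.map f).obj W)) F p ≃+
      Ext (ZU (Opens.grothendieckTopology Y) W) ((pushAb f).obj F) p) := by
  rcases p with _ | n
  · exact ⟨(H0Equiv ((Opens.map f).obj W) F).trans (H0Equiv W ((pushAb f).obj F)).symm⟩
  · let R := InjectiveResolution.of F
    let R' := mapInjRes R (pushAb f) (fun n => injective_pushAb f _ (R.injective n))
      (exactAt_push_of_isZero_rightDerived f R h)
    refine nonempty_ext_equiv_of_homEquiv R _ R' _
      (fun n => (homAddEquiv ((Opens.map f).obj W) (R.cocomplex.X n)).trans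
        (homAddEquiv W ((pushAb f).obj (R.cocomplex.X n))).symm) ?_ n
    intro m g
    apply (homAddEquiv W ((pushAb f).obj (R.cocomplex.X (m + 1)))).injective
    change homEquiv W _ ((homEquiv W ((pushAb f).obj (R.cocomplex.X (m + 1)))).symm
      (homEquiv ((Opens.map f).obj W) _ (g ≫ R.cocomplex.d m (m + 1)))) =
      homEquiv W _ ((homEquiv W ((pushAb f).obj (R.cocomplex.X m))).symm
        (homEquiv ((Opens.map f).obj W) _ g) ≫ (pushAb f).map (R.cocomplex.d m (m + 1)))
    rw [Equiv.apply_symm_apply, homEquiv_comp, homEquiv_comp, Equiv.apply_symm_apply]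
    rfl

/-- global version. -/
theorem leray_global
    (F : Sheaf (Opens.grothendieckTopology X) AddCommGrpCat.{u})
    (h : ∀ q : ℕ, IsZero (((pushAb f).rightDerived (q + 1)).obj F)) (p : ℕ) :
    Nonempty (Sheaf.H F p ≃+ Sheaf.H ((pushAb f).obj F) p) := by
  obtain ⟨e⟩ := leray_of_isZero_rightDerived f F h ⊤ p
  exact ⟨(HEquiv (T := (⊤ : Opens X)) isTerminalTop F p).trans
    (e.trans (HEquiv (T := (⊤ : Opens Y)) isTerminalTop ((pushAb f).obj F) p).symm)⟩

end Groth.Agent.LD.SC
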