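import Groth.Agent.Lib.Lead.SC.CohPsh3
import Mathlib.CategoryTheory.Sites.Pullback

/-! # `Rᵖ u_* F` is the sheafification of `V ↦ Hᵖ(u V, F)`. -/

universe u
open CategoryTheory Limits Opposite Abelian

namespace Groth.Agent.LD.SC

variable {C D : Type u} [SmallCategory C] [SmallCategory D] (J : GrothendieckTopology C)
  (K : GrothendieckTopology D) (u' : D ⥤ C) [u'.IsContinuous K J]

/-- the direct image of abelian sheaves along a continuous functor. -/
noncomputable abbrev pushS : Sheaf J AddCommGrpCat.{u} ⥤ Sheaf K AddCommGrpCat.{u} :=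
  u'.sheafPushforwardContinuous AddCommGrpCat.{u} K J

instance : (pushS J K u').Additive where

instance : (pushS J K u').IsRightAdjoint := by unfold pushS; infer_instance

instance : PreservesFiniteLimits (pushS J K u') := by
  haveI : PreservesLimits (pushS J K u') :=
    (Adjunction.ofIsRightAdjoint (pushS J K u')).rightAdjoint_preservesLimits
  infer_instance

/-- a sheaf is the sheafification of its underlying presheaf. -/
noncomputable def sheafifyIso (G : Sheaf K AddCommGrpCat.{u}) :
    (presheafToSheaf K AddCommGrpCat.{u}).obj G.obj ≅ G :=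
  (asIso (sheafificationAdjunction K AddCommGrpCat.{u}).counit).app G

/-- a short complex of sheaves is the sheafification of its underlying short complex of
presheaves. -/
noncomputable def shortComplexSheafifyIso (S : ShortComplex (Sheaf K AddCommGrpCat.{u})) :
    (S.map (sheafToPresheaf K AddCommGrpCat.{u})).map (presheafToSheaf K AddCommGrpCat.{u}) ≅ S :=
  ShortComplex.isoMk (sheafifyIso K S.X₁) (sheafifyIso K S.X₂) (sheafifyIso K S.X₃)
    ((sheafificationAdjunction K AddCommGrpCat.{u}).counit.naturality S.f).symm
    ((sheafificationAdjunction K AddCommGrpCat.{u}).counit.naturality S.g).symm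

/-- homology of a short complex of sheaves is the sheafification of the presheaf homology. -/
noncomputable def homologySheafifyIso (S : ShortComplex (Sheaf K AddCommGrpCat.{u})) :
    S.homology ≅ (presheafToSheaf K AddCommGrpCat.{u}).obj
      (S.map (sheafToPresheaf K AddCommGrpCat.{u})).homology :=
  (ShortComplex.homologyMapIso (shortComplexSheafifyIso K S)).symm ≪≫
    (S.map (sheafToPresheaf K AddCommGrpCat.{u})).mapHomologyIso
      (presheafToSheaf K AddCommGrpCat.{u})

theorem nonempty_rightDerived_push_iso (F : Sheaf J AddCommGrpCat.{u}) (i : ℕ) :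
    Nonempty (((pushS J K u').rightDerived i).obj F ≅
      (presheafToSheaf K AddCommGrpCat.{u}).obj (u'.op ⋙ Sheaf.cohomologyPresheaf.{u} F i)) := by
  rcases i with _ | n
  · refine ⟨(pushS J K u').rightDerivedZeroIsoSelf.app F ≪≫
      (sheafifyIso K ((pushS J K u').obj F)).symm ≪≫
      (presheafToSheaf K AddCommGrpCat.{u}).mapIso ?_⟩
    exact Functor.isoWhiskerLeft u'.op (cohomologyPresheafZeroIso F).symm
  · let R := InjectiveResolution.of F
    let L := ((pushS J K u').mapHomologicalComplex _).obj R.cocomplex
    let SL := L.sc' n (n+1) (n+2)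
    let W := (Functor.whiskeringLeft Dᵒᵖ Cᵒᵖ AddCommGrpCat.{u}).obj u'.op
    have e1 := R.isoRightDerivedObj (pushS J K u') (n+1)
    have e2 : L.homology (n+1) ≅ SL.homology :=
      ShortComplex.homologyMapIso (L.isoSc' n (n+1) (n+2) (by simp) (by simp))
    have e3 := homologySheafifyIso K SL
    have e5 : SL.map (sheafToPresheaf K AddCommGrpCat.{u}) = (Spsh R n).map W := rfl
    have e6 : ((Spsh R n).map W).homology ≅ W.obj (Spsh R n).homology :=
      (Spsh R n).mapHomologyIso W
    have e7 : W.obj (Spsh R n).homology ≅ W.obj (Sheaf.cohomologyPresheaf.{u} F (n+1)) :=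
      W.mapIso (asIso (γbar R n))
    rw [e5] at e3
    exact ⟨e1 ≪≫ e2 ≪≫ e3 ≪≫ (presheafToSheaf K AddCommGrpCat.{u}).mapIso (e6 ≪≫ e7)⟩

end Groth.Agent.LD.SC
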