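import Mathlib
import Groth.Prelude.Def_Coh
import Groth.Agent.Lib.Lead.SC.CohPsh4
open AlgebraicGeometry CategoryTheory Limits TopologicalSpace Opposite Abelian

/-!
Single-degree criterion: `Rⁱ f_* F = 0` as soon as `Hⁱ(f⁻¹V, F) = 0` for `V` in a basis.
-/

namespace Groth.Agent.LD.SC

universe u

/-- the sheafification of a presheaf of abelian groups vanishing on a basis is zero. -/
theorem isZero_presheafToSheaf_of_basis {Y : TopCat.{u}}
    (P : (Opens Y)ᵒᵖ ⥤ AddCommGrpCat.{u}) (𝔅 : Set (Opens Y)) (h𝔅 : Opens.IsBasis 𝔅)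
    (h : ∀ V ∈ 𝔅, Subsingleton (P.obj (op V))) :
    IsZero ((presheafToSheaf (Opens.grothendieckTopology Y) AddCommGrpCat.{u}).obj P) := by
  rw [IsZero.iff_id_eq_zero]
  apply ((sheafificationAdjunction (Opens.grothendieckTopology Y) AddCommGrpCat.{u}).homEquiv
    P _).injective
  have key : ∀ (G : Sheaf (Opens.grothendieckTopology Y) AddCommGrpCat.{u})
      (φ ψ : P ⟶ G.obj), φ = ψ := by
    intro G φ ψ
    ext ⟨V⟩ s
    let ι : Type u := {W : Opens Y // W ∈ 𝔅 ∧ W ≤ V}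
    have hcov : V ≤ ⨆ i : ι, i.1 := by
      intro x hx
      obtain ⟨W, hW, hxW, hWV⟩ := (Opens.isBasis_iff_nbhd.mp h𝔅) hx
      exact Opens.mem_iSup.mpr ⟨⟨W, hW, hWV⟩, hxW⟩
    refine TopCat.Sheaf.eq_of_locally_eq' (⟨G.obj, G.property⟩ : TopCat.Sheaf AddCommGrpCat.{u} Y)
      (fun i : ι => i.1) V (fun i => homOfLE i.2.2) hcov _ _ ?_
    intro i
    haveI := h i.1 i.2.1
    have h1 := NatTrans.naturality_apply φ (homOfLE i.2.2).op s
    have h2 := NatTrans.naturality_apply ψ (homOfLE i.2.2).op s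
    change G.obj.map (homOfLE i.2.2).op (φ.app (op V) s) =
      G.obj.map (homOfLE i.2.2).op (ψ.app (op V) s)
    rw [← h1, ← h2, Subsingleton.elim (P.map (homOfLE i.2.2).op s) 0, map_zero, map_zero]
  exact key _ _ _

/-- **single-degree criterion**: if `Hⁱ(f⁻¹V, F) = 0` for `V` in a basis of `Y` then
`Rⁱ f_* F = 0`. -/
theorem isZero_RpushAb_of_basis {X Y : Scheme.{u}} (f : X ⟶ Y)
    (F : Sheaf (Opens.grothendieckTopology X) AddCommGrpCat.{u}) (i : ℕ)
    (𝔅 : Set Y.Opens) (h𝔅 : Opens.IsBasis 𝔅)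
    (h : ∀ V ∈ 𝔅, Subsingleton (Ext (ZU (Opens.grothendieckTopology X) (f ⁻¹ᵁ V)) F i)) :
    IsZero ((Coh.RpushAb f i).obj F) := by
  obtain ⟨e⟩ := nonempty_rightDerived_push_iso (Opens.grothendieckTopology X)
    (Opens.grothendieckTopology Y) (Opens.map f.base) F i
  refine IsZero.of_iso ?_ e
  exact isZero_presheafToSheaf_of_basis _ 𝔅 h𝔅 (fun V hV => h V hV)

end Groth.Agent.LD.SC
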