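import Groth.Agent.Lib.Lead.SC.Leray
import Groth.Agent.Lib.Lead.SC.Affine
import Groth.Agent.Lib.Lead.SC.Global

/-! # Cohomology of the restriction to an open subscheme. -/

universe u
open CategoryTheory Limits Opposite Abelian TopologicalSpace AlgebraicGeometry

namespace Groth.Agent.LD.SC

variable {X Y : Scheme.{u}} (j : Y ⟶ X) [IsOpenImmersion j]

/-- restriction of abelian sheaves along an open immersion. -/
noncomputable def resAb : Sheaf (JX X) AddCommGrpCat.{u} ⥤ Sheaf (JX Y) AddCommGrpCat.{u} :=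
  j.opensFunctor.sheafPushforwardContinuous AddCommGrpCat.{u} (JX Y) (JX X)

lemma resAb_toAb (M : X.Modules) : (resAb j).obj (Coh.toAb M) = Coh.toAb (M.restrict j) := rfl

instance : (resAb j).IsRightAdjoint := by unfold resAb; infer_instance

instance : (resAb j).Additive where

instance : PreservesFiniteLimits (resAb j) := by
  haveI : PreservesLimits (resAb j) :=
    (Adjunction.ofIsRightAdjoint (resAb j)).rightAdjoint_preservesLimits
  infer_instance

lemma shortExact_resAb {S : ShortComplex (Sheaf (JX X) AddCommGrpCat.{u})}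
    (hS : S.ShortExact) : (S.map (resAb j)).ShortExact := by
  haveI := hS.mono_f
  haveI := hS.epi_g
  haveI : Mono ((S.map (resAb j)).f) := by
    change Mono ((resAb j).map S.f)
    infer_instance
  haveI : Epi ((S.map (resAb j)).g) := by
    apply (Sheaf.isLocallySurjective_iff_epi' (φ := (S.map (resAb j)).g)).mp
    apply (TopCat.Presheaf.isLocallySurjective_iff _).mpr
    intro W t y hy
    have hls := (Sheaf.isLocallySurjective_iff_epi' (φ := S.g)).mpr inferInstance
    have hls' := (TopCat.Presheaf.isLocallySurjective_iff _).mp hls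
    obtain ⟨V, hV, ⟨s, hs⟩, hyV⟩ := hls' (j ''ᵁ W) t (j.base y) ⟨y, hy, rfl⟩
    refine ⟨j ⁻¹ᵁ V, ?_, ?_, hyV⟩
    · intro z hz
      have : j.base z ∈ j ''ᵁ W := hV hz
      obtain ⟨z', hz', e⟩ := this
      rwa [← j.isOpenEmbedding.injective e]
    · have hle : j ''ᵁ (j ⁻¹ᵁ V) ≤ V := j.image_preimage_le V
      refine ⟨S.X₂.obj.map (homOfLE hle).op s, ?_⟩
      have nat := ConcreteCategory.congr_hom (S.g.hom.naturality (homOfLE hle).op) s
      change (ConcreteCategory.hom (S.g.hom.app (op (j ''ᵁ (j ⁻¹ᵁ V)))))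
        ((ConcreteCategory.hom (S.X₂.obj.map (homOfLE hle).op)) s) = _
      rw [← ConcreteCategory.comp_apply, nat, ConcreteCategory.comp_apply, hs]
      change (ConcreteCategory.hom (S.X₃.obj.map (homOfLE hle).op))
        ((ConcreteCategory.hom (S.X₃.obj.map _)) t) = (ConcreteCategory.hom (S.X₃.obj.map _)) t
      rw [← ConcreteCategory.comp_apply, ← Functor.map_comp]
      rfl
  exact ShortComplex.ShortExact.mk
    (hS.exact.map_of_mono_of_preservesKernel _ hS.mono_f inferInstance)

instance isFlasque_resAb (F : Sheaf (JX X) AddCommGrpCat.{u}) [TopCat.Sheaf.IsFlasque F] :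
    TopCat.Sheaf.IsFlasque ((resAb j).obj F) where
  epi {U V} i := by
    change Epi (F.obj.map (j.opensFunctor.op.map i))
    infer_instance

/-- **cohomology of a restriction**: `Hᵖ(W, F|_Y) ≃ Hᵖ(j(W), F)`. -/
theorem ext_resAb_equiv (p : ℕ) :
    ∀ (F : Sheaf (JX X) AddCommGrpCat.{u}) (W : Y.Opens),
      Nonempty (Ext (ZU (JX Y) W) ((resAb j).obj F) p ≃+ Ext (ZU (JX X) (j ''ᵁ W)) F p) := by
  induction p with
  | zero =>
    intro F W
    exact ⟨(H0Equiv W ((resAb j).obj F)).trans (H0Equiv (j ''ᵁ W) F).symm⟩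
  | succ n ih =>
    intro F W
    let S := ShortComplex.mk _ _ (cokernel.condition (Injective.ι F))
    have hS : S.ShortExact :=
      { exact := ShortComplex.exact_of_g_is_cokernel _ (cokernelIsCokernel S.f) }
    have hS' := shortExact_resAb j hS
    haveI : TopCat.Sheaf.IsFlasque S.X₂ := isFlasque_of_injective (Injective.under F)
    haveI : TopCat.Sheaf.IsFlasque ((resAb j).obj S.X₂) := inferInstance
    rcases n with _ | n
    · have e1 := ext1Equiv hS (j ''ᵁ W) (subsingleton_ext_of_isFlasque 0 S.X₂ _)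
      have e2 := ext1Equiv hS' W (subsingleton_ext_of_isFlasque 0 ((resAb j).obj S.X₂) W)
      exact ⟨e2.symm.trans e1⟩
    · obtain ⟨e⟩ := ih S.X₃ W
      have e1 := extShiftEquiv hS (ZU (JX X) (j ''ᵁ W)) (n + 1)
        (subsingleton_ext_of_isFlasque n S.X₂ _) (subsingleton_ext_of_isFlasque (n + 1) S.X₂ _)
      have e2 := extShiftEquiv hS' (ZU (JX Y) W) (n + 1)
        (subsingleton_ext_of_isFlasque n ((resAb j).obj S.X₂) W)
        (subsingleton_ext_of_isFlasque (n + 1) ((resAb j).obj S.X₂) W)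
      exact ⟨e2.symm.trans (e.trans e1)⟩

/-- `Hᵖ(Y, M|_Y) ≃ Hᵖ(j(Y), M)` for an open immersion `j : Y ⟶ X`. -/
theorem HH_restrict_equiv (M : X.Modules) (p : ℕ) :
    Nonempty (Coh.HH Y (M.restrict j) p ≃+ Ext (ZU (JX X) j.opensRange) (Coh.toAb M) p) := by
  obtain ⟨e⟩ := ext_resAb_equiv j p (Coh.toAb M) ⊤
  have e0 := HEquiv (J := JX Y) CategoryTheory.Limits.isTerminalTop (Coh.toAb (M.restrict j)) p
  have h : j ''ᵁ (⊤ : Y.Opens) = j.opensRange := j.image_top_eq_opensRange
  rw [h] at e
  exact ⟨e0.trans e⟩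

end Groth.Agent.LD.SC
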