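import Groth.Agent.Lib.Lead.SC.QAffCrit
import Groth.Agent.Lib.Lead.QC.AmpleIso

/-! # A generation criterion for affineness: a quasi-compact quasi-separated scheme on which
every quasi-coherent module is a quotient of a coproduct of acyclic quasi-coherent modules is
affine. -/

universe u
open CategoryTheory Limits AlgebraicGeometry TopologicalSpace Opposite Abelian

namespace Groth.Agent.LD.SC
open Groth.Agent.LD.QC

variable {X : Scheme.{u}}

/-- cohomology of a coproduct of modules vanishes when that of each summand does. -/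
theorem subsingleton_ext_sigma [CompactSpace X] [QuasiSeparatedSpace X] {J : Type u}
    (G : J → X.Modules) (q : ℕ)
    (h : ∀ j, Subsingleton (Ext (ZU (JX X) (⊤ : X.Opens)) (Coh.toAb (G j)) q)) :
    Subsingleton (Ext (ZU (JX X) (⊤ : X.Opens)) (Coh.toAb (∐ G)) q) := by
  haveI : PreservesColimitsOfSize.{u, u} (SheafOfModules.toSheaf.{u} X.ringCatSheaf) :=
    MS.toSheaf_preservesColimits _
  let e : (SheafOfModules.toSheaf X.ringCatSheaf).obj (∐ G) ≅
      ∐ (fun j => (SheafOfModules.toSheaf X.ringCatSheaf).obj (G j)) := PreservesCoproduct.iso _ _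
  have h1 := Colim.subsingleton_ext_coproduct_of_qcqs (⊤ : X.Opens)
    isCompact_univ isQuasiSeparated_univ q (fun j => Coh.toAb (G j)) h
  exact Groth.Agent.LD.QCQS.subsingleton_ext_of_iso e.symm q h1

/-- **generation criterion for affineness.** -/
theorem isAffine_of_generators [CompactSpace X] [QuasiSeparatedSpace X] (𝒢 : X.Modules → Prop)
    (hqc : ∀ G, 𝒢 G → G.IsQuasicoherent)
    (hvan : ∀ G, 𝒢 G → ∀ p : ℕ, 0 < p → Subsingleton (Coh.HH X G p))
    (hgen : ∀ M : X.Modules, M.IsQuasicoherent → ∃ (J : Type u) (G : J → X.Modules)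
      (_ : ∀ j, 𝒢 (G j)) (π : (∐ G) ⟶ M), Epi π) : IsAffine X := by
  have hE : ∀ G, 𝒢 G → ∀ p : ℕ, 0 < p →
      Subsingleton (Ext (ZU (JX X) (⊤ : X.Opens)) (Coh.toAb G) p) := fun G hG p hp =>
    haveI := hvan G hG p hp
    (HEquiv (J := JX X) CategoryTheory.Limits.isTerminalTop (Coh.toAb G) p).symm.toEquiv.subsingleton
  obtain ⟨d, hd⟩ := exists_cohDim_of_qcqs X
  have key : ∀ k p : ℕ, 0 < p → d ≤ p + k → ∀ M : X.Modules, M.IsQuasicoherent →
      Subsingleton (Ext (ZU (JX X) (⊤ : X.Opens)) (Coh.toAb M) p) := by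
    intro k
    induction k with
    | zero =>
      intro p hp hdp M hM
      haveI := hd M hM p (by omega)
      exact (HEquiv (J := JX X) CategoryTheory.Limits.isTerminalTop (Coh.toAb M) p).symm.toEquiv.subsingleton
    | succ k ih =>
      intro p hp hdp M hM
      haveI := hM
      obtain ⟨J, G, hG, π, hπ⟩ := hgen M hM
      have hqcG : (∐ G).IsQuasicoherent :=
        qc_colimit (Discrete.functor G) (fun j => hqc _ (hG j.as))
      let S : ShortComplex X.Modules := ShortComplex.mk (kernel.ι π) π (kernel.condition π)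
      have hS : S.ShortExact :=
        { exact := ShortComplex.exact_of_f_is_kernel S (kernelIsKernel _)
          mono_f := inferInstanceAs (Mono (kernel.ι π))
          epi_g := hπ }
      have hS' := shortExact_toSheaf hS
      exact subsingleton_ext_of_shortExact₃ (C := Sheaf (JX X) AddCommGrpCat.{u}) hS'
        (ZU (JX X) (⊤ : X.Opens)) p
        (subsingleton_ext_sigma G p (fun j => hE _ (hG j) p hp))
        (ih (p + 1) (by omega) (by omega) (kernel π) (qc_kernel π hqcG hM))
  apply isAffine_of_h1Zero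
  intro I i hi hI
  exact key d 1 one_pos (by omega) I hI

/-- local generation by finite families gives an epimorphism from a coproduct. -/
theorem exists_epi_sigma_of_local (𝒢 : X.Modules → Prop) (M : X.Modules)
    (h : ∀ (V : X.Opens) (t : Γ(M, V)) (x : X), x ∈ V →
      ∃ (k : ℕ) (G : Fin k → X.Modules) (_ : ∀ j, 𝒢 (G j)) (φ : ∀ j, G j ⟶ M) (W : X.Opens)
        (hW : W ≤ V) (_ : x ∈ W) (g : ∀ j, Γ(G j, W)),
        ∑ j, (φ j).app W (g j) = M.presheaf.map (homOfLE hW).op t) :
    ∃ (J : Type u) (G : J → X.Modules) (_ : ∀ j, 𝒢 (G j)) (π : (∐ G) ⟶ M), Epi π := by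
  classical
  choose k G hG φ W hW hxW g hg using h
  let A : Type u := Σ V : X.Opens, Γ(M, V) × V
  let kk : A → ℕ := fun a => k a.1 a.2.1 a.2.2.1 a.2.2.2
  let J : Type u := Σ a : A, Fin (kk a)
  let G' : J → X.Modules := fun j => G j.1.1 j.1.2.1 j.1.2.2.1 j.1.2.2.2 j.2
  let φ' : ∀ j : J, G' j ⟶ M := fun j => φ j.1.1 j.1.2.1 j.1.2.2.1 j.1.2.2.2 j.2
  refine ⟨J, G', fun j => hG _ _ _ _ _, Limits.Sigma.desc φ', ?_⟩
  apply epi_of_local_lift
  intro U t x hx
  let a : A := ⟨U, t, ⟨x, hx⟩⟩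
  refine ⟨W U t x hx, hW U t x hx, hxW U t x hx,
    ∑ j : Fin (kk a), (Limits.Sigma.ι G' ⟨a, j⟩).app (W U t x hx) (g U t x hx j), ?_⟩
  rw [map_sum, ← hg U t x hx]
  refine Finset.sum_congr rfl (fun j _ => ?_)
  have : Limits.Sigma.ι G' ⟨a, j⟩ ≫ Limits.Sigma.desc φ' = φ' ⟨a, j⟩ := Limits.Sigma.ι_desc _ _
  rw [← ConcreteCategory.comp_apply, ← Scheme.Modules.Hom.comp_app, this]

/-- the projections of a finite constant coproduct. -/
noncomputable def sigmaProj (N : X.Modules) (K : ℕ) (j : Fin K) :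
    (∐ fun _ : Fin K => N) ⟶ N :=
  Limits.Sigma.desc (fun i => if i = j then 𝟙 _ else 0)

lemma sigmaProj_total (N : X.Modules) (K : ℕ) :
    ∑ j, sigmaProj N K j ≫ Limits.Sigma.ι (fun _ : Fin K => N) j = 𝟙 (∐ fun _ : Fin K => N) := by
  classical
  apply Limits.Sigma.hom_ext
  intro i
  rw [Preadditive.comp_sum, Category.comp_id]
  have h : ∀ j : Fin K, Limits.Sigma.ι (fun _ : Fin K => N) i ≫ sigmaProj N K j ≫
      Limits.Sigma.ι (fun _ : Fin K => N) j =
      if j = i then Limits.Sigma.ι (fun _ : Fin K => N) i else 0 := by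
    intro j
    rw [← Category.assoc, sigmaProj, Limits.Sigma.ι_desc]
    by_cases hij : i = j
    · subst hij
      simp
    · rw [if_neg hij, if_neg (Ne.symm hij), zero_comp]
  rw [Finset.sum_congr rfl (fun j _ => h j), Finset.sum_ite_eq' Finset.univ i]
  simp

end Groth.Agent.LD.SC
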