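import Groth.Agent.Lib.Lead.SC.RPush
import Groth.Agent.Lib.Lead.SC.Restrict
import Groth.Agent.Lib.Lead.SC.SerreCrit
import Groth.Agent.Lib.Lead.QC.SubExtRestrict

/-! # Relative Serre criterion: `R¹f_*` vanishing on ideals implies affineness. -/

universe u
open CategoryTheory Limits Opposite Abelian TopologicalSpace AlgebraicGeometry

namespace Groth.Agent.LD.SC

variable {X Y : Scheme.{u}}

/-- if `R¹f_* A = 0` and `H¹(V, f_* A) = 0`, then `H¹(f⁻¹V, A) = 0`. -/
theorem subsingleton_ext1_preimage (f : X ⟶ Y) (A : Sheaf (JX X) AddCommGrpCat.{u})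
    (hR : IsZero (((pushAb f.base).rightDerived 1).obj A)) (V : Y.Opens)
    (hV : Subsingleton (Ext (ZU (JX Y) V) ((pushAb f.base).obj A) 1)) :
    Subsingleton (Ext (ZU (JX X) (f ⁻¹ᵁ V)) A 1) := by
  let I := InjectiveResolution.of A
  let K := I.cocomplex
  have hS := Sc_shortExact K 0 (I.cocomplex_exactAt_succ 0)
  have e : A ≅ Zc K 0 := IsLimit.conePointUniqueUpToIso I.isLimitKernelFork (limit.isLimit _)
  -- exactness of the pushforward
  have hex : (((pushAb f.base).mapHomologicalComplex _).obj K).ExactAt 1 := by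
    rw [HomologicalComplex.exactAt_iff_isZero_homology]
    exact IsZero.of_iso hR (I.isoRightDerivedObj (pushAb f.base) 1).symm
  haveI hepi : Epi ((pushAb f.base).map (πc K 0)) := epi_map_πc_of_exactAt (pushAb f.base) K 0 hex
  haveI := hS.mono_f
  have hS' : ((Sc K 0).map (pushAb f.base)).ShortExact := by
    haveI : Mono (((Sc K 0).map (pushAb f.base)).f) := by
      change Mono ((pushAb f.base).map (Sc K 0).f)
      infer_instance
    haveI : Epi (((Sc K 0).map (pushAb f.base)).g) := hepi
    exact ShortComplex.ShortExact.mk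
      (hS.exact.map_of_mono_of_preservesKernel _ hS.mono_f inferInstance)
  have hV' : Subsingleton (Ext (ZU (JX Y) V) (((Sc K 0).map (pushAb f.base)).X₁) 1) :=
    subsingleton_ext_of_iso ((pushAb f.base).mapIso e) 1 hV
  have hsurj := surjective_app_of_subsingleton_ext1 hS' V hV'
  haveI : TopCat.Sheaf.IsFlasque (Sc K 0).X₂ := isFlasque_of_injective (K.X 0)
  have e1 := ext1Equiv hS (f ⁻¹ᵁ V) (subsingleton_ext_of_isFlasque 0 (Sc K 0).X₂ _)
  have hq : Subsingleton ((Sc K 0).X₃.obj.obj (op (f ⁻¹ᵁ V)) ⧸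
      ((Sc K 0).g.hom.app (op (f ⁻¹ᵁ V))).hom.range) := by
    refine ⟨fun a b => ?_⟩
    induction a using QuotientAddGroup.induction_on with | H a => ?_
    induction b using QuotientAddGroup.induction_on with | H b => ?_
    rw [QuotientAddGroup.eq]
    exact hsurj (-a + b)
  have h1 : Subsingleton (Ext (ZU (JX X) (f ⁻¹ᵁ V)) (Sc K 0).X₁ 1) :=
    e1.symm.toEquiv.subsingleton
  exact subsingleton_ext_of_iso e.symm 1 h1

/-- **relative Serre criterion** for one affine open of the base. -/
theorem isAffineOpen_preimage_of_R1 (f : X ⟶ Y) [QuasiCompact f] [QuasiSeparatedSpace X]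
    (h : ∀ (I : X.Modules) (i : I ⟶ QC.unitMod X), Mono i → I.IsQuasicoherent →
      IsZero (((pushAb f.base).rightDerived 1).obj (Coh.toAb I)))
    (V : Y.Opens) (hV : IsAffineOpen V) : IsAffineOpen (f ⁻¹ᵁ V) := by
  let U : X.Opens := f ⁻¹ᵁ V
  have hUc : IsCompact (U : Set X) := QuasiCompact.isCompact_preimage (f := f) _ V.2 hV.isCompact
  haveI : CompactSpace U := isCompact_iff_compactSpace.mp hUc
  haveI : QuasiCompact U.ι := inferInstance
  haveI : QuasiSeparated f := inferInstance
  change IsAffine U.toScheme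
  apply isAffine_of_h1Zero
  intro J i hi hJ
  haveI := hi
  let i' : J ⟶ (QC.unitMod X).restrict U.ι := i ≫ (Scheme.Modules.restrictUnitIso U.ι).inv
  haveI : Mono i' := mono_comp _ _
  haveI : (QC.unitMod X).IsQuasicoherent := inferInstance
  obtain ⟨I, ι, e, hι, hI, -⟩ := QC.exists_qc_extension U.ι (QC.unitMod X) J hJ i'
  have hR := h I ι hι hI
  haveI := hI
  have hpush : ((Scheme.Modules.pushforward f).obj I).IsQuasicoherent := QC.qc_pushforward f I
  have h1 := subsingleton_ext1_preimage f (Coh.toAb I) hR V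
    (@subsingleton_ext_of_isAffineOpen _ ((Scheme.Modules.pushforward f).obj I) hpush 0 V hV)
  obtain ⟨e2⟩ := ext_resAb_equiv U.ι 1 (Coh.toAb I) ⊤
  have htop : U.ι ''ᵁ (⊤ : U.toScheme.Opens) = U := by
    rw [Scheme.Hom.image_top_eq_opensRange, Scheme.Opens.opensRange_ι]
  rw [htop] at e2
  have h2 : Subsingleton (Ext (ZU (JX U.toScheme) ⊤) (Coh.toAb (I.restrict U.ι)) 1) :=
    e2.toEquiv.subsingleton
  exact subsingleton_ext_of_iso ((SheafOfModules.toSheaf _).mapIso e) 1 h2

/-- **relative Serre criterion** (Stacks 01XF-type): a quasi-compact morphism between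
quasi-separated schemes with `R¹f_* I = 0` for all quasi-coherent ideals `I` is affine. -/
theorem isAffineHom_of_R1 (f : X ⟶ Y) [QuasiCompact f] [QuasiSeparatedSpace X]
    (h : ∀ (I : X.Modules) (i : I ⟶ QC.unitMod X), Mono i → I.IsQuasicoherent →
      IsZero (((pushAb f.base).rightDerived 1).obj (Coh.toAb I))) : IsAffineHom f :=
  ⟨fun V hV => isAffineOpen_preimage_of_R1 f h V hV⟩

end Groth.Agent.LD.SC
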