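import Groth.Agent.Lib.Lead.SC.Cyc

/-! # The image of an injective resolution under a left exact functor preserving injectives and
exactness. -/

universe v v' u u'
open CategoryTheory Limits

namespace Groth.Agent.LD.SC

variable {C : Type u} [Category.{v} C] [Abelian C]
  {D : Type u'} [Category.{v'} D] [Abelian D]

/-- `G I` is an injective resolution of `G Z` when `G` is left exact, `G Iⁿ` is injective and
`G I` is exact in positive degrees. -/
noncomputable def mapInjRes {Z : C} (I : InjectiveResolution Z) (G : C ⥤ D) [G.Additive]
    [PreservesFiniteLimits G] (hinj : ∀ n, Injective (G.obj (I.cocomplex.X n)))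
    (hex : ∀ n, ((G.mapHomologicalComplex _).obj I.cocomplex).ExactAt (n + 1)) :
    InjectiveResolution (G.obj Z) where
  cocomplex := (G.mapHomologicalComplex _).obj I.cocomplex
  injective := hinj
  ι := (CochainComplex.fromSingle₀Equiv _ _).symm ⟨G.map (I.ι.f 0), by
    change G.map (I.ι.f 0) ≫ G.map (I.cocomplex.d 0 1) = 0
    rw [← G.map_comp, I.ι_f_zero_comp_complex_d, G.map_zero]⟩
  quasiIso := ⟨fun n => by
    cases n
    · rw [CochainComplex.quasiIsoAt₀_iff, ShortComplex.quasiIso_iff_of_zeros]
      · refine (ShortComplex.exact_and_mono_f_iff_of_iso (S₂ := ShortComplex.mk (G.map (I.ι.f 0))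
          (G.map (I.cocomplex.d 0 1)) (by
            rw [← G.map_comp, I.ι_f_zero_comp_complex_d, G.map_zero])) ?_).2 ⟨?_, ?_⟩
        · exact ShortComplex.isoMk (Iso.refl _) (Iso.refl _) (Iso.refl _)
            (by simp; erw [Category.id_comp, Category.comp_id])
            (by simp; erw [Category.id_comp, Category.comp_id])
        · exact ShortComplex.exact_of_f_is_kernel _
            (isLimitForkMapOfIsLimit' G I.ι_f_zero_comp_complex_d I.isLimitKernelFork)
        · haveI : G.PreservesMonomorphisms :=
            preservesMonomorphisms_of_preservesLimitsOfShape G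
          exact inferInstanceAs (Mono (G.map (I.ι.f 0)))
      · rfl
      · rfl
      · exact HomologicalComplex.shape ((G.mapHomologicalComplex (ComplexShape.up ℕ)).obj
          I.cocomplex) 0 0 (by simp)
    · rw [quasiIsoAt_iff_exactAt]
      · exact hex _
      · apply CochainComplex.exactAt_succ_single_obj⟩

/-- Grothendieck composition in the degenerate case: if `G` sends an injective resolution of `Z`
to an injective resolution of `G Z`, then `RᵖH (G Z) ≅ Rᵖ(G ⋙ H) Z`. -/
noncomputable def rightDerivedCompIso {E : Type*} [Category E] [Abelian E]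
    [HasInjectiveResolutions C] [HasInjectiveResolutions D]
    {Z : C} (I : InjectiveResolution Z) (G : C ⥤ D) [G.Additive]
    [PreservesFiniteLimits G] (hinj : ∀ n, Injective (G.obj (I.cocomplex.X n)))
    (hex : ∀ n, ((G.mapHomologicalComplex _).obj I.cocomplex).ExactAt (n + 1))
    (H : D ⥤ E) [H.Additive] (GH : C ⥤ E) [GH.Additive] (e : G ⋙ H ≅ GH) (p : ℕ) :
    (H.rightDerived p).obj (G.obj Z) ≅ (GH.rightDerived p).obj Z :=
  (mapInjRes I G hinj hex).isoRightDerivedObj H p ≪≫
    (HomologicalComplex.homologyFunctor E _ p).mapIso
      (show (H.mapHomologicalComplex _).obj (mapInjRes I G hinj hex).cocomplex ≅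
          (GH.mapHomologicalComplex _).obj I.cocomplex from
        HomologicalComplex.Hom.isoOfComponents
          (fun i => (show ((H.mapHomologicalComplex _).obj (mapInjRes I G hinj hex).cocomplex).X i ≅
            ((GH.mapHomologicalComplex _).obj I.cocomplex).X i from e.app (I.cocomplex.X i)))
        (fun i j _ => by
          change e.hom.app _ ≫ GH.map (I.cocomplex.d i j) =
            H.map (G.map (I.cocomplex.d i j)) ≫ e.hom.app _
          exact (e.hom.naturality _).symm)) ≪≫
    (I.isoRightDerivedObj GH p).symm

end Groth.Agent.LD.SC
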