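import Groth.Agent.Lib.Lead.SC.Basic

/-! # Consequences of the Mayer–Vietoris sequence. -/

universe w v u
open CategoryTheory Limits Opposite Abelian

namespace Groth.Agent.LD.SC

section
variable {A : Type u} [Category.{v} A] [Abelian A] [HasExt.{w} A]

lemma ext_biprod_eq_zero {X Y F : A} {n : ℕ} (x : Ext (X ⊞ Y) F n)
    (h1 : (Ext.mk₀ (biprod.inl : X ⟶ X ⊞ Y)).comp x (zero_add n) = 0)
    (h2 : (Ext.mk₀ (biprod.inr : Y ⟶ X ⊞ Y)).comp x (zero_add n) = 0) : x = 0 := by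
  have h : x = (Ext.mk₀ (𝟙 (X ⊞ Y))).comp x (zero_add n) := by simp
  rw [h, ← biprod.total, Ext.mk₀_add, Ext.add_comp, ← Ext.mk₀_comp_mk₀, ← Ext.mk₀_comp_mk₀,
    Ext.comp_assoc_of_second_deg_zero, Ext.comp_assoc_of_second_deg_zero, h1, h2]
  simp

lemma ext_biprod_desc_comp_eq_zero {X Y Z F : A} {n : ℕ} (a : X ⟶ Z) (b : Y ⟶ Z) (ξ : Ext Z F n)
    (ha : (Ext.mk₀ a).comp ξ (zero_add n) = 0) (hb : (Ext.mk₀ b).comp ξ (zero_add n) = 0) :
    (Ext.mk₀ (biprod.desc a b)).comp ξ (zero_add n) = 0 := by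
  apply ext_biprod_eq_zero
  · rw [← Ext.comp_assoc_of_second_deg_zero, Ext.mk₀_comp_mk₀, biprod.inl_desc]; exact ha
  · rw [← Ext.comp_assoc_of_second_deg_zero, Ext.mk₀_comp_mk₀, biprod.inr_desc]; exact hb

end

variable {C : Type u} [Category.{v} C] {J : GrothendieckTopology C}
  [HasWeakSheafify J (Type v)] [HasSheafify J AddCommGrpCat.{v}]
  [HasExt.{w} (Sheaf J AddCommGrpCat.{v})]

lemma MV_g_comp_eq_zero (S : J.MayerVietorisSquare) (F : Sheaf J AddCommGrpCat.{v}) {n : ℕ}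
    (ξ : Ext (ZU J S.X₄) F n) (h2 : Hres S.f₂₄ ξ = 0) (h3 : Hres S.f₃₄ ξ = 0) :
    (Ext.mk₀ S.shortComplex.g).comp ξ (zero_add n) = 0 := by
  exact ext_biprod_desc_comp_eq_zero (ZUmap J S.f₂₄) (ZUmap J S.f₃₄) ξ h2 h3

/-- Mayer–Vietoris: a class of degree `≥ 2` vanishing on both pieces vanishes if the cohomology
of the intersection one degree lower vanishes. -/
theorem MV_eq_zero_succ (S : J.MayerVietorisSquare) (F : Sheaf J AddCommGrpCat.{v}) (n : ℕ)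
    (ξ : Ext (ZU J S.X₄) F (n + 2)) (h2 : Hres S.f₂₄ ξ = 0) (h3 : Hres S.f₃₄ ξ = 0)
    (h1 : Subsingleton (Ext (ZU J S.X₁) F (n + 1))) : ξ = 0 := by
  obtain ⟨x₁, hx₁⟩ := Ext.contravariant_sequence_exact₃ S.shortComplex_shortExact F ξ
    (MV_g_comp_eq_zero S F ξ h2 h3) (show 1 + (n + 1) = n + 2 by omega)
  have hx0 : x₁ = 0 := @Subsingleton.elim _ h1 x₁ 0
  rw [← hx₁, hx0]
  exact Ext.comp_zero S.shortComplex_shortExact.extClass F (n + 1) (n + 2) _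

/-- Mayer–Vietoris: a class of degree `1` vanishing on both pieces vanishes if every section
over the intersection is a difference of sections over the pieces. -/
theorem MV_eq_zero_one (S : J.MayerVietorisSquare) (F : Sheaf J AddCommGrpCat.{v})
    (ξ : Ext (ZU J S.X₄) F 1) (h2 : Hres S.f₂₄ ξ = 0) (h3 : Hres S.f₃₄ ξ = 0)
    (hsurj : ∀ s : F.obj.obj (op S.X₁), ∃ (a : F.obj.obj (op S.X₂)) (b : F.obj.obj (op S.X₃)),
      F.obj.map S.f₁₂.op a - F.obj.map S.f₁₃.op b = s) : ξ = 0 := by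
  obtain ⟨x₁, hx₁⟩ := Ext.contravariant_sequence_exact₃ S.shortComplex_shortExact F ξ
    (MV_g_comp_eq_zero S F ξ h2 h3) (show 1 + 0 = 1 by omega)
  obtain ⟨q, rfl⟩ := Ext.addEquiv₀.symm.surjective x₁
  obtain ⟨a, b, hab⟩ := hsurj (homEquiv S.X₁ F q)
  have hq : q = S.shortComplex.f ≫ biprod.desc ((homEquiv S.X₂ F).symm a)
      ((homEquiv S.X₃ F).symm b) := by
    apply (homEquiv S.X₁ F).injective
    have : S.shortComplex.f ≫ biprod.desc ((homEquiv S.X₂ F).symm a)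
        ((homEquiv S.X₃ F).symm b) =
        ZUmap J S.f₁₂ ≫ (homEquiv S.X₂ F).symm a + -(ZUmap J S.f₁₃ ≫ (homEquiv S.X₃ F).symm b) := by
      change biprod.lift (ZUmap J S.f₁₂) (-ZUmap J S.f₁₃) ≫ _ = _
      rw [biprod.lift_desc, Preadditive.neg_comp]
    rw [this]
    have hneg : ∀ φ : ZU J S.X₁ ⟶ F, homEquiv S.X₁ F (-φ) = -homEquiv S.X₁ F φ :=
      fun φ => map_neg (homAddEquiv S.X₁ F) φ
    rw [homEquiv_add, hneg, homEquiv_map, homEquiv_map, Equiv.apply_symm_apply,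
      Equiv.apply_symm_apply, ← sub_eq_add_neg, hab]
  rw [← hx₁]
  change S.shortComplex_shortExact.extClass.comp (Ext.mk₀ q) _ = 0
  rw [hq, ← Ext.mk₀_comp_mk₀]
  exact S.shortComplex_shortExact.extClass_comp_assoc _

end Groth.Agent.LD.SC
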