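import Groth.Agent.Lib.Lead.SC.Flasque
import Groth.Agent.Lib.Lead.SC.Global
import Groth.Agent.Lib.Lead.SC.Affine
import Groth.Agent.Lib.Lead.QC.Support
import Groth.Agent.Lib.Lead.QC.Extend
import Mathlib.AlgebraicGeometry.Noetherian

/-! # Modules of finite type with zero-dimensional support are flasque (locally Noetherian case). -/

universe u
open CategoryTheory Limits Opposite Abelian TopologicalSpace AlgebraicGeometry

namespace Groth.Agent.LD.SC

/-- in a quasi-sober Noetherian space, a closed set all of whose points are closed is finite. -/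
lemma finite_of_closed_points {Y : Type*} [TopologicalSpace Y] [NoetherianSpace Y] [QuasiSober Y]
    (S : Set Y) (hS : IsClosed S) (hpt : ∀ y ∈ S, IsClosed ({y} : Set Y)) : S.Finite := by
  obtain ⟨T, hTfin, hTcl, hTirr, hTsup⟩ :=
    NoetherianSpace.exists_finite_set_isClosed_irreducible hS
  rw [hTsup]
  refine Set.Finite.sUnion hTfin fun t ht => ?_
  obtain ⟨g, hg⟩ := QuasiSober.sober (hTirr t ht) (hTcl t ht)
  have hgS : g ∈ S := by
    rw [hTsup]
    exact ⟨t, ht, hg.mem⟩
  have : t = {g} := by
    rw [← hg.def, (hpt g hgS).closure_eq]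
  rw [this]
  exact Set.finite_singleton g

variable {X : Scheme.{u}}

/-- on a locally Noetherian scheme, a closed set of closed points meets every affine open in a
finite set. -/
lemma finite_inter_of_closed_points [IsLocallyNoetherian X] (Z : Set X) (hZ : IsClosed Z)
    (hpt : ∀ z ∈ Z, IsClosed ({z} : Set X)) (W : X.Opens) (hW : IsAffineOpen W) :
    (Z ∩ (W : Set X)).Finite := by
  haveI : IsNoetherianRing Γ(X, W) := IsLocallyNoetherian.component_noetherian ⟨W, hW⟩
  haveI : NoetherianSpace W := noetherianSpace_of_isAffineOpen W hW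
  haveI : QuasiSober W := W.isOpenEmbedding'.quasiSober
  have hfin := finite_of_closed_points (Y := W) (Subtype.val ⁻¹' Z)
    (hZ.preimage continuous_subtype_val) (fun y hy => by
      have := (hpt y.1 hy).preimage (continuous_subtype_val (p := fun x => x ∈ W))
      have e : ({y} : Set W) = Subtype.val ⁻¹' ({y.1} : Set X) := by
        ext w
        simp only [Set.mem_singleton_iff, Set.mem_preimage]
        exact Subtype.ext_iff
      rw [e]
      exact this)
  have : Z ∩ (W : Set X) = Subtype.val '' (Subtype.val ⁻¹' Z : Set W) := by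
    ext x
    constructor
    · rintro ⟨hxZ, hxW⟩
      exact ⟨⟨x, hxW⟩, hxZ, rfl⟩
    · rintro ⟨w, hw, rfl⟩
      exact ⟨hw, w.2⟩
  rw [this]
  exact hfin.image _

/-- on a locally Noetherian scheme, for a closed set `Z` of closed points and any open `U`, the
closure of `Z ∩ U` is contained in `U`. -/
lemma closure_inter_subset [IsLocallyNoetherian X] (Z : Set X) (hZ : IsClosed Z)
    (hpt : ∀ z ∈ Z, IsClosed ({z} : Set X)) (U : X.Opens) :
    closure (Z ∩ (U : Set X)) ⊆ (U : Set X) := by
  intro x hx
  obtain ⟨_, ⟨W, hW, rfl⟩, hxW, -⟩ := X.isBasis_affineOpens.exists_subset_of_mem_open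
    (Set.mem_univ x) isOpen_univ
  have hfin : (Z ∩ (U : Set X) ∩ (W : Set X)).Finite :=
    (finite_inter_of_closed_points Z hZ hpt W hW).subset (fun y hy => ⟨hy.1.1, hy.2⟩)
  have hcl : IsClosed (Z ∩ (U : Set X) ∩ (W : Set X)) := by
    have : Z ∩ (U : Set X) ∩ (W : Set X) = ⋃ y ∈ (Z ∩ (U : Set X) ∩ (W : Set X)), {y} := by
      ext y; simp
    rw [this]
    exact hfin.isClosed_biUnion (fun y hy => hpt y hy.1.1)
  have hx' : x ∈ closure (Z ∩ (U : Set X) ∩ (W : Set X)) := by
    rw [mem_closure_iff] at hx ⊢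
    intro o ho hxo
    obtain ⟨y, ⟨hyo, hyW⟩, hyZU⟩ := hx (o ∩ W) (ho.inter W.2) ⟨hxo, hxW⟩
    exact ⟨y, hyo, hyZU, hyW⟩
  rw [hcl.closure_eq] at hx'
  exact hx'.1.2

end Groth.Agent.LD.SC

namespace Groth.Agent.LD.SC
variable {X : Scheme.{u}}

/-- a section over an open on which all stalks vanish is zero. -/
lemma eq_zero_of_stalks_subsingleton (M : X.Modules) (V : X.Opens)
    (hV : ∀ x ∈ V, Subsingleton (M.presheaf.stalk x)) (s : Γ(M, V)) : s = 0 := by
  apply TopCat.Presheaf.section_ext ⟨M.presheaf, M.isSheaf⟩ V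
  intro x hx
  haveI := hV x hx
  exact Subsingleton.elim _ _

/-- on a locally Noetherian scheme, a module whose support is a closed set of closed points is
flasque. -/
theorem isFlasque_of_support_closed_points [IsLocallyNoetherian X] (M : X.Modules)
    (hZ : IsClosed {x : X | ¬ Subsingleton (M.presheaf.stalk x)})
    (hpt : ∀ x : X, ¬ Subsingleton (M.presheaf.stalk x) → IsClosed ({x} : Set X)) :
    TopCat.Sheaf.IsFlasque (Coh.toAb M) where
  epi {U' V'} i := by
    rw [AddCommGrpCat.epi_iff_surjective]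
    intro s
    obtain ⟨U⟩ := U'
    obtain ⟨V⟩ := V'
    have hVU : V ≤ U := i.unop.le
    set Z : Set X := {x : X | ¬ Subsingleton (M.presheaf.stalk x)} with hZdef
    have hcl := closure_inter_subset Z hZ (fun z hz => hpt z hz) V
    let V₂ : X.Opens := ⟨(closure (Z ∩ (V : Set X)))ᶜ, isClosed_closure.isOpen_compl⟩
    have h0 : M.presheaf.map (homOfLE (inf_le_left : V ⊓ V₂ ≤ V)).op s =
        M.presheaf.map (homOfLE (inf_le_right : V ⊓ V₂ ≤ V₂)).op (0 : Γ(M, V₂)) := by
      rw [map_zero]
      apply eq_zero_of_stalks_subsingleton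
      intro x hx
      by_contra hx'
      exact hx.2 (subset_closure ⟨hx', hx.1⟩)
    obtain ⟨z, hz1, -⟩ := QC.glue2 M s (0 : Γ(M, V₂)) h0
    have hle : U ≤ V ⊔ V₂ := by
      intro x _
      by_cases hx : x ∈ closure (Z ∩ (V : Set X))
      · exact Or.inl (hcl hx)
      · exact Or.inr hx
    refine ⟨M.presheaf.map (homOfLE hle).op z, ?_⟩
    rw [← hz1]
    change M.presheaf.map i (M.presheaf.map (homOfLE hle).op z) = _
    rw [← ConcreteCategory.comp_apply, ← M.presheaf.map_comp]
    rfl

/-- **coherent modules with zero-dimensional support are acyclic** (locally Noetherian case). -/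
theorem subsingleton_HH_of_support_closed_points [IsLocallyNoetherian X] (M : X.Modules)
    (hZ : IsClosed {x : X | ¬ Subsingleton (M.presheaf.stalk x)})
    (hpt : ∀ x : X, ¬ Subsingleton (M.presheaf.stalk x) → IsClosed ({x} : Set X)) (p : ℕ) :
    Subsingleton (Coh.HH X M (p + 1)) := by
  haveI := isFlasque_of_support_closed_points M hZ hpt
  exact subsingleton_H_of_subsingleton_ext (J := JX X) isTerminalTop (Coh.toAb M) (p + 1)
    (subsingleton_ext_of_isFlasque p (Coh.toAb M) ⊤)

end Groth.Agent.LD.SC
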