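import Groth.Agent.S0028
import Groth.Agent.S0032
import Groth.Agent.Lib.Lead.QCQS.Main
import Groth.Agent.Lib.Lead.QCQS.ExtIso
import Groth.Agent.Lib.Lead.SC.Restrict
import Groth.Agent.Lib.Lead.SC.LerayDeg
import Groth.Agent.Lib.Lead.SC.RPush
import Groth.Agent.Lib.Lead.QC.Push
import Groth.Agent.Lib.Lead.RP.LemmaA

/-! # Vanishing of higher direct images above a degree is stable under base change (S7448). -/

set_option autoImplicit false
universe u
open CategoryTheory Limits Opposite Abelian AlgebraicGeometry TopologicalSpace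

namespace Groth.Agent.LD.SC

open Groth.Agent.LD.QC Groth.Agent.LD.QCQS Groth.Agent.LD.RP

variable {X Y : Scheme.{u}} (f : X ⟶ Y)

/-- (A) if `R^q f_*` kills all quasi-coherent modules, then `H^q(f⁻¹V, N) = 0` for every affine open
`V` of the base and every quasi-coherent `N` on `f⁻¹V`. -/
theorem subsingleton_HH_preimage_of_isZero_RpushAb [QuasiCompact f] [QuasiSeparated f]
    (q : ℕ)
    (hvan : ∀ (M : X.Modules), M.IsQuasicoherent →
      IsZero ((Coh.RpushAb f q).obj (Coh.toAb M)))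
    (V : Y.Opens) (hV : IsAffineOpen V) [QuasiCompact (f ⁻¹ᵁ V).ι]
    (N : (f ⁻¹ᵁ V).toScheme.Modules) [N.IsQuasicoherent] :
    Subsingleton (Coh.HH (f ⁻¹ᵁ V).toScheme N q) := by
  haveI := hasInjRes X
  haveI := hasInjRes (f ⁻¹ᵁ V).toScheme
  let u := (f ⁻¹ᵁ V).ι
  let G : X.Modules := (Scheme.Modules.pushforward u).obj N
  haveI : G.IsQuasicoherent := qc_pushforward u N
  have h0 : IsZero ((Coh.RpushAb f q).obj (Coh.toAb G)) := hvan G inferInstance
  obtain ⟨e⟩ := nonempty_toAb_Rpush_iso f G q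
  have h1 : IsZero ((Coh.Rpush f q).obj G) := isZero_of_isZero_τ _ (h0.of_iso e)
  obtain ⟨e2⟩ := nonempty_restrict_Rpush_iso f V G q
  have h2 : IsZero (((Scheme.Modules.pushforward (f ∣_ V)).rightDerived q).obj (G.restrict u)) :=
    ((Scheme.Modules.restrictFunctor V.ι).map_isZero h1).of_iso e2.symm
  let c : G.restrict u ≅ N := asIso ((Scheme.Modules.restrictAdjunction u).counit.app N)
  have h3 : IsZero (((Scheme.Modules.pushforward (f ∣_ V)).rightDerived q).obj N) :=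
    h2.of_iso (((Scheme.Modules.pushforward (f ∣_ V)).rightDerived q).mapIso c.symm)
  haveI : IsAffine V.toScheme := hV
  haveI : QuasiCompact (f ∣_ V) :=
    MorphismProperty.of_isPullback (isPullback_morphismRestrict f V).flip inferInstance
  haveI : QuasiSeparated (f ∣_ V) :=
    MorphismProperty.of_isPullback (isPullback_morphismRestrict f V).flip inferInstance
  obtain ⟨e3⟩ := nonempty_toAb_Rpush_iso (f ∣_ V) N q
  have h4 : IsZero ((Coh.RpushAb (f ∣_ V) q).obj (Coh.toAb N)) :=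
    ((τ V.toScheme).map_isZero h3).of_iso e3.symm
  obtain ⟨e4⟩ := Groth.Agent.S0032.result (f ∣_ V) N q
  haveI : Subsingleton ↑(((Coh.RpushAb (f ∣_ V) q).obj (Coh.toAb N)).obj.obj (op ⊤)) := by
    have hz : IsZero (((Coh.RpushAb (f ∣_ V) q).obj (Coh.toAb N)).obj.obj (op ⊤)) :=
      ((sheafSections (Opens.grothendieckTopology V.toScheme) AddCommGrpCat.{u}).obj
        (op ⊤)).map_isZero h4
    exact AddCommGrpCat.subsingleton_of_isZero hz
  exact e4.toEquiv.subsingleton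


section BC

variable {X' Y' : Scheme.{u}} {f} {g : Y' ⟶ Y} {f' : X' ⟶ Y'} {g' : X' ⟶ X}

/-- the restricted square over `V' ≤ g⁻¹V` is cartesian -/
theorem exists_isPullback_restrict (sq : IsPullback g' f' f g) (V : Y.Opens) (V' : Y'.Opens)
    (hle : V' ≤ g ⁻¹ᵁ V) :
    ∃ (h : (f' ⁻¹ᵁ V').toScheme ⟶ (f ⁻¹ᵁ V).toScheme) (g₀ : V'.toScheme ⟶ V.toScheme),
      h ≫ (f ⁻¹ᵁ V).ι = (f' ⁻¹ᵁ V').ι ≫ g' ∧ g₀ ≫ V.ι = V'.ι ≫ g ∧
      IsPullback h (f' ∣_ V') (f ∣_ V) g₀ := by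
  have hr0 : Set.range (V'.ι ≫ g) ⊆ Set.range V.ι := by
    rintro _ ⟨x, rfl⟩
    rw [Scheme.Opens.range_ι]
    exact hle x.2
  have hr1 : Set.range ((f' ⁻¹ᵁ V').ι ≫ g') ⊆ Set.range (f ⁻¹ᵁ V).ι := by
    rintro _ ⟨x, rfl⟩
    rw [Scheme.Opens.range_ι]
    change f (g' x.1) ∈ V
    have e : f (g' x.1) = g (f' x.1) := by
      rw [← Scheme.Hom.comp_apply, ← Scheme.Hom.comp_apply, sq.w]
    rw [e]
    exact hle x.2
  let g₀ : V'.toScheme ⟶ V.toScheme := IsOpenImmersion.lift V.ι (V'.ι ≫ g) hr0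
  let h : (f' ⁻¹ᵁ V').toScheme ⟶ (f ⁻¹ᵁ V).toScheme :=
    IsOpenImmersion.lift (f ⁻¹ᵁ V).ι ((f' ⁻¹ᵁ V').ι ≫ g') hr1
  have hg₀ : g₀ ≫ V.ι = V'.ι ≫ g := IsOpenImmersion.lift_fac _ _ _
  have hh : h ≫ (f ⁻¹ᵁ V).ι = (f' ⁻¹ᵁ V').ι ≫ g' := IsOpenImmersion.lift_fac _ _ _
  refine ⟨h, g₀, hh, hg₀, ?_⟩
  have hout : IsPullback (h ≫ (f ⁻¹ᵁ V).ι) (f' ∣_ V') f (g₀ ≫ V.ι) := by
    rw [hh, hg₀]
    exact (isPullback_morphismRestrict f' V').flip.paste_horiz sq
  refine IsPullback.of_right hout ?_ (isPullback_morphismRestrict f V).flip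
  rw [← cancel_mono V.ι, Category.assoc, Category.assoc, morphismRestrict_ι, hg₀,
    ← Category.assoc, hh, Category.assoc, sq.w, ← Category.assoc, ← morphismRestrict_ι,
    Category.assoc]

/-- (B) vanishing of cohomology on the preimages of small affine opens of the new base. -/
theorem subsingleton_ext_preimage_of_isPullback [QuasiCompact f] [QuasiSeparated f]
    [QuasiSeparatedSpace X]
    (sq : IsPullback g' f' f g) (q : ℕ)
    (hvan : ∀ (M : X.Modules), M.IsQuasicoherent →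
      IsZero ((Coh.RpushAb f q).obj (Coh.toAb M)))
    (V : Y.Opens) (hV : IsAffineOpen V) (V' : Y'.Opens) (hV' : IsAffineOpen V')
    (hle : V' ≤ g ⁻¹ᵁ V) (M' : X'.Modules) [M'.IsQuasicoherent] :
    Subsingleton (Ext (ZU (JX X') (f' ⁻¹ᵁ V')) (Coh.toAb M') q) := by
  obtain ⟨h, g₀, hh, hg₀, pb⟩ := exists_isPullback_restrict sq V V' hle
  haveI : IsAffine V.toScheme := hV
  haveI : IsAffine V'.toScheme := hV'
  haveI : IsAffineHom h := MorphismProperty.of_isPullback (P := @IsAffineHom) pb.flip inferInstance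
  let P : (f' ⁻¹ᵁ V').toScheme.Modules := M'.restrict (f' ⁻¹ᵁ V').ι
  haveI : P.IsQuasicoherent := qc_restrict _ M'
  haveI : ((Scheme.Modules.pushforward h).obj P).IsQuasicoherent := qc_pushforward h P
  haveI : CompactSpace (f ⁻¹ᵁ V).toScheme :=
    isCompact_iff_compactSpace.mp (f.isCompact_preimage hV.isCompact)
  haveI : QuasiCompact (f ⁻¹ᵁ V).ι := inferInstance
  have hA := subsingleton_HH_preimage_of_isZero_RpushAb f q hvan V hV
    ((Scheme.Modules.pushforward h).obj P)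
  obtain ⟨e⟩ := leray_global h.base (Coh.toAb P)
    (fun k => Groth.Agent.S0028.result h P (k + 1) (Nat.succ_pos k)) q
  have hB : Subsingleton (Coh.HH (f' ⁻¹ᵁ V').toScheme P q) := by
    haveI : Subsingleton (Sheaf.H ((pushAb h.base).obj (Coh.toAb P)) q) := hA
    exact e.toEquiv.subsingleton
  obtain ⟨e2⟩ := HH_restrict_equiv (f' ⁻¹ᵁ V').ι M' q
  rw [Scheme.Opens.opensRange_ι] at e2
  haveI := hB
  exact e2.symm.toEquiv.subsingleton

/-- **S7448**: vanishing of `R^i f_*` above degree `d` on quasi-coherent modules is stable under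
base change. -/
theorem isZero_RpushAb_of_isPullback [CompactSpace X] [QuasiSeparatedSpace X]
    [QuasiSeparatedSpace Y] (d : ℕ)
    (hvan : ∀ (M : X.Modules) (i : ℕ), M.IsQuasicoherent → d < i →
      IsZero ((Coh.RpushAb f i).obj (Coh.toAb M)))
    (sq : IsPullback g' f' f g) (M' : X'.Modules) [M'.IsQuasicoherent] (i : ℕ) (hi : d < i) :
    IsZero ((Coh.RpushAb f' i).obj (Coh.toAb M')) := by
  obtain ⟨p, rfl⟩ : ∃ p, i = p + 1 := ⟨i - 1, by omega⟩
  let 𝔅 : Set Y'.Opens := {V' | IsAffineOpen V' ∧ ∃ V : Y.Opens, IsAffineOpen V ∧ V' ≤ g ⁻¹ᵁ V}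
  have h𝔅 : Opens.IsBasis 𝔅 := by
    rw [Opens.isBasis_iff_nbhd]
    intro O y hy
    obtain ⟨V, hV, hyV⟩ : ∃ V : Y.Opens, IsAffineOpen V ∧ g y ∈ V := by
      obtain ⟨_, ⟨V, hV, rfl⟩, hyV, -⟩ := (Scheme.isBasis_affineOpens Y).exists_subset_of_mem_open
        (Set.mem_univ (g y)) isOpen_univ
      exact ⟨V, hV, hyV⟩
    have hy' : y ∈ O ⊓ g ⁻¹ᵁ V := ⟨hy, hyV⟩
    obtain ⟨_, ⟨V', hV', rfl⟩, hyV', hle⟩ :=
      (Scheme.isBasis_affineOpens Y').exists_subset_of_mem_open hy' (O ⊓ g ⁻¹ᵁ V).2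
    exact ⟨V', ⟨hV', V, hV, fun z hz => (hle hz).2⟩, hyV', fun z hz => (hle hz).1⟩
  refine isZero_rightDerived_push f'.base 𝔅 h𝔅 d ?_ p (by omega)
  rintro V' ⟨hV', V, hV, hle⟩ j hj
  exact subsingleton_ext_preimage_of_isPullback sq (j + 1)
    (fun M hM => hvan M (j + 1) hM (by omega)) V hV V' hV' hle M'

end BC

end Groth.Agent.LD.SC
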