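import Mathlib
import Groth.Agent.Lib.Lead.SC.RPushBC
import Groth.Agent.Lib.Lead.QC.UnitKer
import Groth.Agent.Lib.Helper2.RpA2
open AlgebraicGeometry CategoryTheory Limits TopologicalSpace Opposite Abelian

/-!
Vanishing of a higher direct image of a quasi-coherent module (along a qcqs morphism) can be checked
on the cohomology of the preimages of an affine open cover of the base.
-/

namespace Groth.Agent.LD.SC

universe u

open Groth.Agent.LD.QC Groth.Agent.LD.QCQS Groth.Agent.LD.RP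

variable {X S : Scheme.{u}} (f : X ⟶ S)

theorem isZero_Rpush_of_affine_cover [HasInjectiveResolutions X.Modules]
    [QuasiCompact f] [QuasiSeparated f] (G : X.Modules)
    [G.IsQuasicoherent] (p : ℕ)
    (h : ∀ x : S, ∃ W : S.Opens, IsAffineOpen W ∧ x ∈ W ∧
      Subsingleton (Coh.HH (f ⁻¹ᵁ W).toScheme (G.restrict (f ⁻¹ᵁ W).ι) p)) :
    IsZero ((Coh.Rpush f p).obj G) := by
  haveI : ((Coh.Rpush f p).obj G).IsQuasicoherent := qc_Rpush f G p
  apply isZero_of_affine_cover
  intro x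
  obtain ⟨W, hW, hxW, hsub⟩ := h x
  refine ⟨W, hW, hxW, fun s => ?_⟩
  haveI := hasInjRes (f ⁻¹ᵁ W).toScheme
  obtain ⟨e⟩ := nonempty_restrict_Rpush_iso f W G p
  haveI : IsAffine W.toScheme := hW
  haveI : QuasiCompact (f ∣_ W) :=
    MorphismProperty.of_isPullback (isPullback_morphismRestrict f W).flip inferInstance
  haveI : QuasiSeparated (f ∣_ W) :=
    MorphismProperty.of_isPullback (isPullback_morphismRestrict f W).flip inferInstance
  haveI : (G.restrict (f ⁻¹ᵁ W).ι).IsQuasicoherent := qc_restrict _ G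
  have hz : IsZero ((Coh.Rpush (f ∣_ W) p).obj (G.restrict (f ⁻¹ᵁ W).ι)) :=
    Groth.Agent.H2.RpA.isZero_Rpush_of_subsingleton (f ∣_ W) _ p hsub
  have hz' : IsZero ((Scheme.Modules.restrictFunctor W.ι).obj ((Coh.Rpush f p).obj G)) :=
    hz.of_iso e
  exact section_eq_zero_of_isZero_restrict _ W hz' le_rfl s

theorem isZero_RpushAb_of_affine_cover [QuasiCompact f] [QuasiSeparated f] (G : X.Modules)
    [G.IsQuasicoherent] (p : ℕ)
    (h : ∀ x : S, ∃ W : S.Opens, IsAffineOpen W ∧ x ∈ W ∧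
      Subsingleton (Coh.HH (f ⁻¹ᵁ W).toScheme (G.restrict (f ⁻¹ᵁ W).ι) p)) :
    IsZero ((Coh.RpushAb f p).obj (Coh.toAb G)) := by
  haveI := hasInjRes X
  obtain ⟨e⟩ := nonempty_toAb_Rpush_iso f G p
  exact ((τ S).map_isZero (isZero_Rpush_of_affine_cover f G p h)).of_iso e.symm

end Groth.Agent.LD.SC
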