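import Groth.Agent.Lib.Lead.SC.SerreCrit
import Groth.Agent.Lib.Lead.QC.AmpleCrit

/-! # Cohomological criterion for ampleness. -/

universe u
open CategoryTheory Limits Opposite Abelian TopologicalSpace AlgebraicGeometry ZeroObject

namespace Groth.Agent.LD.SC

variable {X : Scheme.{u}}

theorem isAmple_of_h1Zero [CompactSpace X] (L : X.Modules) (hL : PicF.IsInvertible L)
    (h : ∀ (I : X.Modules) (i : I ⟶ QC.unitMod X), Mono i → I.IsQuasicoherent →
      ∃ n : ℕ, H1Zero (CohB1.tensorMod I (CohB1.tensorPow L (n + 1)))) : CohB1.IsAmple L := by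
  classical
  haveI : L.IsQuasicoherent := QC.qc_of_isInvertible L hL
  have hcl : ∀ x : X, IsClosed ({x} : Set X) →
      ∃ (n : ℕ) (s : QC.unitMod X ⟶ CohB1.tensorPow L (n + 1)),
        x ∈ CohB1.genLocus _ s ∧ IsAffineOpen (CohB1.genLocus _ s) := by
    intro x hx
    obtain ⟨U, e₁, hU, hxU, -, he₁⟩ := QC.exists_affine_basis L hL x ⊤ trivial
    let J := Scheme.IdealSheafData.vanishingIdeal
      ⟨(U : Set X)ᶜ ∪ {x}, (U.2.isClosed_compl).union hx⟩
    obtain ⟨n, hn⟩ := h (ClSub.idealMod J) (ClSub.idealModι J) inferInstance inferInstance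
    have hM : PicF.IsInvertible (CohB1.tensorPow L (n + 1)) := QC.isInvertible_tensorPow hL _
    haveI : (CohB1.tensorPow L (n + 1)).IsQuasicoherent := QC.qc_of_isInvertible _ hM
    have hmono : Mono (QC.twistIncl (ClSub.idealModι J) (CohB1.tensorPow L (n + 1))) :=
      QC.mono_twistIncl _ _ hM
    let S : ShortComplex X.Modules :=
      ShortComplex.mk (QC.twistIncl (ClSub.idealModι J) (CohB1.tensorPow L (n + 1)))
        (cokernel.π _) (cokernel.condition _)
    have hS : S.ShortExact :=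
      { exact := ShortComplex.exact_of_g_is_cokernel S (cokernelIsCokernel _)
        mono_f := hmono
        epi_g := inferInstanceAs (Epi (cokernel.π _)) }
    have hsurj := surjective_app_top_of_h1Zero hS hn
    obtain ⟨s, hxs, hsU⟩ := QC.exists_section_of_closedPoint (CohB1.tensorPow L (n + 1)) hM x hx U
      hU hxU (QC.secPow e₁ (n + 1)) (he₁.secPow (n + 1)) hsurj
    refine ⟨n, s, hxs, ?_⟩
    have h1 := QC.isAffineOpen_genLocus_inf (CohB1.tensorPow L (n + 1)) hM s hU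
    rwa [inf_eq_left.mpr hsU] at h1
  refine ⟨hL, inferInstance, fun x => ?_⟩
  by_contra hcon
  let T : Set X := ⋃ (n : ℕ) (s : QC.unitMod X ⟶ CohB1.tensorPow L (n + 1))
    (_ : IsAffineOpen (CohB1.genLocus _ s)), (CohB1.genLocus _ s : Set X)
  have hT : IsOpen T :=
    isOpen_iUnion fun n => isOpen_iUnion fun s => isOpen_iUnion fun _ => (CohB1.genLocus _ s).2
  have hx : x ∈ Tᶜ := by
    intro hxT
    obtain ⟨n, hxT⟩ := Set.mem_iUnion.mp hxT
    obtain ⟨s, hxT⟩ := Set.mem_iUnion.mp hxT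
    obtain ⟨haff, hxs⟩ := Set.mem_iUnion.mp hxT
    exact hcon ⟨n, s, hxs, haff⟩
  obtain ⟨y, hyT, hy⟩ := hT.isClosed_compl.exists_closed_singleton ⟨x, hx⟩
  obtain ⟨n, s, hys, haff⟩ := hcl y hy
  exact hyT (Set.mem_iUnion.mpr ⟨n, Set.mem_iUnion.mpr ⟨s, Set.mem_iUnion.mpr ⟨haff, hys⟩⟩⟩)

end Groth.Agent.LD.SC
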