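import Groth.Agent.Lib.Lead.SC.GenCrit
import Groth.Agent.Lib.Lead.QC.InvInverse
import Groth.Agent.Lib.Lead.QC.AmpleGG
import Groth.Agent.Lib.Lead.QC.AmpleFamily
import Groth.Agent.Lib.Lead.QC.AmpleBasis2
import Groth.Agent.S9819

/-! # A scheme with an ample invertible module whose negative powers are acyclic is affine. -/

universe u
open CategoryTheory Limits AlgebraicGeometry TopologicalSpace Opposite Abelian

namespace Groth.Agent.LD.SC
open Groth.Agent.LD.QC

variable {X : Scheme.{u}}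

theorem quasiSeparatedSpace_of_isAmple (L : X.Modules) (hL : CohB1.IsAmple L) :
    QuasiSeparatedSpace X := by
  apply quasiSeparatedSpace_of_genLocus_cover
  intro x
  obtain ⟨n, s, hx, haff⟩ := hL.2.2 x
  exact ⟨_, s, isInvertible_tensorPow hL.1 _, hx, haff⟩

theorem isAffine_of_isAmple_of_vanishing (L L' : X.Modules) (hL : CohB1.IsAmple L)
    (ε : CohB1.tensorMod L L' ≅ unitMod X) (n₀ : ℕ)
    (h : ∀ n : ℕ, n₀ ≤ n → ∀ p : ℕ, 0 < p → Subsingleton (Coh.HH X (CohB1.tensorPow L' n) p)) :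
    IsAffine X := by
  haveI : CompactSpace X := hL.2.1
  haveI : QuasiSeparatedSpace X := quasiSeparatedSpace_of_isAmple L hL
  have hL' : PicF.IsInvertible L' := isInvertible_of_tensor_iso hL.1 ε
  haveI : L.IsQuasicoherent := qc_of_isInvertible L hL.1
  haveI : L'.IsQuasicoherent := qc_of_isInvertible L' hL'
  have hqcL : ∀ n, (CohB1.tensorPow L n).IsQuasicoherent := fun n =>
    qc_of_isInvertible _ (isInvertible_tensorPow hL.1 n)
  have hqcL' : ∀ n, (CohB1.tensorPow L' n).IsQuasicoherent := fun n =>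
    qc_of_isInvertible _ (isInvertible_tensorPow hL' n)
  let εn : ∀ n, CohB1.tensorMod (CohB1.tensorPow L n) (CohB1.tensorPow L' n) ≅ unitMod X :=
    fun n => tensorPowTensor L L' n ≪≫ tensorPowCongr ε n ≪≫ unitPowIso X n
  apply isAffine_of_generators (fun G => ∃ n, n₀ ≤ n ∧ G = CohB1.tensorPow L' n)
  · rintro G ⟨n, -, rfl⟩
    exact hqcL' n
  · rintro G ⟨n, hn, rfl⟩ p hp
    exact h n hn p hp
  · intro M hM
    haveI := hM
    apply exists_epi_sigma_of_local (fun G => ∃ n, n₀ ≤ n ∧ G = CohB1.tensorPow L' n)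
    intro V t x hx
    obtain ⟨_, ⟨U, hU, rfl⟩, hxU, hUV⟩ := X.isBasis_affineOpens.exists_subset_of_mem_open hx V.2
    have hUV' : U ≤ V := hUV
    obtain ⟨G₁, i, -, hqcG, hftG, g₁, hg₁⟩ := Groth.Agent.S9819.result M ⟨U, hU⟩
      (M.presheaf.map (homOfLE hUV').op t)
    haveI : G₁.IsQuasicoherent := hqcG
    obtain ⟨n₁, hn₁⟩ := exists_epi_free_of_isAmple L hL G₁ hftG
    obtain ⟨K, q, hq⟩ := hn₁ (max n₁ n₀) (le_max_left _ _)
    haveI := hqcL (max n₁ n₀)
    haveI := hqcL' (max n₁ n₀)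
    obtain ⟨p, hp⟩ := exists_epi_sigma_of_inverse G₁ (CohB1.tensorPow L (max n₁ n₀))
      (CohB1.tensorPow L' (max n₁ n₀)) (isInvertible_tensorPow hL' _) (εn _) q hq
    obtain ⟨W, hWU, hxW, hh, hhh⟩ := exists_local_lift p hp U g₁ x hxU
    refine ⟨K, fun _ => CohB1.tensorPow L' (max n₁ n₀), fun _ => ⟨_, le_max_right _ _, rfl⟩,
      fun j => Limits.Sigma.ι (fun _ : Fin K => CohB1.tensorPow L' (max n₁ n₀)) j ≫ p ≫ i,
      W, hWU.trans hUV', hxW,
      fun j => (sigmaProj (CohB1.tensorPow L' (max n₁ n₀)) K j).app W hh, ?_⟩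
    have h1 : ∀ j : Fin K,
        (Limits.Sigma.ι (fun _ : Fin K => CohB1.tensorPow L' (max n₁ n₀)) j ≫ p ≫ i).app W
          ((sigmaProj (CohB1.tensorPow L' (max n₁ n₀)) K j).app W hh) =
        ((sigmaProj (CohB1.tensorPow L' (max n₁ n₀)) K j ≫
          Limits.Sigma.ι (fun _ : Fin K => CohB1.tensorPow L' (max n₁ n₀)) j) ≫ p ≫ i).app W hh := by
      intro j
      rw [Category.assoc]
      rfl
    rw [Finset.sum_congr rfl (fun j _ => h1 j), ← sum_app, ← Preadditive.sum_comp,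
      sigmaProj_total, Category.id_comp]
    change i.app W (p.app W hh) = _
    rw [hhh, ← res_res M hUV' hWU t]
    have hg₁' : i.app U g₁ = M.presheaf.map (homOfLE hUV').op t := hg₁
    rw [← hg₁']
    exact app_res i hWU g₁

end Groth.Agent.LD.SC
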