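import Groth.Agent.Lib.Lead.CohLES.Finite
import Groth.Agent.Lib.Lead.SC.AmpleVanish
import Groth.Agent.Lib.Lead.SC.CohDim
import Groth.Agent.Lib.Lead.QC.InvEpi
import Groth.Agent.Lib.Lead.QC.Coh
import Groth.Agent.Lib.Lead.QC.SigmaFin
import Groth.Agent.Lib.Lead.QC.AmpleIso

/-! # Vanishing of cohomology of coherent modules from vanishing on finite locally free modules,
on a noetherian scheme with an ample invertible module. -/

universe u
open CategoryTheory Limits AlgebraicGeometry TopologicalSpace Opposite Abelian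

namespace Groth.Agent.LD.SC
open Groth.Agent.LD.QC Groth.Agent.LD.CL

variable {X : Scheme.{u}}

/-- **dévissage for vanishing**: if every module of a class `𝒞` is a quotient, with kernel in `𝒞`,
of a module whose cohomology vanishes above `n`, and the cohomology of the modules in `𝒞` vanishes
in large degrees, then the cohomology of the modules in `𝒞` vanishes above `n`. -/
theorem subsingleton_HH_of_devissage (𝒞 : X.Modules → Prop) (n : ℕ)
    (hres : ∀ M, 𝒞 M → ∃ (S : ShortComplex X.Modules), S.ShortExact ∧ Nonempty (S.X₃ ≅ M) ∧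
      𝒞 S.X₁ ∧ ∀ i, n < i → Subsingleton (Coh.HH X S.X₂ i))
    (N : ℕ) (hvan : ∀ M, 𝒞 M → ∀ i, N < i → Subsingleton (Coh.HH X M i))
    (M : X.Modules) (hM : 𝒞 M) (i : ℕ) (hi : n < i) : Subsingleton (Coh.HH X M i) := by
  letI : X.Over (Spec (CommRingCat.of Γ(X, ⊤))) := ⟨X.toSpecΓ⟩
  suffices key : ∀ (k : ℕ) (i : ℕ), n < i → N < i + k → ∀ M, 𝒞 M → Subsingleton (Coh.HH X M i) from
    key (N + 1) i hi (by omega) M hM
  intro k
  induction k with
  | zero =>
    intro i _ hi M hM
    exact hvan M hM i (by omega)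
  | succ k ih =>
    intro i hni hi M hM
    obtain ⟨S, hS, ⟨e⟩, hK, hE⟩ := hres M hM
    haveI := hE i hni
    haveI := ih (i+1) (by omega) (by omega) S.X₁ hK
    have h3 : ∀ x : Coh.HH X S.X₃ i, x = 0 := by
      intro x
      obtain ⟨y, hy⟩ := exact₃ hS Γ(X, ⊤) i x (Subsingleton.elim _ _)
      rw [← hy, Subsingleton.elim y 0, map_zero]
    refine ⟨fun a b => ?_⟩
    have ha : a = HHmap Γ(X, ⊤) e.hom i (HHmap Γ(X, ⊤) e.inv i a) := by
      rw [← LinearMap.comp_apply, ← HHmap_comp, e.inv_hom_id, HHmap_id]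
      rfl
    have hb : b = HHmap Γ(X, ⊤) e.hom i (HHmap Γ(X, ⊤) e.inv i b) := by
      rw [← LinearMap.comp_apply, ← HHmap_comp, e.inv_hom_id, HHmap_id]
      rfl
    rw [ha, hb, h3 (HHmap Γ(X, ⊤) e.inv i a), h3 (HHmap Γ(X, ⊤) e.inv i b)]

/-- a finite direct sum of copies of an invertible module is finite locally free. -/
theorem isFinLocFree_sigma_of_isInvertible (M : X.Modules) (hM : PicF.IsInvertible M) (K : ℕ) :
    FlatMod.IsFinLocFree (∐ fun _ : Fin K => M) := by
  intro x
  obtain ⟨U, hxU, ⟨e⟩⟩ := hM x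
  refine ⟨U, K, hxU, ⟨?_⟩⟩
  haveI : PreservesColimitsOfSize.{0, 0} (Scheme.Modules.restrictFunctor U.ι) :=
    (Scheme.Modules.restrictAdjunction U.ι).leftAdjoint_preservesColimits
  exact PreservesCoproduct.iso (Scheme.Modules.restrictFunctor U.ι) (fun _ : Fin K => M) ≪≫
    Sigma.mapIso (fun _ => e)

/-- on a noetherian scheme with an ample invertible module (with a chosen inverse), if the
cohomology of all finite locally free modules vanishes above `n`, so does that of all coherent
modules. -/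
theorem subsingleton_HH_coh_of_locFree [IsLocallyNoetherian X] (L L' : X.Modules)
    (hL : CohB1.IsAmple L) (ε : CohB1.tensorMod L L' ≅ unitMod X) (n : ℕ)
    (h : ∀ E : X.Modules, FlatMod.IsFinLocFree E → ∀ i : ℕ, n < i → Subsingleton (Coh.HH X E i))
    (F : X.Modules) (hF : Coh.IsCoh F) (i : ℕ) (hi : n < i) :
    Subsingleton (Coh.HH X F i) := by
  haveI : CompactSpace X := hL.2.1
  haveI : QuasiSeparatedSpace X := quasiSeparatedSpace_of_isAmple L hL
  have hL' : PicF.IsInvertible L' := isInvertible_of_tensor_iso hL.1 ε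
  haveI : L.IsQuasicoherent := qc_of_isInvertible L hL.1
  haveI : L'.IsQuasicoherent := qc_of_isInvertible L' hL'
  have hqcL : ∀ n, (CohB1.tensorPow L n).IsQuasicoherent := fun n =>
    qc_of_isInvertible _ (isInvertible_tensorPow hL.1 n)
  have hqcL' : ∀ n, (CohB1.tensorPow L' n).IsQuasicoherent := fun n =>
    qc_of_isInvertible _ (isInvertible_tensorPow hL' n)
  let εn : ∀ n, CohB1.tensorMod (CohB1.tensorPow L n) (CohB1.tensorPow L' n) ≅ unitMod X :=
    fun n => tensorPowTensor L L' n ≪≫ tensorPowCongr ε n ≪≫ unitPowIso X n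
  obtain ⟨d, hd⟩ := exists_cohDim_of_qcqs X
  refine subsingleton_HH_of_devissage (fun M => Coh.IsCoh M) n ?_ d ?_ F hF i hi
  · intro M hM
    haveI : M.IsQuasicoherent := hM.1
    obtain ⟨m₀, hm₀⟩ := exists_epi_free_of_isAmple L hL M hM.2
    obtain ⟨K, q, hq⟩ := hm₀ m₀ le_rfl
    haveI := hqcL m₀
    haveI := hqcL' m₀
    have hinv := isInvertible_tensorPow hL' m₀
    obtain ⟨p, hp⟩ := exists_epi_sigma_of_inverse M (CohB1.tensorPow L m₀)
      (CohB1.tensorPow L' m₀) hinv (εn m₀) q hq
    have hEqc : (∐ fun _ : Fin K => CohB1.tensorPow L' m₀).IsQuasicoherent := qc_sigma_fin _ K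
    have hEft : (∐ fun _ : Fin K => CohB1.tensorPow L' m₀).IsFiniteType :=
      isFiniteType_sigma_fin _ (isFiniteType_of_isInvertible _ hinv) K
    have hKqc : (kernel p).IsQuasicoherent := qc_kernel p hEqc hM.1
    refine ⟨ShortComplex.mk (kernel.ι p) p (kernel.condition p), ?_, ⟨Iso.refl _⟩,
      ⟨hKqc, isFiniteType_of_mono (kernel.ι p) hKqc hEqc hEft⟩, fun i hi => ?_⟩
    · exact { exact := ShortComplex.exact_of_f_is_kernel _ (kernelIsKernel p)
              mono_f := inferInstanceAs (Mono (kernel.ι p))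
              epi_g := hp }
    · exact h _ (isFinLocFree_sigma_of_isInvertible _ hinv K) i hi
  · intro M hM i hi
    exact hd M hM.1 i hi.le

end Groth.Agent.LD.SC
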