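import Groth.Agent.Lib.Lead.Colim.Coprod
import Groth.Agent.Lib.Lead.SC.SerreCrit
import Groth.Agent.Lib.Lead.SC.CohDim
import Groth.Agent.Lib.Lead.QC.Extend
import Groth.Agent.Lib.Lead.QC.EpiLocal
import Groth.Agent.Lib.Lead.QC.Closure
import Groth.Agent.Lib.Lead.MS.PushLeftAdj
import Mathlib.AlgebraicGeometry.QuasiAffine
import Groth.Agent.Lib.Lead.QCQS.ExtIso

/-! # A quasi-affine scheme with vanishing higher cohomology of the structure sheaf is affine. -/

universe u
open CategoryTheory Limits AlgebraicGeometry TopologicalSpace Opposite Abelian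

namespace Groth.Agent.LD.SC
open Groth.Agent.LD.QC

variable {X : Scheme.{u}}

/-- the free module on an index type, as an object of `X.Modules`. -/
noncomputable abbrev freeI (X : Scheme.{u}) (ι : Type u) : X.Modules := SheafOfModules.free ι

/-- the inclusion of a summand. -/
noncomputable abbrev ιI (X : Scheme.{u}) {ι : Type u} (i : ι) : unitMod X ⟶ freeI X ι :=
  SheafOfModules.ιFree i

/-- on a quasi-affine scheme every quasi-coherent module is generated by its global sections. -/
theorem exists_epi_free_of_isQuasiAffine [X.IsQuasiAffine] (F : X.Modules) [F.IsQuasicoherent] :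
    ∃ (ι : Type u) (p : freeI X ι ⟶ F), Epi p := by
  let p : freeI X Γ(F, ⊤) ⟶ F :=
    (SheafOfModules.freeHomEquiv F).symm (fun t => secOfTop F t)
  have hp : ∀ σ : Γ(F, ⊤), ιI X σ ≫ p = homOfSection F σ := by
    intro σ
    change SheafOfModules.ιFree σ ≫ p = _
    rw [← SheafOfModules.unitHomEquiv_symm_freeHomEquiv_apply]
    change (SheafOfModules.unitHomEquiv F).symm
      ((SheafOfModules.freeHomEquiv F) ((SheafOfModules.freeHomEquiv F).symm
        (fun t => secOfTop F t)) σ) = _
    rw [Equiv.apply_symm_apply]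
    rfl
  refine ⟨Γ(F, ⊤), p, ?_⟩
  apply epi_of_local_lift
  intro U s x hx
  obtain ⟨_, ⟨_, ⟨f, hfaff, rfl⟩, rfl⟩, hxf, hfU⟩ :=
    (Scheme.IsQuasiAffine.isBasis_basicOpen X).exists_subset_of_mem_open hx U.2
  have hWU : X.basicOpen f ≤ U := hfU
  obtain ⟨n, σ, hσ⟩ := compact_qs_surj F (U := ⊤) isCompact_univ isQuasiSeparated_univ f
    (F.presheaf.map (homOfLE hWU).op s)
  have hunit : IsUnit (X.presheaf.map (homOfLE (X.basicOpen_le f)).op f) :=
    RingedSpace.isUnit_res_basicOpen X.toRingedSpace f
  obtain ⟨v, hv⟩ := hunit.exists_left_inv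
  refine ⟨X.basicOpen f, hWU, hxf, (ιI X σ).app (X.basicOpen f) (v ^ n), ?_⟩
  have h1 : p.app (X.basicOpen f) ((ιI X σ).app (X.basicOpen f) (v ^ n)) =
      (homOfSection F σ).app (X.basicOpen f) (v ^ n) := by
    rw [← hp σ]
    rfl
  rw [h1, unitHom_app, homOfSection_app_one]
  have h2 : F.presheaf.map (homOfLE (le_top : X.basicOpen f ≤ ⊤)).op σ =
      (X.presheaf.map (homOfLE (X.basicOpen_le f)).op f) ^ n •
        F.presheaf.map (homOfLE hWU).op s := hσ
  rw [h2, smul_smul, ← mul_pow, hv, one_pow, one_smul]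

lemma qc_freeI (ι : Type u) : (freeI X ι).IsQuasicoherent :=
  qc_colimit (Discrete.functor (fun _ : ι => unitMod X))
    (fun _ => (inferInstance : (unitMod X).IsQuasicoherent))

/-- cohomology of a free module vanishes when that of the structure sheaf does. -/
theorem subsingleton_ext_freeI [CompactSpace X] [QuasiSeparatedSpace X] (ι : Type u) (q : ℕ)
    (h : Subsingleton (Ext (ZU (JX X) (⊤ : X.Opens)) (Coh.toAb (unitMod X)) q)) :
    Subsingleton (Ext (ZU (JX X) (⊤ : X.Opens)) (Coh.toAb (freeI X ι)) q) := by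
  haveI : PreservesColimitsOfSize.{u, u} (SheafOfModules.toSheaf.{u} X.ringCatSheaf) :=
    MS.toSheaf_preservesColimits _
  let e : (SheafOfModules.toSheaf X.ringCatSheaf).obj
      (∐ (fun _ : ι => SheafOfModules.unit X.ringCatSheaf)) ≅
      ∐ (fun _ : ι => (SheafOfModules.toSheaf X.ringCatSheaf).obj
        (SheafOfModules.unit X.ringCatSheaf)) := PreservesCoproduct.iso _ _
  have h1 := Colim.subsingleton_ext_coproduct_of_qcqs (⊤ : X.Opens)
    isCompact_univ isQuasiSeparated_univ q
    (fun _ : ι => Coh.toAb (unitMod X)) (fun _ => h)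
  exact Groth.Agent.LD.QCQS.subsingleton_ext_of_iso e.symm q h1

/-- **a quasi-affine scheme whose structure sheaf has no higher cohomology is affine.** -/
theorem isAffine_of_isQuasiAffine_of_vanishing [X.IsQuasiAffine]
    (h : ∀ p : ℕ, 0 < p → Subsingleton (Coh.HH X (Coh.structureModule X) p)) : IsAffine X := by
  have hE : ∀ p : ℕ, 0 < p →
      Subsingleton (Ext (ZU (JX X) (⊤ : X.Opens)) (Coh.toAb (unitMod X)) p) := fun p hp =>
    haveI := h p hp
    (HEquiv (J := JX X) CategoryTheory.Limits.isTerminalTop (Coh.toAb (unitMod X)) p).symm.toEquiv.subsingleton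
  obtain ⟨d, hd⟩ := exists_cohDim_of_qcqs X
  have key : ∀ k p : ℕ, 0 < p → d ≤ p + k → ∀ M : X.Modules, M.IsQuasicoherent →
      Subsingleton (Ext (ZU (JX X) (⊤ : X.Opens)) (Coh.toAb M) p) := by
    intro k
    induction k with
    | zero =>
      intro p hp hdp M hM
      haveI := hd M hM p (by omega)
      exact (HEquiv (J := JX X) CategoryTheory.Limits.isTerminalTop (Coh.toAb M) p).symm.toEquiv.subsingleton
    | succ k ih =>
      intro p hp hdp M hM
      haveI := hM
      obtain ⟨ι, π, hπ⟩ := exists_epi_free_of_isQuasiAffine M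
      let S : ShortComplex X.Modules := ShortComplex.mk (kernel.ι π) π (kernel.condition π)
      have hS : S.ShortExact :=
        { exact := ShortComplex.exact_of_f_is_kernel S (kernelIsKernel _)
          mono_f := inferInstanceAs (Mono (kernel.ι π))
          epi_g := hπ }
      have hS' := shortExact_toSheaf hS
      exact subsingleton_ext_of_shortExact₃ (C := Sheaf (JX X) AddCommGrpCat.{u}) hS'
        (ZU (JX X) (⊤ : X.Opens)) p (subsingleton_ext_freeI ι p (hE p hp))
        (ih (p + 1) (by omega) (by omega) (kernel π) (qc_kernel π (qc_freeI ι) hM))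
  apply isAffine_of_h1Zero
  intro I i hi hI
  exact key d 1 one_pos (by omega) I hI

end Groth.Agent.LD.SC
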