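import Groth.Agent.S0028
import Groth.Agent.Lib.Lead.QCQS.Main
import Groth.Agent.Lib.Lead.RP.LemmaA
import Groth.Agent.Lib.Lead.QC.SubExtRestrict

/-! # Higher direct images vanish near points with finite fibre, for proper morphisms (S0037). -/

set_option autoImplicit false
universe u
open CategoryTheory Limits Opposite Abelian AlgebraicGeometry TopologicalSpace

namespace Groth.Agent.LD.SC

open Groth.Agent.LD.QC Groth.Agent.LD.QCQS Groth.Agent.LD.RP

variable {X Y : Scheme.{u}}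

/-- the stalk at `y` of a module whose restriction to an open neighbourhood of `y` is zero. -/
theorem isZero_stalk_toAb_of_isZero_restrict (R : Y.Modules) (V : Y.Opens) (y : Y) (hyV : y ∈ V)
    (hR : IsZero (R.restrict V.ι)) :
    IsZero (TopCat.Presheaf.stalk (Coh.toAb R).obj y) := by
  have hZ : IsZero (Coh.toAb (R.restrict V.ι)) := (τ V.toScheme).map_isZero hR
  have hsub : ∀ W' : V.toScheme.Opens,
      Subsingleton ((Coh.toAb (R.restrict V.ι)).obj.obj (op W')) := fun W' =>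
    AddCommGrpCat.subsingleton_of_isZero
      (((sheafSections (Opens.grothendieckTopology V.toScheme) AddCommGrpCat.{u}).obj
        (op W')).map_isZero hZ)
  let St : AddCommGrpCat.{u} := TopCat.Presheaf.stalk (C := AddCommGrpCat.{u}) (Coh.toAb R).obj y
  haveI : Subsingleton St := by
    refine ⟨fun a b => ?_⟩
    suffices h : ∀ t : St, t = 0 by rw [h a, h b]
    intro t
    obtain ⟨W, hW, s, rfl⟩ := TopCat.Presheaf.germ_exist (Coh.toAb R).obj (x := y) t
    let W'' : Y.Opens := V.ι ''ᵁ (V.ι ⁻¹ᵁ W)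
    have hle : W'' ≤ W := V.ι.image_preimage_le W
    have hyW'' : y ∈ W'' := ⟨⟨y, hyV⟩, hW, rfl⟩
    rw [← TopCat.Presheaf.germ_res_apply (Coh.toAb R).obj (homOfLE hle) y hyW'' s]
    haveI := hsub (V.ι ⁻¹ᵁ W)
    have h0 : (ConcreteCategory.hom ((Coh.toAb R).obj.map (homOfLE hle).op)) s = 0 :=
      Subsingleton.elim (α := ((Coh.toAb (R.restrict V.ι)).obj.obj (op (V.ι ⁻¹ᵁ W)))) _ _
    rw [h0, map_zero]
  exact AddCommGrpCat.isZero_of_subsingleton St

/-- **S0037** (no Noetherian hypothesis, quasi-coherent modules). -/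
theorem isZero_stalk_RpushAb_of_finite_fibre (f : X ⟶ Y) [IsProper f] (y : Y)
    (hy : (f ⁻¹' {y}).Finite) (M : X.Modules) [M.IsQuasicoherent] (p : ℕ) (hp : 0 < p) :
    IsZero (TopCat.Presheaf.stalk ((Coh.RpushAb f p).obj (Coh.toAb M)).obj y) := by
  obtain ⟨V, hyV, hfin⟩ := exists_isFinite_morphismRestrict_of_finite_preimage_singleton f y hy
  haveI := hasInjRes X
  haveI := hasInjRes (f ⁻¹ᵁ V).toScheme
  obtain ⟨e⟩ := nonempty_toAb_Rpush_iso f M p
  obtain ⟨e2⟩ := nonempty_restrict_Rpush_iso f V M p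
  haveI : (M.restrict (f ⁻¹ᵁ V).ι).IsQuasicoherent := qc_restrict _ M
  haveI : IsAffineHom (f ∣_ V) := inferInstance
  have hz : IsZero (((Scheme.Modules.pushforward (f ∣_ V)).rightDerived p).obj
      (M.restrict (f ⁻¹ᵁ V).ι)) := by
    obtain ⟨e3⟩ := nonempty_toAb_Rpush_iso (f ∣_ V) (M.restrict (f ⁻¹ᵁ V).ι) p
    apply isZero_of_isZero_τ
    exact (Groth.Agent.S0028.result (f ∣_ V) (M.restrict (f ⁻¹ᵁ V).ι) p hp).of_iso e3
  have hR : IsZero (((Coh.Rpush f p).obj M).restrict V.ι) := hz.of_iso e2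
  have h1 := isZero_stalk_toAb_of_isZero_restrict ((Coh.Rpush f p).obj M) V y hyV hR
  refine h1.of_iso ?_
  exact ((TopCat.Presheaf.stalkFunctor AddCommGrpCat.{u} y).mapIso
    ((sheafToPresheaf _ _).mapIso e)).symm

end Groth.Agent.LD.SC
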