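import Mathlib.CategoryTheory.Abelian.RightDerived
import Mathlib.Algebra.Homology.ShortComplex.ExactFunctor
import Mathlib.CategoryTheory.Abelian.Injective.Resolution

/-! # Cycles of a cochain complex and exactness of the image under a left exact functor. -/

universe v v' u u'
open CategoryTheory Limits

namespace Groth.Agent.LD.SC

section Cyc
variable {C : Type u} [Category.{v} C] [Abelian C]

/-- the `k`-cocycles of an `ℕ`-indexed cochain complex. -/
noncomputable abbrev Zc (K : CochainComplex C ℕ) (k : ℕ) : C := kernel (K.d k (k + 1))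

noncomputable abbrev ιc (K : CochainComplex C ℕ) (k : ℕ) : Zc K k ⟶ K.X k := kernel.ι _

noncomputable def πc (K : CochainComplex C ℕ) (k : ℕ) : K.X k ⟶ Zc K (k + 1) :=
  kernel.lift _ (K.d k (k + 1)) (K.d_comp_d _ _ _)

@[reassoc (attr := simp)]
lemma πc_ιc (K : CochainComplex C ℕ) (k : ℕ) : πc K k ≫ ιc K (k + 1) = K.d k (k + 1) :=
  kernel.lift_ι _ _ _

@[reassoc (attr := simp)]
lemma ιc_πc (K : CochainComplex C ℕ) (k : ℕ) : ιc K k ≫ πc K k = 0 := by
  rw [← cancel_mono (ιc K (k + 1)), Category.assoc, πc_ιc, zero_comp]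
  exact kernel.condition _

/-- the short complex `0 → Z^k → K^k → Z^{k+1} → 0`. -/
noncomputable def Sc (K : CochainComplex C ℕ) (k : ℕ) : ShortComplex C :=
  ShortComplex.mk (ιc K k) (πc K k) (ιc_πc K k)

lemma Sc_exact (K : CochainComplex C ℕ) (k : ℕ) : (Sc K k).Exact := by
  let S₂ : ShortComplex C := ShortComplex.mk (ιc K k) (K.d k (k + 1)) (kernel.condition _)
  let φ : Sc K k ⟶ S₂ :=
    { τ₁ := 𝟙 _
      τ₂ := 𝟙 _
      τ₃ := ιc K (k + 1)
      comm₁₂ := by simp [Sc, S₂]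
      comm₂₃ := by simp [Sc, S₂] }
  haveI : Epi φ.τ₁ := inferInstanceAs (Epi (𝟙 (Zc K k)))
  haveI : IsIso φ.τ₂ := inferInstanceAs (IsIso (𝟙 (K.X k)))
  haveI : Mono φ.τ₃ := inferInstanceAs (Mono (ιc K (k + 1)))
  rw [ShortComplex.exact_iff_of_epi_of_isIso_of_mono φ]
  exact ShortComplex.exact_of_f_is_kernel _ (kernelIsKernel _)

lemma epi_πc (K : CochainComplex C ℕ) (k : ℕ) (h : K.ExactAt (k + 1)) : Epi (πc K k) := by
  rw [HomologicalComplex.exactAt_iff' K k (k + 1) (k + 2) (by simp) (by simp)] at h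
  exact (ShortComplex.exact_iff_epi_kernel_lift _).1 h

lemma Sc_shortExact (K : CochainComplex C ℕ) (k : ℕ) (h : K.ExactAt (k + 1)) :
    (Sc K k).ShortExact :=
  { exact := Sc_exact K k
    mono_f := by dsimp [Sc]; infer_instance
    epi_g := epi_πc K k h }

variable {D : Type u'} [Category.{v'} D] [Abelian D] (G : C ⥤ D) [G.Additive]
  [PreservesFiniteLimits G]

/-- if `G K^k → G Z^{k+1}` is epi then `G K` is exact at `k+1`. -/
lemma exactAt_map_succ (K : CochainComplex C ℕ) (k : ℕ) (h : Epi (G.map (πc K k))) :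
    ((G.mapHomologicalComplex _).obj K).ExactAt (k + 1) := by
  rw [HomologicalComplex.exactAt_iff' _ k (k + 1) (k + 2) (by simp) (by simp)]
  let S₁ : ShortComplex D := ShortComplex.mk (G.map (K.d k (k + 1))) (G.map (K.d (k + 1) (k + 2)))
    (by rw [← G.map_comp, K.d_comp_d, G.map_zero])
  let S₂ : ShortComplex D := ShortComplex.mk (G.map (ιc K (k + 1))) (G.map (K.d (k + 1) (k + 2)))
    (by rw [← G.map_comp, kernel.condition, G.map_zero])
  let φ : S₁ ⟶ S₂ :=
    { τ₁ := G.map (πc K k)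
      τ₂ := 𝟙 _
      τ₃ := 𝟙 _
      comm₁₂ := by
        change G.map (πc K k) ≫ G.map (ιc K (k + 1)) = G.map (K.d k (k + 1)) ≫ 𝟙 _
        rw [← G.map_comp, πc_ιc, Category.comp_id]
      comm₂₃ := by
        change 𝟙 _ ≫ G.map (K.d (k + 1) (k + 2)) = G.map (K.d (k + 1) (k + 2)) ≫ 𝟙 _
        rw [Category.id_comp, Category.comp_id] }
  haveI : Epi φ.τ₁ := h
  haveI : IsIso φ.τ₂ := inferInstanceAs (IsIso (𝟙 (G.obj (K.X (k + 1)))))
  haveI : Mono φ.τ₃ := inferInstanceAs (Mono (𝟙 (G.obj (K.X (k + 2)))))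
  change S₁.Exact
  rw [ShortComplex.exact_iff_of_epi_of_isIso_of_mono φ]
  exact ShortComplex.exact_of_f_is_kernel _
    (isLimitForkMapOfIsLimit' G (kernel.condition _) (kernelIsKernel (K.d (k + 1) (k + 2))))

/-- conversely, exactness of `G K` at `k+1` makes `G K^k → G Z^{k+1}` epi. -/
lemma epi_map_πc_of_exactAt (K : CochainComplex C ℕ) (k : ℕ)
    (h : ((G.mapHomologicalComplex _).obj K).ExactAt (k + 1)) : Epi (G.map (πc K k)) := by
  rw [HomologicalComplex.exactAt_iff' _ k (k + 1) (k + 2) (by simp) (by simp)] at h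
  let S₁ : ShortComplex D := ShortComplex.mk (G.map (K.d k (k + 1))) (G.map (K.d (k + 1) (k + 2)))
    (by rw [← G.map_comp, K.d_comp_d, G.map_zero])
  have h1 : S₁.Exact := h
  have h2 : Epi (kernel.lift S₁.g S₁.f S₁.zero) := h1.epi_kernelLift
  have h3 : G.map (πc K k) ≫ kernelComparison (K.d (k + 1) (k + 2)) G =
      kernel.lift S₁.g S₁.f S₁.zero := by
    rw [← cancel_mono (kernel.ι _), Category.assoc, kernelComparison_comp_ι, ← G.map_comp]
    rw [kernel.lift_ι]
    exact congrArg G.map (πc_ιc K k)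
  have h4 : G.map (πc K k) =
      kernel.lift S₁.g S₁.f S₁.zero ≫ inv (kernelComparison (K.d (k + 1) (k + 2)) G) := by
    rw [← h3, Category.assoc, IsIso.hom_inv_id, Category.comp_id]
  rw [h4]
  infer_instance

end Cyc

end Groth.Agent.LD.SC
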