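import Groth.Agent.Lib.Lead.SC.CohPsh2
import Mathlib.CategoryTheory.Abelian.RightDerived

/-! # `Rᵖ` of the forgetful functor to presheaves, and `Rᵖ u_*` as a sheafification. -/

universe u
open CategoryTheory Limits Opposite Abelian

namespace Groth.Agent.LD.SC

variable {C : Type u} [SmallCategory C] {J : GrothendieckTopology C}

lemma H0Equiv_Hres {U V : C} (f : V ⟶ U) (F : Sheaf J AddCommGrpCat.{u}) (x : Ext (ZU J U) F 0) :
    H0Equiv V F (Hres f x) = F.obj.map f.op (H0Equiv U F x) := by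
  obtain ⟨φ, rfl⟩ := Ext.mk₀_bijective _ _ |>.2 x
  change H0Equiv V F ((Ext.mk₀ (ZUmap J f)).comp (Ext.mk₀ φ) _) = _
  rw [Ext.mk₀_comp_mk₀, H0Equiv_mk₀, H0Equiv_mk₀, homEquiv_map]

/-- `H⁰(-, F) ≅ F` as presheaves. -/
noncomputable def cohomologyPresheafZeroIso (F : Sheaf J AddCommGrpCat.{u}) :
    Sheaf.cohomologyPresheaf.{u} F 0 ≅ F.obj :=
  NatIso.ofComponents (fun U => (H0Equiv U.unop F).toAddCommGrpIso)
    (fun {U V} φ => by
      ext x
      change H0Equiv V.unop F ((Sheaf.cohomologyPresheaf.{u} F 0).map φ.unop.op x) =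
        F.obj.map φ (H0Equiv U.unop F x)
      rw [cohomologyPresheaf_map_eq, H0Equiv_Hres]
      rfl)

/-- **`Rᵖ` of the forgetful functor from sheaves to presheaves is the cohomology presheaf.** -/
theorem nonempty_rightDerived_sheafToPresheaf_iso (F : Sheaf J AddCommGrpCat.{u}) (p : ℕ) :
    Nonempty (((sheafToPresheaf J AddCommGrpCat.{u}).rightDerived p).obj F ≅
      Sheaf.cohomologyPresheaf.{u} F p) := by
  rcases p with _ | n
  · exact ⟨(sheafToPresheaf J AddCommGrpCat.{u}).rightDerivedZeroIsoSelf.app F ≪≫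
      (cohomologyPresheafZeroIso F).symm⟩
  · let R := InjectiveResolution.of F
    exact ⟨R.isoRightDerivedObj (sheafToPresheaf J AddCommGrpCat.{u}) (n+1) ≪≫
      homologyPshIso R n⟩

end Groth.Agent.LD.SC
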