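import Groth.Agent.Lib.Lead.SC.CohDimU
import Groth.Agent.Lib.Lead.SC.RPush

/-! # Higher direct images of quasi-coherent modules: vanishing results. -/

universe u
open CategoryTheory Limits Opposite Abelian TopologicalSpace AlgebraicGeometry

namespace Groth.Agent.LD.SC

variable {X S : Scheme.{u}}

/-- a quasi-compact open is a finite union of affine opens. -/
lemma exists_finset_affine_sup_eq (O : X.Opens) (hO : IsCompact (O : Set X)) :
    ∃ s : Finset X.Opens, (∀ U ∈ s, IsAffineOpen U) ∧ s.sup id = O := by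
  classical
  have hbas : ∀ x : O, ∃ U : X.Opens, IsAffineOpen U ∧ x.1 ∈ U ∧ U ≤ O := by
    intro x
    obtain ⟨U, hU, hxU, hUO⟩ := exists_isAffineOpen_mem_and_subset (x := x.1) (U := O) x.2
    exact ⟨U, hU, hxU, hUO⟩
  choose U hUaff hxU hUO using hbas
  obtain ⟨t0, ht0⟩ := hO.elim_finite_subcover (fun x : O => (U x : Set X))
    (fun x => (U x).2) (fun x hx => Set.mem_iUnion.mpr ⟨⟨x, hx⟩, hxU ⟨x, hx⟩⟩)
  refine ⟨t0.image U, ?_, ?_⟩
  · intro W hW
    obtain ⟨x, -, rfl⟩ := Finset.mem_image.mp hW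
    exact hUaff x
  · apply le_antisymm
    · rw [Finset.sup_le_iff]
      intro W hW
      obtain ⟨x, -, rfl⟩ := Finset.mem_image.mp hW
      exact hUO x
    · intro x hx
      obtain ⟨i, hi, hxi⟩ := Set.mem_iUnion₂.mp (ht0 hx)
      have hle : U i ≤ (t0.image U).sup id :=
        Finset.le_sup (f := id) (Finset.mem_image_of_mem _ hi)
      exact hle hxi

/-- uniform bound over one affine open of the base. -/
theorem exists_cohDim_preimage_basicOpen (f : X ⟶ S) [QuasiCompact f] [QuasiSeparated f]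
    (W : S.Opens) (hW : IsAffineOpen W) :
    ∃ d : ℕ, ∀ (g : Γ(S, W)) (M : X.Modules), M.IsQuasicoherent → ∀ p : ℕ, d ≤ p →
      Subsingleton (Ext (ZU (JX X) (f ⁻¹ᵁ S.basicOpen g)) (Coh.toAb M) (p + 1)) := by
  have hcomp : IsCompact ((f ⁻¹ᵁ W : X.Opens) : Set X) :=
    QuasiCompact.isCompact_preimage (f := f) _ W.2 hW.isCompact
  obtain ⟨s, hs, hsup⟩ := exists_finset_affine_sup_eq (f ⁻¹ᵁ W) hcomp
  have hsO : ∀ U ∈ s, U ≤ f ⁻¹ᵁ W := fun U hU => hsup ▸ Finset.le_sup (f := id) hU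
  have hqs : IsQuasiSeparated ((f ⁻¹ᵁ W : X.Opens) : Set X) :=
    f.isQuasiSeparated_preimage hW.isQuasiSeparated
  obtain ⟨d, hd⟩ := exists_cohDim_uniform (f ⁻¹ᵁ W) s hs hsO (fun U hU U' hU' =>
    hqs U U' (hsO U hU) U.2 (hs U hU).isCompact (hsO U' hU') U'.2 (hs U' hU').isCompact)
  refine ⟨d, fun g M hM p hp => ?_⟩
  have e : f ⁻¹ᵁ S.basicOpen g = s.sup id ⊓ X.basicOpen (f.app W g) := by
    rw [hsup, Scheme.preimage_basicOpen]
    exact (inf_eq_right.mpr (X.basicOpen_le _)).symm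
  rw [e]
  exact hd _ M hM p hp

/-- **finite cohomological dimension of a qcqs morphism over a quasi-compact base.** -/
theorem exists_isZero_RpushAb (f : X ⟶ S) [QuasiCompact f] [QuasiSeparated f] [CompactSpace S] :
    ∃ n : ℕ, ∀ (M : X.Modules), M.IsQuasicoherent → ∀ p : ℕ, n ≤ p →
      IsZero (((pushAb f.base).rightDerived p).obj (Coh.toAb M)) := by
  classical
  obtain ⟨c, hc, hcsup⟩ := exists_finset_affine_sup_eq (⊤ : S.Opens) isCompact_univ
  have hd : ∀ W : S.Opens, ∃ d : ℕ, W ∈ c → ∀ (g : Γ(S, W)) (M : X.Modules),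
      M.IsQuasicoherent → ∀ p : ℕ, d ≤ p →
      Subsingleton (Ext (ZU (JX X) (f ⁻¹ᵁ S.basicOpen g)) (Coh.toAb M) (p + 1)) := by
    intro W
    by_cases hW : W ∈ c
    · obtain ⟨d, hd⟩ := exists_cohDim_preimage_basicOpen f W (hc W hW)
      exact ⟨d, fun _ => hd⟩
    · exact ⟨0, fun h => absurd h hW⟩
  choose d hd using hd
  let 𝔅 : Set S.Opens := {V | ∃ W ∈ c, ∃ g : Γ(S, W), V = S.basicOpen g}
  have h𝔅 : Opens.IsBasis 𝔅 := by
    rw [Opens.isBasis_iff_nbhd]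
    intro O x hx
    have hx' : x ∈ c.sup id := by rw [hcsup]; trivial
    obtain ⟨W, hW, hxW⟩ : ∃ W ∈ c, x ∈ W := by
      have : (x : S) ∈ ((c.sup id : S.Opens) : Set S) := hx'
      rw [Opens.coe_finset_sup, Finset.sup_set_eq_biUnion] at this
      obtain ⟨W, hW, hxW⟩ := Set.mem_iUnion₂.mp this
      exact ⟨W, hW, hxW⟩
    obtain ⟨g, hg, hxg⟩ := (hc W hW).exists_basicOpen_le (V := O) ⟨x, hx⟩ hxW
    exact ⟨S.basicOpen g, ⟨W, hW, g, rfl⟩, hxg, hg⟩
  refine ⟨c.sup d + 1, fun M hM p hp => ?_⟩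
  obtain ⟨q, rfl⟩ : ∃ q, p = q + 1 := ⟨p - 1, by omega⟩
  refine isZero_rightDerived_push f.base 𝔅 h𝔅 (c.sup d) ?_ q (by omega)
  rintro V ⟨W, hW, g, rfl⟩ i hi
  exact hd W hW g M hM i ((Finset.le_sup (f := d) hW).trans hi)

end Groth.Agent.LD.SC
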