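import Groth.Agent.Lib.Lead.SC.Basic
import Mathlib.Topology.Sheaves.Flasque
import Mathlib.Algebra.Category.Grp.Adjunctions

/-! # Flasque sheaves are acyclic; injective sheaves are flasque. -/

universe u
open CategoryTheory Limits Opposite Abelian TopologicalSpace

namespace Groth.Agent.LD.SC

section Top
variable {T : TopCat.{u}}

instance mono_whisker_yoneda {U V : Opens T} (f : V ⟶ U) :
    Mono (Functor.whiskerRight (yoneda.map f) AddCommGrpCat.free.{u}) := by
  haveI : ∀ W, Mono ((Functor.whiskerRight (yoneda.map f) AddCommGrpCat.free.{u}).app W) := by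
    intro W
    haveI : Mono ((yoneda.map f).app W) := by
      rw [mono_iff_injective]
      intro a b _
      exact Subsingleton.elim (α := (W.unop ⟶ V)) a b
    exact inferInstanceAs (Mono (AddCommGrpCat.free.map ((yoneda.map f).app W)))
  exact NatTrans.mono_of_mono_app _

instance mono_ZUmap {U V : Opens T} (f : V ⟶ U) :
    Mono (ZUmap (Opens.grothendieckTopology T) f) := by
  unfold ZUmap
  infer_instance

/-- injective abelian sheaves are flasque. -/
theorem isFlasque_of_injective (I : Sheaf (Opens.grothendieckTopology T) AddCommGrpCat.{u})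
    [Injective I] : TopCat.Sheaf.IsFlasque I where
  epi {U V} i := by
    rw [AddCommGrpCat.epi_iff_surjective]
    intro s
    refine ⟨homEquiv U.unop I
      (Injective.factorThru ((homEquiv V.unop I).symm s)
        (ZUmap (Opens.grothendieckTopology T) i.unop)), ?_⟩
    have := homEquiv_map i.unop (Injective.factorThru ((homEquiv V.unop I).symm s)
        (ZUmap (Opens.grothendieckTopology T) i.unop))
    rw [Injective.comp_factorThru, Equiv.apply_symm_apply] at this
    exact this.symm

variable [HasExt.{u} (Sheaf (Opens.grothendieckTopology T) AddCommGrpCat.{u})]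
  [EnoughInjectives (Sheaf (Opens.grothendieckTopology T) AddCommGrpCat.{u})]

/-- flasque sheaves are acyclic on every open. -/
theorem subsingleton_ext_of_isFlasque (p : ℕ) :
    ∀ (F : Sheaf (Opens.grothendieckTopology T) AddCommGrpCat.{u}) [TopCat.Sheaf.IsFlasque F]
      (U : Opens T), Subsingleton (Ext (ZU (Opens.grothendieckTopology T) U) F (p + 1)) := by
  induction p with
  | zero =>
    intro F _ U
    refine ⟨fun a b => ?_⟩
    suffices h : ∀ ξ : Ext (ZU (Opens.grothendieckTopology T) U) F (0 + 1), ξ = 0 by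
      rw [h a, h b]
    intro ξ
    let S := ShortComplex.mk _ _ (cokernel.condition (Injective.ι F))
    have hS : S.ShortExact :=
      { exact := ShortComplex.exact_of_g_is_cokernel _ (cokernelIsCokernel S.f) }
    obtain ⟨x₃, hx₃⟩ := Ext.covariant_sequence_exact₁ (ZU (Opens.grothendieckTopology T) U) hS ξ
      (Ext.eq_zero_of_injective _) (rfl : 0 + 1 = 1)
    obtain ⟨q, rfl⟩ := Ext.addEquiv₀.symm.surjective x₃
    haveI : TopCat.Sheaf.IsFlasque S.X₁ := ‹_›
    have hepi := TopCat.Sheaf.IsFlasque.epi_of_shortExact (U := U) hS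
    rw [AddCommGrpCat.epi_iff_surjective] at hepi
    obtain ⟨t, ht⟩ := hepi (homEquiv U S.X₃ q)
    have h1 : q = (homEquiv U S.X₂).symm t ≫ S.g := by
      apply (homEquiv U S.X₃).injective
      rw [homEquiv_comp, Equiv.apply_symm_apply]
      exact ht.symm
    rw [← hx₃]
    change (Ext.mk₀ q).comp _ _ = 0
    rw [h1, ← Ext.mk₀_comp_mk₀, Ext.comp_assoc_of_second_deg_zero, hS.comp_extClass,
      Ext.comp_zero]
  | succ n ih =>
    intro F _ U
    refine ⟨fun a b => ?_⟩
    suffices h : ∀ ξ : Ext (ZU (Opens.grothendieckTopology T) U) F (n + 1 + 1), ξ = 0 by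
      rw [h a, h b]
    intro ξ
    let S := ShortComplex.mk _ _ (cokernel.condition (Injective.ι F))
    have hS : S.ShortExact :=
      { exact := ShortComplex.exact_of_g_is_cokernel _ (cokernelIsCokernel S.f) }
    obtain ⟨x₃, hx₃⟩ := Ext.covariant_sequence_exact₁ (ZU (Opens.grothendieckTopology T) U) hS ξ
      (Ext.eq_zero_of_injective _) (rfl : (n + 1) + 1 = n + 1 + 1)
    haveI : TopCat.Sheaf.IsFlasque S.X₁ := ‹_›
    haveI : TopCat.Sheaf.IsFlasque S.X₂ := isFlasque_of_injective (Injective.under F)
    haveI : TopCat.Sheaf.IsFlasque S.X₃ := TopCat.Sheaf.IsFlasque.of_shortExact_of_isFlasque₁₂ hS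
    haveI := ih S.X₃ U
    rw [← hx₃, Subsingleton.elim x₃ 0, Ext.zero_comp]

end Top

end Groth.Agent.LD.SC
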