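import Mathlib.CategoryTheory.Abelian.RightDerived
import Mathlib.Algebra.Homology.HomologySequenceLemmas
import Mathlib.Algebra.Homology.HomologicalComplexAbelian
import Mathlib.CategoryTheory.Abelian.FunctorCategory

/-! # Short exact sequences of functors (exact on injectives) and the connecting natural
transformations between right derived functors. -/

universe v v' u u'
open CategoryTheory Limits

namespace Groth.Agent.LD.SC.FunSES

variable {C : Type u} [Category.{v} C] [Abelian C]
  {D : Type u'} [Category.{v'} D] [Abelian D]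
  {G₁ G₂ G₃ : C ⥤ D} [G₁.Additive] [G₂.Additive] [G₃.Additive]
  (α : G₁ ⟶ G₂) (β : G₂ ⟶ G₃) (w : α ≫ β = 0)

omit [Abelian C] [G₁.Additive] [G₂.Additive] [G₃.Additive] in
include w in
lemma app_comp_app (Z : C) : α.app Z ≫ β.app Z = 0 := by
  rw [← NatTrans.comp_app, w]; rfl

/-- the short complex of cochain complexes `G₁ K ⟶ G₂ K ⟶ G₃ K`. -/
noncomputable def sc (K : CochainComplex C ℕ) : ShortComplex (CochainComplex D ℕ) :=
  ShortComplex.mk ((NatTrans.mapHomologicalComplex α _).app K)
    ((NatTrans.mapHomologicalComplex β _).app K) (by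
      ext i
      exact app_comp_app α β w (K.X i))

/-- functoriality of `sc` in the complex. -/
noncomputable def scMap {K L : CochainComplex C ℕ} (φ : K ⟶ L) : sc α β w K ⟶ sc α β w L where
  τ₁ := (G₁.mapHomologicalComplex _).map φ
  τ₂ := (G₂.mapHomologicalComplex _).map φ
  τ₃ := (G₃.mapHomologicalComplex _).map φ
  comm₁₂ := NatTrans.mapHomologicalComplex_naturality α φ
  comm₂₃ := NatTrans.mapHomologicalComplex_naturality β φ

variable (hαβ : ∀ (I : C), Injective I →
  (ShortComplex.mk (α.app I) (β.app I) (app_comp_app α β w I)).ShortExact)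

include hαβ in
lemma sc_shortExact (K : CochainComplex C ℕ) (hK : ∀ n, Injective (K.X n)) :
    (sc α β w K).ShortExact :=
  HomologicalComplex.shortExact_of_degreewise_shortExact _ (fun i => hαβ (K.X i) (hK i))


variable [HasInjectiveResolutions C]

include hαβ in
/-- the short exact sequence of complexes attached to an injective resolution. -/
lemma shortExact_res {X : C} (I : InjectiveResolution X) : (sc α β w I.cocomplex).ShortExact :=
  sc_shortExact α β w hαβ I.cocomplex (fun k => I.injective k)

/-- the connecting morphism computed with a given injective resolution. -/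
noncomputable def δObj {X : C} (I : InjectiveResolution X) (n : ℕ) :
    (G₃.rightDerived n).obj X ⟶ (G₁.rightDerived (n + 1)).obj X :=
  (I.isoRightDerivedObj G₃ n).hom ≫ (shortExact_res α β w hαβ I).δ n (n + 1) rfl ≫
    (I.isoRightDerivedObj G₁ (n + 1)).inv

lemma δObj_naturality {X Y : C} (f : X ⟶ Y) (I : InjectiveResolution X)
    (J : InjectiveResolution Y) (n : ℕ) :
    (G₃.rightDerived n).map f ≫ δObj α β w hαβ J n =
      δObj α β w hαβ I n ≫ (G₁.rightDerived (n + 1)).map f := by
  let φ : I.cocomplex ⟶ J.cocomplex := InjectiveResolution.desc f J I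
  have comm : I.ι.f 0 ≫ φ.f 0 = f ≫ J.ι.f 0 := InjectiveResolution.desc_commutes_zero f J I
  have n1 := InjectiveResolution.isoRightDerivedObj_hom_naturality f I J φ comm G₃ n
  have n2 := InjectiveResolution.isoRightDerivedObj_inv_naturality f I J φ comm G₁ (n + 1)
  have n3 := HomologicalComplex.HomologySequence.δ_naturality (scMap α β w φ)
    (shortExact_res α β w hαβ I) (shortExact_res α β w hαβ J) n (n + 1) rfl
  dsimp only [δObj]
  refine (Category.assoc _ _ _).symm.trans ?_
  refine (congrArg (fun z => z ≫ _) n1).trans ?_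
  refine (Category.assoc _ _ _).trans ?_
  refine (congrArg (fun z => _ ≫ z) ((Category.assoc _ _ _).symm.trans
    ((congrArg (fun z => z ≫ _) n3.symm).trans (Category.assoc _ _ _)))).trans ?_
  refine (congrArg (fun z => _ ≫ _ ≫ z) n2.symm).trans ?_
  simp only [Category.assoc]
  rfl

/-- the connecting natural transformation `RⁿG₃ ⟶ Rⁿ⁺¹G₁`. -/
noncomputable def δnat (n : ℕ) : G₃.rightDerived n ⟶ G₁.rightDerived (n + 1) where
  app X := δObj α β w hαβ (injectiveResolution X) n
  naturality _ _ f := δObj_naturality α β w hαβ f _ _ n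


/-- if `RⁿG₂ X` and `Rⁿ⁺¹G₂ X` vanish, the connecting map at `X` is an isomorphism. -/
lemma isIso_δnat_app (n : ℕ) (X : C) (h : IsZero ((G₂.rightDerived n).obj X))
    (h' : IsZero ((G₂.rightDerived (n + 1)).obj X)) : IsIso ((δnat α β w hαβ n).app X) := by
  have hS := shortExact_res α β w hαβ (injectiveResolution X)
  have h2 : IsZero ((sc α β w (injectiveResolution X).cocomplex).X₂.homology n) :=
    IsZero.of_iso h ((injectiveResolution X).isoRightDerivedObj G₂ n).symm
  have h2' : IsZero ((sc α β w (injectiveResolution X).cocomplex).X₂.homology (n + 1)) :=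
    IsZero.of_iso h' ((injectiveResolution X).isoRightDerivedObj G₂ (n + 1)).symm
  have h3 := hS.isIso_δ n (n + 1) rfl h2 h2'
  change IsIso (δObj α β w hαβ (injectiveResolution X) n)
  dsimp only [δObj]
  exact @IsIso.comp_isIso _ _ _ _ _ _ _ inferInstance
    (@IsIso.comp_isIso _ _ _ _ _ _ _ h3 inferInstance)

/-- `RⁿG₃ ≅ Rⁿ⁺¹G₁` when `RⁿG₂` and `Rⁿ⁺¹G₂` vanish. -/
noncomputable def δIso (n : ℕ) (h : ∀ X, IsZero ((G₂.rightDerived n).obj X))
    (h' : ∀ X, IsZero ((G₂.rightDerived (n + 1)).obj X)) :
    G₃.rightDerived n ≅ G₁.rightDerived (n + 1) :=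
  haveI : ∀ X, IsIso ((δnat α β w hαβ n).app X) := fun X =>
    isIso_δnat_app α β w hαβ n X (h X) (h' X)
  haveI : IsIso (δnat α β w hαβ n) := NatIso.isIso_of_isIso_app _
  asIso (δnat α β w hαβ n)


/-- an exact functor has no higher derived functors. -/
lemma isZero_rightDerived_succ_of_exact (G : C ⥤ D) [G.Additive]
    [PreservesFiniteLimits G] [PreservesFiniteColimits G] (n : ℕ) (X : C) :
    IsZero ((G.rightDerived (n + 1)).obj X) := by
  refine IsZero.of_iso ?_ ((injectiveResolution X).isoRightDerivedObj G (n + 1))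
  have h := (injectiveResolution X).cocomplex_exactAt_succ n
  rw [HomologicalComplex.exactAt_iff] at h
  have h2 : ((G.mapHomologicalComplex _).obj (injectiveResolution X).cocomplex).ExactAt (n + 1) := by
    rw [HomologicalComplex.exactAt_iff]
    exact h.map G
  exact h2.isZero_homology

section Zero

/-- `G X ⟶ H⁰(G I)`. -/
noncomputable def t0 (G : C ⥤ D) [G.Additive] {X : C} (I : InjectiveResolution X) :
    G.obj X ⟶ ((G.mapHomologicalComplex _).obj I.cocomplex).homology 0 :=
  I.toRightDerivedZero' G ≫ (CochainComplex.isoHomologyπ₀ _).hom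

instance (G : C ⥤ D) [G.Additive] [PreservesFiniteLimits G] {X : C} (I : InjectiveResolution X) :
    IsIso (t0 G I) := by
  dsimp only [t0]; infer_instance

lemma toRightDerivedZero_app_eq (G : C ⥤ D) [G.Additive] {X : C} (I : InjectiveResolution X) :
    G.toRightDerivedZero.app X = t0 G I ≫ (I.isoRightDerivedObj G 0).inv := by
  rw [I.toRightDerivedZero_eq G]
  simp only [t0, Category.assoc]

omit [HasInjectiveResolutions C] in
/-- compatibility of `t0` with a natural transformation. -/
lemma t0_naturality {G G' : C ⥤ D} [G.Additive] [G'.Additive] (γ : G ⟶ G') {X : C}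
    (I : InjectiveResolution X) :
    γ.app X ≫ t0 G' I =
      t0 G I ≫ HomologicalComplex.homologyMap ((NatTrans.mapHomologicalComplex γ _).app I.cocomplex) 0 := by
  have h1 : γ.app X ≫ I.toRightDerivedZero' G' = I.toRightDerivedZero' G ≫
      HomologicalComplex.cyclesMap ((NatTrans.mapHomologicalComplex γ _).app I.cocomplex) 0 := by
    rw [← cancel_mono (HomologicalComplex.iCycles _ _)]
    simp only [Category.assoc, InjectiveResolution.toRightDerivedZero'_comp_iCycles,
      HomologicalComplex.cyclesMap_i, InjectiveResolution.toRightDerivedZero'_comp_iCycles_assoc]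
    exact (γ.naturality _).symm
  dsimp only [t0]
  rw [← Category.assoc, h1, Category.assoc, Category.assoc]
  congr 1
  exact (HomologicalComplex.homologyπ_naturality _ 0).symm

/-- the map `G₃ ⟶ R¹G₁`. -/
noncomputable def π1 : G₃ ⟶ G₁.rightDerived 1 := G₃.toRightDerivedZero ≫ δnat α β w hαβ 0

lemma π1_app (X : C) : (π1 α β w hαβ).app X =
    t0 G₃ (injectiveResolution X) ≫ (shortExact_res α β w hαβ (injectiveResolution X)).δ 0 1 rfl ≫
      ((injectiveResolution X).isoRightDerivedObj G₁ 1).inv := by
  change G₃.toRightDerivedZero.app X ≫ δObj α β w hαβ (injectiveResolution X) 0 = _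
  rw [toRightDerivedZero_app_eq G₃ (injectiveResolution X)]
  dsimp only [δObj]
  rw [Category.assoc]
  refine congrArg (fun z => t0 G₃ (injectiveResolution X) ≫ z) ?_
  exact Iso.inv_hom_id_assoc _ _

lemma β_π1 : β ≫ π1 α β w hαβ = 0 := by
  ext X
  rw [NatTrans.comp_app, π1_app, ← Category.assoc, t0_naturality β (injectiveResolution X),
    Category.assoc]
  have h := (shortExact_res α β w hαβ (injectiveResolution X)).comp_δ 0 1 rfl
  change HomologicalComplex.homologyMap ((NatTrans.mapHomologicalComplex β _).app _) 0 ≫ _ = 0 at h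
  rw [reassoc_of% h]
  simp


variable [PreservesFiniteLimits G₂] [PreservesFiniteLimits G₃]

lemma β_π1_app (X : C) : β.app X ≫ (π1 α β w hαβ).app X = 0 := by
  rw [← NatTrans.comp_app, β_π1]; rfl

/-- pointwise exactness of `G₂ ⟶ G₃ ⟶ R¹G₁`. -/
lemma exact_app (X : C) :
    (ShortComplex.mk (β.app X) ((π1 α β w hαβ).app X) (β_π1_app α β w hαβ X)).Exact := by
  have hS := shortExact_res α β w hαβ (injectiveResolution X)
  have h2 : (ShortComplex.mk _ _ (hS.comp_δ 0 1 rfl)).Exact := hS.homology_exact₃ 0 1 rfl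
  let φ : ShortComplex.mk (β.app X) ((π1 α β w hαβ).app X) (β_π1_app α β w hαβ X) ⟶
      ShortComplex.mk _ _ (hS.comp_δ 0 1 rfl) :=
    { τ₁ := t0 G₂ (injectiveResolution X)
      τ₂ := t0 G₃ (injectiveResolution X)
      τ₃ := ((injectiveResolution X).isoRightDerivedObj G₁ 1).hom
      comm₁₂ := (t0_naturality β (injectiveResolution X)).symm
      comm₂₃ := by
        change t0 G₃ (injectiveResolution X) ≫ hS.δ 0 1 rfl = (π1 α β w hαβ).app X ≫ _
        rw [π1_app]
        simp only [Category.assoc, Iso.inv_hom_id, Category.comp_id] }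
  haveI : IsIso φ.τ₁ := inferInstanceAs (IsIso (t0 G₂ (injectiveResolution X)))
  haveI : IsIso φ.τ₂ := inferInstanceAs (IsIso (t0 G₃ (injectiveResolution X)))
  haveI : IsIso φ.τ₃ :=
    inferInstanceAs (IsIso ((injectiveResolution X).isoRightDerivedObj G₁ 1).hom)
  exact (ShortComplex.exact_iff_of_epi_of_isIso_of_mono φ).2 h2

lemma epi_π1_app (X : C) (h : IsZero ((G₂.rightDerived 1).obj X)) :
    Epi ((π1 α β w hαβ).app X) := by
  have hS := shortExact_res α β w hαβ (injectiveResolution X)
  have h2 : IsZero ((sc α β w (injectiveResolution X).cocomplex).X₂.homology 1) :=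
    IsZero.of_iso h ((injectiveResolution X).isoRightDerivedObj G₂ 1).symm
  have h3 := hS.epi_δ 0 1 rfl h2
  rw [π1_app]
  exact @epi_comp _ _ _ _ _ _ inferInstance _ (@epi_comp _ _ _ _ _ _ h3 _ inferInstance)

omit [HasInjectiveResolutions C] [PreservesFiniteLimits G₂] [PreservesFiniteLimits G₃] in
/-- exactness in a functor category is pointwise. -/
lemma exact_of_app_exact (S : ShortComplex (C ⥤ D))
    (h : ∀ X, (S.map ((evaluation C D).obj X)).Exact) : S.Exact := by
  simp only [ShortComplex.exact_iff_isZero_homology] at h ⊢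
  rw [Functor.isZero_iff]
  intro X
  exact IsZero.of_iso (h X) (S.mapHomologyIso ((evaluation C D).obj X)).symm

/-- `coker(G₂ ⟶ G₃) ≅ R¹G₁` when `R¹G₂ = 0` and `G₂`, `G₃` are left exact. -/
noncomputable def cokerIso (h1 : ∀ X, IsZero ((G₂.rightDerived 1).obj X)) :
    cokernel β ≅ G₁.rightDerived 1 := by
  have hex : (ShortComplex.mk β (π1 α β w hαβ) (β_π1 α β w hαβ)).Exact :=
    exact_of_app_exact _ (fun X => exact_app α β w hαβ X)
  haveI : ∀ X, Epi ((π1 α β w hαβ).app X) := fun X => epi_π1_app α β w hαβ X (h1 X)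
  haveI : Epi (ShortComplex.mk β (π1 α β w hαβ) (β_π1 α β w hαβ)).g :=
    NatTrans.epi_of_epi_app (π1 α β w hαβ)
  exact (cokernelIsCokernel β).coconePointUniqueUpToIso hex.gIsCokernel

end Zero

end Groth.Agent.LD.SC.FunSES
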