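import Groth.Agent.Lib.Lead.FBC.Final2
import Groth.Agent.Lib.Lead.QCQS.Main
import Groth.Agent.Lib.Lead.SC.Restrict
import Groth.Agent.Lib.Lead.SC.RPush
import Groth.Agent.Lib.Lead.RP.LemmaA
import Groth.Agent.Lib.Lead.QC.SubExtRestrict

/-! # Higher direct images along quasi-compact open immersions into schemes whose local rings are
Noetherian of dimension `≤ 1` vanish (S1663). -/

set_option autoImplicit false
universe u
open CategoryTheory Limits Opposite Abelian AlgebraicGeometry TopologicalSpace TensorProduct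

namespace Groth.Agent.LD.SC

open Groth.Agent.LD.QC Groth.Agent.LD.QCQS Groth.Agent.LD.RP Groth.Agent.LD.FBC

/-- an open subscheme of the spectrum of a Noetherian local ring of dimension `≤ 1` is affine. -/
theorem isAffine_of_isOpenImmersion_spec_dim_le_one (B : Type u) [CommRing B] [IsLocalRing B]
    [IsNoetherianRing B] (hdim : ringKrullDim B ≤ 1) {X' : Scheme.{u}}
    (ι : X' ⟶ Spec (CommRingCat.of B)) [IsOpenImmersion ι] : IsAffine X' := by
  by_cases hc : IsLocalRing.closedPoint B ∈ Set.range ι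
  · have hsurj : Function.Surjective ι := by
      intro y
      have hy : y ⤳ IsLocalRing.closedPoint B := IsLocalRing.specializes_closedPoint y
      exact hy.mem_open ι.isOpenEmbedding.isOpen_range hc
    haveI : Surjective ι := ⟨hsurj⟩
    haveI : IsIso ι := (isIso_iff_isOpenImmersion_and_surjective ι).mpr ⟨inferInstance, inferInstance⟩
    exact IsAffine.of_isIso ι
  · haveI hK : Ring.KrullDimLE 1 B := Ring.krullDimLE_iff.mpr hdim
    have hmin : ∀ x : X', (ι x).asIdeal ∈ minimalPrimes B := by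
      intro x
      rcases Ring.krullDimLE_one_iff.mp hK (ι x).asIdeal (ι x).isPrime with h | h
      · exact h
      · exfalso
        apply hc
        refine ⟨x, ?_⟩
        apply PrimeSpectrum.ext
        exact IsLocalRing.eq_maximalIdeal h
    have hfin : (minimalPrimes B).Finite := minimalPrimes.finite_of_isNoetherianRing B
    haveI : Finite X' := by
      haveI := hfin.to_subtype
      refine Finite.of_injective (fun x => (⟨(ι x).asIdeal, hmin x⟩ : minimalPrimes B)) ?_
      intro x y hxy
      apply ι.isOpenEmbedding.injective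
      apply PrimeSpectrum.ext
      exact congrArg Subtype.val hxy
    haveI : T1Space X' := by
      rw [t1Space_iff_specializes_imp_eq]
      intro x y hxy
      have h1 : ι x ⤳ ι y := ι.isOpenEmbedding.isInducing.specializes_iff.mpr hxy
      have h2 : (ι x).asIdeal ≤ (ι y).asIdeal := (PrimeSpectrum.le_iff_specializes _ _).mpr h1
      have h3 : (ι y).asIdeal ≤ (ι x).asIdeal := (hmin y).2 ⟨(ι x).isPrime, bot_le⟩ h2
      apply ι.isOpenEmbedding.injective
      apply PrimeSpectrum.ext
      exact le_antisymm h2 h3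
    infer_instance


variable {X : Scheme.{u}}

/-- cohomology over `U ∩ V` vanishes in positive degrees, `V` affine, local rings of `X` Noetherian
of dimension `≤ 1`, `U` retrocompact. -/
theorem subsingleton_HH_preimage_dim_le_one
    (hX : ∀ x : X, IsNoetherianRing (X.presheaf.stalk x) ∧ ringKrullDim (X.presheaf.stalk x) ≤ 1)
    (U : X.Opens) [QuasiCompact U.ι] (V : X.Opens) (hV : IsAffineOpen V)
    (G : (U.ι ⁻¹ᵁ V).toScheme.Modules) [G.IsQuasicoherent] (j : ℕ) :
    Subsingleton (Coh.HH (U.ι ⁻¹ᵁ V).toScheme G (j + 1)) := by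
  let T : Scheme.{u} := (U.ι ⁻¹ᵁ V).toScheme
  let A : Type u := Γ(X, V)
  let τ : T ⟶ Spec (CommRingCat.of A) := (U.ι ∣_ V) ≫ hV.isoSpec.hom
  haveI : IsOpenImmersion τ := inferInstance
  haveI : CompactSpace T := isCompact_iff_compactSpace.mp (U.ι.isCompact_preimage hV.isCompact)
  haveI : QuasiSeparatedSpace T := quasiSeparatedSpace_of_quasiSeparated τ
  letI mA : Module A (Coh.HH T G (j + 1)) := Module.compHom _ (Coh.toGlobal τ)
  refine ⟨fun a b => ?_⟩
  suffices h : ∀ z : Coh.HH T G (j + 1), z = 0 by rw [h a, h b]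
  intro z
  by_contra hz
  -- the annihilator of z is a proper ideal
  let I : Ideal A := (LinearMap.toSpanSingleton A (Coh.HH T G (j + 1)) z).ker
  have hI : I ≠ ⊤ := by
    intro h
    apply hz
    have h0 : (1 : A) ∈ I := by rw [h]; exact Submodule.mem_top
    have h1 : (LinearMap.toSpanSingleton A (Coh.HH T G (j + 1)) z) 1 = 0 :=
      LinearMap.mem_ker.mp h0
    rwa [LinearMap.toSpanSingleton_apply, one_smul] at h1
  obtain ⟨P, hP, hIP⟩ := I.exists_le_maximal hI
  let y : PrimeSpectrum A := ⟨P, hP.isPrime⟩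
  have hy : hV.fromSpec y ∈ V := by
    have : hV.fromSpec y ∈ Set.range hV.fromSpec := Set.mem_range_self y
    rwa [hV.range_fromSpec] at this
  let x : X := hV.fromSpec y
  let B : Type u := X.presheaf.stalk x
  letI : Algebra A B := TopCat.Presheaf.algebra_section_stalk X.presheaf ⟨x, hy⟩
  haveI hloc : IsLocalization.AtPrime B P := hV.isLocalization_stalk' y hy
  haveI : Module.Flat A B := IsLocalization.flat B P.primeCompl
  haveI : IsNoetherianRing B := (hX x).1
  let X' : Scheme.{u} := pullback τ (Spec.map (CommRingCat.ofHom (algebraMap A B)))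
  let g' : X' ⟶ T := pullback.fst _ _
  let f' : X' ⟶ Spec (CommRingCat.of B) := pullback.snd _ _
  have hpb : IsPullback g' f' τ (Spec.map (CommRingCat.ofHom (algebraMap A B))) :=
    IsPullback.of_hasPullback _ _
  haveI : IsOpenImmersion f' := inferInstance
  haveI : IsAffine X' := isAffine_of_isOpenImmersion_spec_dim_le_one B (hX x).2 f'
  letI mB : Module B (Coh.HH X' ((Scheme.Modules.pullback g').obj G) (j + 1)) :=
    Module.compHom _ (Coh.toGlobal f')
  obtain ⟨e⟩ := flat_base_change g' τ f' hpb G (j + 1)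
  haveI : ((Scheme.Modules.pullback g').obj G).IsQuasicoherent := qc_pullback g' G
  have h1 : Subsingleton (Ext (ZU (JX X') ⊤)
      (Coh.toAb ((Scheme.Modules.pullback g').obj G)) (j + 1)) :=
    subsingleton_ext_of_isAffineOpen _ j ⊤ (isAffineOpen_top X')
  haveI h2 : Subsingleton (Coh.HH X' ((Scheme.Modules.pullback g').obj G) (j + 1)) :=
    subsingleton_H_of_subsingleton_ext (T := (⊤ : X'.Opens)) isTerminalTop _ _ h1
  haveI h3 : Subsingleton (B ⊗[A] Coh.HH T G (j + 1)) := e.toEquiv.subsingleton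
  have h4 : (TensorProduct.mk A B (Coh.HH T G (j + 1)) 1) z = 0 := Subsingleton.elim _ _
  obtain ⟨s, hs⟩ := (IsLocalizedModule.eq_zero_iff P.primeCompl
    (TensorProduct.mk A B (Coh.HH T G (j + 1)) 1)).mp h4
  apply s.2
  apply hIP
  apply LinearMap.mem_ker.mpr
  rw [LinearMap.toSpanSingleton_apply]
  exact hs

/-- **S1663** -/
theorem isZero_Rpush_open_dim_le_one
    (hX : ∀ x : X, IsNoetherianRing (X.presheaf.stalk x) ∧ ringKrullDim (X.presheaf.stalk x) ≤ 1)
    (U : X.Opens) [QuasiCompact U.ι] [HasInjectiveResolutions (U : Scheme.{u}).Modules]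
    (F : (U : Scheme.{u}).Modules) (hF : F.IsQuasicoherent) (p : ℕ) (hp : 0 < p) :
    IsZero ((Coh.Rpush U.ι p).obj F) := by
  obtain ⟨e⟩ := nonempty_toAb_Rpush_iso U.ι F p
  apply isZero_of_isZero_τ
  refine IsZero.of_iso ?_ e
  obtain ⟨k, rfl⟩ : ∃ k, p = k + 1 := ⟨p - 1, by omega⟩
  refine isZero_rightDerived_push U.ι.base {V : X.Opens | IsAffineOpen V}
    (Scheme.isBasis_affineOpens X) 0 ?_ k (Nat.zero_le _)
  intro V hV j _
  haveI : (F.restrict (U.ι ⁻¹ᵁ V).ι).IsQuasicoherent := qc_restrict _ F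
  have h := subsingleton_HH_preimage_dim_le_one hX U V hV (F.restrict (U.ι ⁻¹ᵁ V).ι) j
  obtain ⟨e2⟩ := HH_restrict_equiv (U.ι ⁻¹ᵁ V).ι F (j + 1)
  rw [Scheme.Opens.opensRange_ι] at e2
  haveI := h
  exact e2.symm.toEquiv.subsingleton

end Groth.Agent.LD.SC
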