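import Groth.Agent.Lib.Lead.SC.Flasque
import Groth.Agent.Lib.Lead.SC.Global
import Groth.Agent.Lib.Lead.SC.RPush
import Groth.Prelude.Def_CohTop
import Mathlib.CategoryTheory.Sites.LocallyBijective
import Mathlib.Topology.Sheaves.SheafCondition.UniqueGluing

/-! # The constant sheaf on an irreducible space is flasque. -/

universe u
open CategoryTheory Limits Opposite TopologicalSpace

namespace Groth.Agent.LD.SC

variable (X : TopCat.{u}) (A : Type u) [AddCommGroup A]

/-- the subgroup of constant functions on an open. -/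
def constSub (U : Opens X) : AddSubgroup (U → A) where
  carrier := {f | ∀ x y, f x = f y}
  zero_mem' := fun _ _ => rfl
  add_mem' := fun {f g} hf hg x y => by
    change f x + g x = f y + g y
    rw [hf x y, hg x y]
  neg_mem' := fun {f} hf x y => by
    change - f x = - f y
    rw [hf x y]

/-- the presheaf of constant functions. -/
def constFun : (Opens X)ᵒᵖ ⥤ AddCommGrpCat.{u} where
  obj U := AddCommGrpCat.of (constSub X A U.unop)
  map {U V} i := AddCommGrpCat.ofHom
    { toFun := fun f => ⟨fun x => f.1 ⟨x.1, i.unop.le x.2⟩, fun x y => f.2 _ _⟩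
      map_zero' := rfl
      map_add' := fun _ _ => rfl }
  map_id U := by
    ext f
    rfl
  map_comp i j := by
    ext f
    rfl

lemma constFun_map_apply {U V : (Opens X)ᵒᵖ} (i : U ⟶ V) (f : (constFun X A).obj U)
    (x : V.unop) : ((constFun X A).map i f).1 x = f.1 ⟨x.1, i.unop.le x.2⟩ := rfl

variable [PreirreducibleSpace X]

theorem isSheaf_constFun : TopCat.Presheaf.IsSheaf (constFun X A) := by
  rw [TopCat.Presheaf.isSheaf_iff_isSheafUniqueGluing]
  intro ι U sf hsf
  -- values agree across members
  have key : ∀ (i j : ι) (x : U i) (y : U j), (sf i).1 x = (sf j).1 y := by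
    intro i j x y
    obtain ⟨z, hzi, hzj⟩ := nonempty_preirreducible_inter (U i).2 (U j).2 ⟨x.1, x.2⟩ ⟨y.1, y.2⟩
    have h1 := congrArg (fun f => f.1 (⟨z, hzi, hzj⟩ : (U i ⊓ U j : Opens X))) (hsf i j)
    change (sf i).1 ⟨z, _⟩ = (sf j).1 ⟨z, _⟩ at h1
    rw [(sf i).2 x ⟨z, hzi⟩, h1, (sf j).2 ⟨z, hzj⟩ y]
  have hmem : ∀ x : (iSup U : Opens X), ∃ i, x.1 ∈ U i := fun x => Opens.mem_iSup.1 x.2
  choose idx hidx using hmem
  let s : (constFun X A).obj (op (iSup U)) :=
    ⟨fun x => (sf (idx x)).1 ⟨x.1, hidx x⟩, fun x y => key _ _ _ _⟩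
  refine ⟨s, ?_, ?_⟩
  · intro i
    apply Subtype.ext
    funext x
    exact key _ _ _ _
  · intro s' hs'
    apply Subtype.ext
    funext x
    have h1 := congrArg (fun f => f.1 (⟨x.1, hidx x⟩ : U (idx x))) (hs' (idx x))
    exact h1

/-- the sheaf of constant functions. -/
def constFunSheaf : Sheaf (Opens.grothendieckTopology X) AddCommGrpCat.{u} :=
  ⟨constFun X A, isSheaf_constFun X A⟩

instance : TopCat.Sheaf.IsFlasque (constFunSheaf X A) where
  epi {U V} i := by
    rw [AddCommGrpCat.epi_iff_surjective]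
    intro f
    classical
    by_cases hV : Nonempty V.unop
    · obtain ⟨x₀⟩ := hV
      refine ⟨⟨fun _ => f.1 x₀, fun _ _ => rfl⟩, ?_⟩
      apply Subtype.ext
      funext x
      exact f.2 x₀ x
    · refine ⟨0, ?_⟩
      apply Subtype.ext
      funext x
      exact (hV ⟨x⟩).elim

/-- the comparison from the constant presheaf. -/
def constToFun : (Functor.const (Opens X)ᵒᵖ).obj (AddCommGrpCat.of A) ⟶ constFun X A where
  app U := AddCommGrpCat.ofHom
    { toFun := fun a => ⟨fun _ => a, fun _ _ => rfl⟩
      map_zero' := rfl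
      map_add' := fun _ _ => rfl }
  naturality U V i := by
    ext a
    rfl

instance : Presheaf.IsLocallyInjective (Opens.grothendieckTopology X) (constToFun X A) where
  equalizerSieve_mem {U} a b h := by
    intro x hx
    refine ⟨U.unop, 𝟙 _, ?_, hx⟩
    change ((Functor.const (Opens X)ᵒᵖ).obj (AddCommGrpCat.of A)).map (𝟙 _) a =
      ((Functor.const (Opens X)ᵒᵖ).obj (AddCommGrpCat.of A)).map (𝟙 _) b
    have h1 := congrArg (fun f : (constFun X A).obj U => f.1 ⟨x, hx⟩) h
    exact h1

instance : Presheaf.IsLocallySurjective (Opens.grothendieckTopology X) (constToFun X A) := by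
  apply (TopCat.Presheaf.isLocallySurjective_iff _).mpr
  intro U t x hx
  refine ⟨U, le_rfl, ⟨t.1 ⟨x, hx⟩, ?_⟩, hx⟩
  apply Subtype.ext
  funext y
  exact t.2 _ _

instance isIso_sheafify_constToFun :
    IsIso ((presheafToSheaf (Opens.grothendieckTopology X) AddCommGrpCat.{u}).map
      (constToFun X A)) :=
  ((Opens.grothendieckTopology X).W_iff _).1
    ((Opens.grothendieckTopology X).W_of_isLocallyBijective (constToFun X A))

/-- the constant sheaf is the sheaf of constant functions. -/
noncomputable def constIso :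
    (constantSheaf (Opens.grothendieckTopology X) AddCommGrpCat.{u}).obj (AddCommGrpCat.of A) ≅
      constFunSheaf X A :=
  @asIso _ _ _ _ ((presheafToSheaf (Opens.grothendieckTopology X) AddCommGrpCat.{u}).map
      (constToFun X A)) (isIso_sheafify_constToFun X A) ≪≫
    (asIso (sheafificationAdjunction (Opens.grothendieckTopology X) AddCommGrpCat.{u}).counit).app
      (constFunSheaf X A)

theorem subsingleton_H_const (p : ℕ) :
    Subsingleton (Sheaf.H ((constantSheaf (Opens.grothendieckTopology X)
      AddCommGrpCat.{u}).obj (AddCommGrpCat.of A)) (p + 1)) := by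
  have h1 : Subsingleton (Sheaf.H (constFunSheaf X A) (p + 1)) :=
    subsingleton_H_of_subsingleton_ext (T := (⊤ : Opens X)) isTerminalTop _ _
      (subsingleton_ext_of_isFlasque p (constFunSheaf X A) ⊤)
  exact subsingleton_ext_of_iso (constIso X A).symm (p + 1) h1

end Groth.Agent.LD.SC
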