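import Groth.Agent.Lib.Lead.SC.Leray
import Groth.Agent.Lib.Lead.SC.Global
import Groth.Prelude.Def_CohTop

/-! # Cohomology of the restriction to an open subspace (topological spaces). -/

universe u
open CategoryTheory Limits Opposite Abelian TopologicalSpace Topology

namespace Groth.Agent.LD.SC

variable {X Y : TopCat.{u}} {j : Y ⟶ X} (hj : IsOpenEmbedding j)

/-- restriction of abelian sheaves along an open embedding. -/
noncomputable def resTop : Sheaf (Opens.grothendieckTopology X) AddCommGrpCat.{u} ⥤
    Sheaf (Opens.grothendieckTopology Y) AddCommGrpCat.{u} :=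
  haveI := hj.functor_isContinuous
  hj.isOpenMap.functor.sheafPushforwardContinuous AddCommGrpCat.{u} _ _

instance : (resTop hj).IsRightAdjoint := by
  haveI := hj.functor_isContinuous
  unfold resTop; infer_instance

instance : (resTop hj).Additive where

instance : PreservesFiniteLimits (resTop hj) := by
  haveI : PreservesLimits (resTop hj) :=
    (Adjunction.ofIsRightAdjoint (resTop hj)).rightAdjoint_preservesLimits
  infer_instance

lemma shortExact_resTop {S : ShortComplex (Sheaf (Opens.grothendieckTopology X) AddCommGrpCat.{u})}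
    (hS : S.ShortExact) : (S.map (resTop hj)).ShortExact := by
  haveI := hS.mono_f
  haveI := hS.epi_g
  haveI : Mono ((S.map (resTop hj)).f) := by
    change Mono ((resTop hj).map S.f)
    infer_instance
  haveI : Epi ((S.map (resTop hj)).g) := by
    apply (Sheaf.isLocallySurjective_iff_epi' (φ := (S.map (resTop hj)).g)).mp
    apply (TopCat.Presheaf.isLocallySurjective_iff _).mpr
    intro W t y hy
    have hls := (Sheaf.isLocallySurjective_iff_epi' (φ := S.g)).mpr inferInstance
    have hls' := (TopCat.Presheaf.isLocallySurjective_iff _).mp hls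
    obtain ⟨V, hV, ⟨s, hs⟩, hyV⟩ := hls' (hj.isOpenMap.functor.obj W) t (j y) ⟨y, hy, rfl⟩
    refine ⟨(Opens.map j).obj V, ?_, ?_, hyV⟩
    · intro z hz
      have : j z ∈ hj.isOpenMap.functor.obj W := hV hz
      obtain ⟨z', hz', e⟩ := this
      rwa [← hj.injective e]
    · have hle : hj.isOpenMap.functor.obj ((Opens.map j).obj V) ≤ V := by
        rintro _ ⟨z, hz, rfl⟩
        exact hz
      refine ⟨S.X₂.obj.map (homOfLE hle).op s, ?_⟩
      have nat := ConcreteCategory.congr_hom (S.g.hom.naturality (homOfLE hle).op) s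
      change (ConcreteCategory.hom (S.g.hom.app (op (hj.isOpenMap.functor.obj
        ((Opens.map j).obj V)))))
        ((ConcreteCategory.hom (S.X₂.obj.map (homOfLE hle).op)) s) = _
      rw [← ConcreteCategory.comp_apply, nat, ConcreteCategory.comp_apply, hs]
      change (ConcreteCategory.hom (S.X₃.obj.map (homOfLE hle).op))
        ((ConcreteCategory.hom (S.X₃.obj.map _)) t) = (ConcreteCategory.hom (S.X₃.obj.map _)) t
      rw [← ConcreteCategory.comp_apply, ← Functor.map_comp]
      rfl
  exact ShortComplex.ShortExact.mk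
    (hS.exact.map_of_mono_of_preservesKernel _ hS.mono_f inferInstance)

instance isFlasque_resTop (F : Sheaf (Opens.grothendieckTopology X) AddCommGrpCat.{u})
    [TopCat.Sheaf.IsFlasque F] :
    TopCat.Sheaf.IsFlasque ((resTop hj).obj F) where
  epi {U V} i := by
    change Epi (F.obj.map (hj.isOpenMap.functor.op.map i))
    infer_instance

/-- **cohomology of a restriction**: `Hᵖ(W, F|_Y) ≃ Hᵖ(j(W), F)`. -/
theorem ext_resTop_equiv (p : ℕ) :
    ∀ (F : Sheaf (Opens.grothendieckTopology X) AddCommGrpCat.{u}) (W : Opens Y),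
      Nonempty (Ext (ZU (Opens.grothendieckTopology Y) W) ((resTop hj).obj F) p ≃+
        Ext (ZU (Opens.grothendieckTopology X) (hj.isOpenMap.functor.obj W)) F p) := by
  induction p with
  | zero =>
    intro F W
    exact ⟨(H0Equiv W ((resTop hj).obj F)).trans (H0Equiv (hj.isOpenMap.functor.obj W) F).symm⟩
  | succ n ih =>
    intro F W
    let S := ShortComplex.mk _ _ (cokernel.condition (Injective.ι F))
    have hS : S.ShortExact :=
      { exact := ShortComplex.exact_of_g_is_cokernel _ (cokernelIsCokernel S.f) }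
    have hS' := shortExact_resTop hj hS
    haveI : TopCat.Sheaf.IsFlasque S.X₂ := isFlasque_of_injective (Injective.under F)
    haveI : TopCat.Sheaf.IsFlasque ((resTop hj).obj S.X₂) := inferInstance
    rcases n with _ | n
    · have e1 := ext1Equiv hS (hj.isOpenMap.functor.obj W)
        (subsingleton_ext_of_isFlasque 0 S.X₂ _)
      have e2 := ext1Equiv hS' W (subsingleton_ext_of_isFlasque 0 ((resTop hj).obj S.X₂) W)
      exact ⟨e2.symm.trans e1⟩
    · obtain ⟨e⟩ := ih S.X₃ W
      have e1 := extShiftEquiv hS (ZU (Opens.grothendieckTopology X)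
        (hj.isOpenMap.functor.obj W)) (n + 1)
        (subsingleton_ext_of_isFlasque n S.X₂ _) (subsingleton_ext_of_isFlasque (n + 1) S.X₂ _)
      have e2 := extShiftEquiv hS' (ZU (Opens.grothendieckTopology Y) W) (n + 1)
        (subsingleton_ext_of_isFlasque n ((resTop hj).obj S.X₂) W)
        (subsingleton_ext_of_isFlasque (n + 1) ((resTop hj).obj S.X₂) W)
      exact ⟨e2.symm.trans (e.trans e1)⟩

/-- `Hᵖ(U, F) ≃ Hᵖ(U, F|_U)`. -/
theorem HU_restr_equiv (F : Sheaf (Opens.grothendieckTopology X) AddCommGrpCat.{u}) (U : Opens X)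
    (p : ℕ) : Nonempty (CohTop.HU F p U ≃+ CohTop.H (CohTop.restr F U) p) := by
  have hU : IsOpenEmbedding (TopCat.Hom.hom (TopCat.ofHom
      (⟨_, continuous_subtype_val⟩ : C(U, X)))) := U.isOpenEmbedding
  obtain ⟨e⟩ := ext_resTop_equiv hU p F ⊤
  have e0 := HEquiv (J := Opens.grothendieckTopology (TopCat.of U))
    CategoryTheory.Limits.isTerminalTop ((resTop hU).obj F) p
  have h : hU.isOpenMap.functor.obj ⊤ = U := by
    ext x
    constructor
    · rintro ⟨z, _, rfl⟩
      exact z.2
    · intro hx
      exact ⟨⟨x, hx⟩, trivial, rfl⟩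
  rw [h] at e
  exact ⟨(e0.trans e).symm⟩

end Groth.Agent.LD.SC
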