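import Groth.Agent.Lib.Lead.SC.LanMono
import Groth.Agent.Lib.Lead.SC.RestrictTop
import Mathlib.CategoryTheory.Sites.Pullback
import Mathlib.CategoryTheory.Preadditive.Injective.Preserves

/-! # Restriction of abelian sheaves to an open subspace has an exact left adjoint (extension by
zero); hence it preserves injective objects. -/

universe u
open CategoryTheory Limits Opposite TopologicalSpace Topology

namespace Groth.Agent.LD.SC

variable {X Y : TopCat.{u}} {j : Y ⟶ X} (hj : IsOpenEmbedding j)

lemma costructuredArrow_openMap (V : (Opens X)ᵒᵖ) :
    IsEmpty (CostructuredArrow hj.isOpenMap.functor.op V) ∨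
      ∃ t : CostructuredArrow hj.isOpenMap.functor.op V, Nonempty (IsTerminal t) := by
  by_cases h : V.unop ≤ hj.isOpenMap.functor.obj ⊤
  · right
    have hle : V.unop ≤ hj.isOpenMap.functor.obj ((Opens.map j).obj V.unop) := by
      intro x hx
      obtain ⟨y, -, rfl⟩ := h hx
      exact ⟨y, hx, rfl⟩
    let t : CostructuredArrow hj.isOpenMap.functor.op V :=
      CostructuredArrow.mk (Y := op ((Opens.map j).obj V.unop)) (homOfLE hle).op
    refine ⟨t, ⟨IsTerminal.ofUniqueHom (fun s => ?_) (fun s m => ?_)⟩⟩
    · refine CostructuredArrow.homMk (homOfLE ?_).op (Subsingleton.elim _ _)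
      intro y hy
      have h1 : j y ∈ hj.isOpenMap.functor.obj s.left.unop := (leOfHom s.hom.unop) hy
      obtain ⟨y', hy', e⟩ := h1
      rwa [← hj.injective e]
    · apply CostructuredArrow.hom_ext
      exact Subsingleton.elim _ _
  · left
    refine ⟨fun s => h ?_⟩
    exact (leOfHom s.hom.unop).trans (hj.isOpenMap.functor.map (homOfLE le_top)).le


/-- extension by zero: the left adjoint of restriction to an open subspace. -/
noncomputable def extZero : Sheaf (Opens.grothendieckTopology Y) AddCommGrpCat.{u} ⥤
    Sheaf (Opens.grothendieckTopology X) AddCommGrpCat.{u} :=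
  haveI := hj.functor_isContinuous
  Functor.sheafPullbackConstruction.sheafPullback hj.isOpenMap.functor AddCommGrpCat.{u}
    (Opens.grothendieckTopology Y) (Opens.grothendieckTopology X)

/-- the adjunction `j_! ⊣ j^*`. -/
noncomputable def extZeroAdj : extZero hj ⊣ resTop hj :=
  haveI := hj.functor_isContinuous
  Functor.sheafPullbackConstruction.sheafAdjunctionContinuous hj.isOpenMap.functor
    AddCommGrpCat.{u} (Opens.grothendieckTopology Y) (Opens.grothendieckTopology X)

instance preservesMonomorphisms_extZero : (extZero hj).PreservesMonomorphisms where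
  preserves {F G} φ hφ := by
    haveI := hj.functor_isContinuous
    change Mono ((presheafToSheaf (Opens.grothendieckTopology X) AddCommGrpCat.{u}).map
      (hj.isOpenMap.functor.op.lan.map ((sheafToPresheaf _ _).map φ)))
    haveI : Mono ((sheafToPresheaf (Opens.grothendieckTopology Y) AddCommGrpCat.{u}).map φ) :=
      inferInstance
    haveI : Mono (hj.isOpenMap.functor.op.lan.map
        ((sheafToPresheaf (Opens.grothendieckTopology Y) AddCommGrpCat.{u}).map φ)) := by
      haveI : ∀ V, Mono ((hj.isOpenMap.functor.op.lan.map
          ((sheafToPresheaf (Opens.grothendieckTopology Y) AddCommGrpCat.{u}).map φ)).app V) := by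
        intro V
        apply lan_map_app_mono _ (costructuredArrow_openMap hj)
        intro W
        infer_instance
      exact NatTrans.mono_of_mono_app _
    infer_instance

instance preservesInjectiveObjects_resTop : (resTop hj).PreservesInjectiveObjects :=
  Functor.preservesInjectiveObjects_of_adjunction_of_preservesMonomorphisms (extZeroAdj hj)


instance preservesEpimorphisms_resTop : (resTop hj).PreservesEpimorphisms where
  preserves {F G} g hg := by
    let S : ShortComplex (Sheaf (Opens.grothendieckTopology X) AddCommGrpCat.{u}) :=
      ShortComplex.mk (kernel.ι g) g (kernel.condition g)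
    have hS : S.ShortExact :=
      { exact := ShortComplex.exact_of_f_is_kernel _ (kernelIsKernel g)
        mono_f := inferInstanceAs (Mono (kernel.ι g))
        epi_g := hg }
    exact (shortExact_resTop hj hS).epi_g

/-- the restriction functor of the prelude is `resTop` of the inclusion. -/
lemma restrFunctor_eq (U : Opens X) :
    CohTop.restrFunctor U = resTop (j := TopCat.ofHom
      (⟨_, continuous_subtype_val⟩ : C(U, X))) U.isOpenEmbedding := rfl

instance (U : Opens X) : (CohTop.restrFunctor U).PreservesInjectiveObjects := by
  rw [restrFunctor_eq]; exact preservesInjectiveObjects_resTop _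

instance (U : Opens X) : (CohTop.restrFunctor U).PreservesEpimorphisms := by
  rw [restrFunctor_eq]; exact preservesEpimorphisms_resTop _

instance (U : Opens X) : PreservesFiniteLimits (CohTop.restrFunctor U) := by
  rw [restrFunctor_eq]
  haveI : PreservesLimits (resTop (j := TopCat.ofHom
      (⟨_, continuous_subtype_val⟩ : C(U, X))) U.isOpenEmbedding) :=
    (extZeroAdj _).rightAdjoint_preservesLimits
  infer_instance

end Groth.Agent.LD.SC
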