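import Groth.Agent.Lib.Lead.Cech.SitePush2
import Groth.Agent.Lib.Lead.SC.Shift
import Groth.Agent.Lib.Lead.SC.Global
import Mathlib.CategoryTheory.Sites.CoverLifting
import Mathlib.CategoryTheory.Sites.Pullback

/-! # Cohomology of the restriction along a continuous and cocontinuous functor commuting with
fibre products: `Hᵖ(U, u⁻¹F) ≃ Hᵖ(u U, F)`. -/

universe u
open CategoryTheory Limits Opposite Abelian

namespace Groth.Agent.LD.SC

variable {C D : Type u} [SmallCategory C] [SmallCategory D]
  (J : GrothendieckTopology C) (K' : GrothendieckTopology D)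
  (u : C ⥤ D) [u.IsContinuous J K'] [u.IsCocontinuous J K']

instance preservesFiniteLimits_pushS : PreservesFiniteLimits (CohSite.push K' J u) := by
  haveI : PreservesLimits (CohSite.push K' J u) :=
    (u.sheafAdjunctionContinuous AddCommGrpCat.{u} J K').rightAdjoint_preservesLimits
  infer_instance

instance preservesFiniteColimits_pushS : PreservesFiniteColimits (CohSite.push K' J u) := by
  haveI : PreservesColimits (CohSite.push K' J u) :=
    (u.sheafAdjunctionCocontinuous AddCommGrpCat.{u} J K').leftAdjoint_preservesColimits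
  infer_instance

lemma shortExact_pushS {S : ShortComplex (Sheaf K' AddCommGrpCat.{u})} (hS : S.ShortExact) :
    (S.map (CohSite.push K' J u)).ShortExact :=
  hS.map_of_exact _

variable [HasPullbacks C] [PreservesLimitsOfShape WalkingCospan u]

/-- **cohomology of the restriction**: `Hᵖ(U, u⁻¹F) ≃ Hᵖ(u U, F)`. -/
theorem ext_pushS_equiv (p : ℕ) :
    ∀ (F : Sheaf K' AddCommGrpCat.{u}) (U : C),
      Nonempty (Ext (ZU J U) ((CohSite.push K' J u).obj F) p ≃+ Ext (ZU K' (u.obj U)) F p) := by
  induction p with
  | zero =>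
    intro F U
    exact ⟨(H0Equiv U ((CohSite.push K' J u).obj F)).trans (H0Equiv (u.obj U) F).symm⟩
  | succ n ih =>
    intro F U
    let S := CH.injSeqS F
    have hS : S.ShortExact := CH.injSeqS_shortExact F
    have hS' := shortExact_pushS J K' u hS
    have hacyc : ∀ q : ℕ, Subsingleton (Ext (ZU J U) ((CohSite.push K' J u).obj S.X₂) (q + 1)) :=
      fun q => CH.subsingleton_ext_push_of_injective' u J K' S.X₂ U q
    rcases n with _ | n
    · have e1 := ext1Equiv hS (u.obj U) (CH.subsingleton_ext_injectiveS _ _ 0)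
      have e2 := ext1Equiv hS' U (hacyc 0)
      exact ⟨e2.symm.trans e1⟩
    · obtain ⟨e⟩ := ih S.X₃ U
      have e1 := extShiftEquiv hS (ZU K' (u.obj U)) (n + 1)
        (CH.subsingleton_ext_injectiveS _ _ n) (CH.subsingleton_ext_injectiveS _ _ (n + 1))
      have e2 := extShiftEquiv hS' (ZU J U) (n + 1) (hacyc n) (hacyc (n + 1))
      exact ⟨e2.symm.trans (e.trans e1)⟩

end Groth.Agent.LD.SC
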