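import Groth.Agent.Lib.Lead.SC.CohPshNat
import Groth.Agent.Lib.Lead.Colim.SheafifyPres

/-! # `Rᵖ u_*` is the sheafification of `V ↦ Hᵖ(u V, -)`, naturally; commutation with colimits. -/

universe u
open CategoryTheory Limits Opposite Abelian

namespace Groth.Agent.LD.SC

variable {C D : Type u} [SmallCategory C] [SmallCategory D] (J : GrothendieckTopology C)
  (K : GrothendieckTopology D) (u' : D ⥤ C) [u'.IsContinuous K J]

/-- restriction along `u` followed by sheafification. -/
noncomputable abbrev WA : (Cᵒᵖ ⥤ AddCommGrpCat.{u}) ⥤ Sheaf K AddCommGrpCat.{u} :=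
  (Functor.whiskeringLeft Dᵒᵖ Cᵒᵖ AddCommGrpCat.{u}).obj u'.op ⋙ presheafToSheaf K AddCommGrpCat.{u}

instance : (WA K u').Additive := by unfold WA; infer_instance

instance : PreservesFiniteLimits (WA K u') := by unfold WA; infer_instance

instance : PreservesFiniteColimits (WA K u') := by unfold WA; infer_instance

instance : (WA K u').PreservesHomology := inferInstance

/-- the direct image is the sheafification of the restricted presheaf, naturally. -/
noncomputable def pushSIso :
    pushS J K u' ≅ sheafToPresheaf J AddCommGrpCat.{u} ⋙ WA K u' :=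
  NatIso.ofComponents (fun F => (sheafifyIso K ((pushS J K u').obj F)).symm) (by
    intro F F' φ
    have h := (sheafificationAdjunction K AddCommGrpCat.{u}).counit.naturality
      ((pushS J K u').map φ)
    change (pushS J K u').map φ ≫ (sheafifyIso K ((pushS J K u').obj F')).inv =
      (sheafifyIso K ((pushS J K u').obj F)).inv ≫
        (presheafToSheaf K AddCommGrpCat.{u}).map ((pushS J K u').map φ).hom
    refine (Iso.comp_inv_eq _).2 ?_
    rw [Category.assoc]
    refine (Iso.eq_inv_comp _).2 ?_
    exact h.symm)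

/-- **`Rᵖ u_*` is the sheafification of `V ↦ Hᵖ(u V, -)`, naturally.** -/
noncomputable def rightDerivedPushIso (p : ℕ) :
    (pushS J K u').rightDerived p ≅ Sheaf.cohomologyPresheafFunctor J p ⋙ WA K u' :=
  EZ.rightDerivedIsoOfIso (pushSIso J K u') p ≪≫
    EZ.rightDerivedPostcompNatIso (sheafToPresheaf J AddCommGrpCat.{u}) (WA K u') p ≪≫
    Functor.isoWhiskerRight (rightDerivedForgetIso J p) (WA K u')

/-- **`Rᵖ u_*` commutes with a colimit as soon as `Hᵖ(u V, -)` does for `V` in a covering family
of every object.** -/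
theorem preservesColimit_rightDerived_pushS {ι : Type u} [SmallCategory ι]
    (F : ι ⥤ Sheaf J AddCommGrpCat.{u}) (p : ℕ)
    (h : ∀ V : D, ∃ (κ : Type u) (Y : κ → D) (g : ∀ k, Y k ⟶ V), Sieve.ofArrows Y g ∈ K V ∧
      ∀ k, PreservesColimit F
        ((Sheaf.cohomologyPresheafFunctor J p).flip.obj (op (u'.obj (Y k))))) :
    PreservesColimit F ((pushS J K u').rightDerived p) := by
  haveI : PreservesColimit F (Sheaf.cohomologyPresheafFunctor J p ⋙ WA K u') := by
    refine Colim.preservesColimit_comp_sheafify K F (Sheaf.cohomologyPresheafFunctor J p ⋙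
      (Functor.whiskeringLeft Dᵒᵖ Cᵒᵖ AddCommGrpCat.{u}).obj u'.op) ?_
    intro V
    obtain ⟨κ, Y, g, hcov, hp⟩ := h V
    exact ⟨κ, Y, g, hcov, fun k => hp k⟩
  exact preservesColimit_of_natIso F (rightDerivedPushIso J K u' p).symm

end Groth.Agent.LD.SC
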