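import Groth.Agent.Lib.Lead.SC.Shift
import Groth.Agent.Lib.Lead.Cech.SiteLeray
import Groth.Prelude.Def_CohCx
import Mathlib.CategoryTheory.Sites.LocallySurjective
import Mathlib.CategoryTheory.Sites.EpiMono

/-! # Presheaf Ext out of the free abelian presheaf on a sieve (SGA 4 V 4.3). -/

universe u
open CategoryTheory Limits Opposite Abelian

namespace Groth.Agent.LD.SC

variable {C : Type u} [SmallCategory C] (J : GrothendieckTopology C)

/-- the free abelian sheaf on a presheaf of sets. -/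
noncomputable abbrev ZP (P : Cᵒᵖ ⥤ Type u) : Sheaf J AddCommGrpCat.{u} :=
  (presheafToSheaf J _).obj (P ⋙ AddCommGrpCat.free)

variable {J}

/-- `Hom(ℤ[P], F) ≃ Hom(P, F)`. -/
noncomputable def homEquivP (P : Cᵒᵖ ⥤ Type u) (F : Sheaf J AddCommGrpCat.{u}) :
    (ZP J P ⟶ F) ≃ (P ⟶ F.obj ⋙ forget AddCommGrpCat.{u}) :=
  ((sheafificationAdjunction J _).homEquiv _ _).trans
    ((Adjunction.whiskerRight _ AddCommGrpCat.adj).homEquiv _ _)

lemma homEquivP_comp (P : Cᵒᵖ ⥤ Type u) {F G : Sheaf J AddCommGrpCat.{u}} (φ : ZP J P ⟶ F)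
    (ψ : F ⟶ G) :
    homEquivP P G (φ ≫ ψ) = homEquivP P F φ ≫ Functor.whiskerRight ψ.hom (forget _) := by
  simp only [homEquivP, Equiv.trans_apply, Adjunction.homEquiv_naturality_right]
  rfl

lemma homEquivP_comp_app (P : Cᵒᵖ ⥤ Type u) {F G : Sheaf J AddCommGrpCat.{u}} (φ : ZP J P ⟶ F)
    (ψ : F ⟶ G) (Y : Cᵒᵖ) (x : P.obj Y) :
    (homEquivP P G (φ ≫ ψ)).app Y x = ψ.hom.app Y ((homEquivP P F φ).app Y x) := by
  rw [homEquivP_comp]
  rfl

section ExtGen
variable {A : Type*} [Category A] [Abelian A] [HasExt.{u} A]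

/-- lifting morphisms along an epimorphism with `Ext¹`-free kernel. -/
lemma exists_lift_of_subsingleton_ext1 {S : ShortComplex A} (hS : S.ShortExact) (B : A)
    (h : Subsingleton (Ext B S.X₁ 1)) (φ : B ⟶ S.X₃) : ∃ ψ : B ⟶ S.X₂, ψ ≫ S.g = φ := by
  obtain ⟨y, hy⟩ := Ext.covariant_sequence_exact₃ B hS (Ext.mk₀ φ) rfl (Subsingleton.elim _ _)
  obtain ⟨ψ, rfl⟩ := (Ext.mk₀_bijective _ _).2 y
  refine ⟨ψ, ?_⟩
  rw [Ext.mk₀_comp_mk₀] at hy
  exact (Ext.mk₀_bijective _ _).1 hy

/-- converse. -/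
lemma subsingleton_ext1_of_lift {S : ShortComplex A} (hS : S.ShortExact) (B : A)
    (h2 : Subsingleton (Ext B S.X₂ 1)) (h : ∀ φ : B ⟶ S.X₃, ∃ ψ : B ⟶ S.X₂, ψ ≫ S.g = φ) :
    Subsingleton (Ext B S.X₁ 1) := by
  refine ⟨fun a b => ?_⟩
  suffices h0 : ∀ ξ : Ext B S.X₁ 1, ξ = 0 by rw [h0 a, h0 b]
  intro ξ
  obtain ⟨x, rfl⟩ := Ext.covariant_sequence_exact₁ B hS ξ (Subsingleton.elim _ _) rfl
  obtain ⟨φ, rfl⟩ := (Ext.mk₀_bijective _ _).2 x
  obtain ⟨ψ, rfl⟩ := h φ
  rw [← Ext.mk₀_comp_mk₀, Ext.comp_assoc_of_second_deg_zero, hS.comp_extClass, Ext.comp_zero]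

end ExtGen

end Groth.Agent.LD.SC

namespace Groth.Agent.LD.SC

variable {C : Type u} [SmallCategory C] (J : GrothendieckTopology C)

/-- the category of abelian presheaves, as sheaves for the trivial topology. -/
abbrev PA (C : Type u) [SmallCategory C] := Sheaf (⊥ : GrothendieckTopology C) AddCommGrpCat.{u}

/-- the underlying presheaf of a sheaf, as a sheaf for the trivial topology. -/
noncomputable def iotaB : Sheaf J AddCommGrpCat.{u} ⥤ PA C :=
  sheafToPresheaf J _ ⋙ (sheafBotEquivalence _).inverse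

lemma iotaB_obj (F : Sheaf J AddCommGrpCat.{u}) :
    (iotaB J).obj F = ⟨F.obj, Presheaf.isSheaf_bot _⟩ := rfl

/-- sheafification is left adjoint to `iotaB`. -/
noncomputable def iotaBAdj :
    (sheafBotEquivalence AddCommGrpCat.{u}).functor ⋙ presheafToSheaf J AddCommGrpCat.{u} ⊣
      iotaB J :=
  (sheafBotEquivalence _).toAdjunction.comp (sheafificationAdjunction J _)

instance : (iotaB J).PreservesZeroMorphisms := ⟨fun _ _ => rfl⟩

instance : (iotaB J).Additive := ⟨fun {_ _ _ _} => rfl⟩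

lemma injective_iotaB (I : Sheaf J AddCommGrpCat.{u}) [Injective I] :
    Injective ((iotaB J).obj I) := by
  haveI : PreservesFiniteLimits ((sheafBotEquivalence AddCommGrpCat.{u}).functor ⋙
      presheafToSheaf J AddCommGrpCat.{u}) := comp_preservesFiniteLimits _ _
  haveI : ((sheafBotEquivalence AddCommGrpCat.{u}).functor ⋙
      presheafToSheaf J AddCommGrpCat.{u}).PreservesMonomorphisms :=
    preservesMonomorphisms_of_preservesLimitsOfShape _
  exact Injective.injective_of_adjoint (iotaBAdj J) I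

/-- a short exact sequence of sheaves which is surjective on sections is short exact as a sequence
of presheaves. -/
lemma shortExact_map_iotaB {S : ShortComplex (Sheaf J AddCommGrpCat.{u})} (hS : S.ShortExact)
    (hsurj : ∀ X : C, Function.Surjective (S.g.hom.app (op X))) :
    (S.map (iotaB J)).ShortExact := by
  haveI := hS.mono_f
  haveI : PreservesLimitsOfSize.{0, 0} (iotaB J) := (iotaBAdj J).rightAdjoint_preservesLimits
  have hex : (S.map (iotaB J)).Exact :=
    hS.exact.map_of_mono_of_preservesKernel (iotaB J) hS.mono_f inferInstance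
  haveI : Mono (S.map (iotaB J)).f := by
    haveI : Mono (S.map (iotaB J)).f.hom := inferInstanceAs (Mono S.f.hom)
    exact Sheaf.Hom.mono_of_presheaf_mono _ _ _
  haveI : Epi (S.map (iotaB J)).g := by
    haveI : Presheaf.IsLocallySurjective (⊥ : GrothendieckTopology C) S.g.hom :=
      Presheaf.isLocallySurjective_of_surjective _ _ (fun X => hsurj X.unop)
    haveI : Sheaf.IsLocallySurjective ((iotaB J).map S.g) :=
      inferInstanceAs (Presheaf.IsLocallySurjective (⊥ : GrothendieckTopology C) S.g.hom)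
    exact inferInstanceAs (Epi ((iotaB J).map S.g))
  exact { exact := hex }

/-- monomorphisms of presheaves are injective on sections. -/
lemma injective_app_of_mono {J : GrothendieckTopology C} {F G : Sheaf J AddCommGrpCat.{u}}
    (m : F ⟶ G) [Mono m] (Y : Cᵒᵖ) : Function.Injective (m.hom.app Y) := by
  haveI : Mono m.hom := inferInstance
  haveI : Mono (m.hom.app Y) := inferInstance
  exact (AddCommGrpCat.mono_iff_injective _).mp inferInstance

end Groth.Agent.LD.SC

namespace Groth.Agent.LD.SC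

variable {C : Type u} [SmallCategory C] {J : GrothendieckTopology C}

/-- gluing a compatible family of sections over a covering sieve, given as a natural
transformation out of the sieve. -/
lemma exists_amalgamation (F : Sheaf J AddCommGrpCat.{u}) {X : C} (R : Sieve X) (hR : R ∈ J X)
    (τ : R.functor ⟶ F.obj ⋙ forget AddCommGrpCat.{u}) :
    ∃ t : F.obj.obj (op X), ∀ (Y : C) (f : Y ⟶ X) (hf : R f),
      F.obj.map f.op t = τ.app (op Y) ⟨f, hf⟩ := by
  have hsh : Presieve.IsSheaf J (F.obj ⋙ forget AddCommGrpCat.{u}) :=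
    (isSheaf_iff_isSheaf_of_type J _).mp
      ((Presheaf.isSheaf_iff_isSheaf_forget J F.obj (forget AddCommGrpCat.{u})).mp F.property)
  have h := hsh R hR
  let x : Presieve.FamilyOfElements (F.obj ⋙ forget AddCommGrpCat.{u}) R.arrows :=
    fun Y f hf => τ.app (op Y) ⟨f, hf⟩
  have hx : x.Compatible := by
    rw [Presieve.compatible_iff_sieveCompatible]
    intro Y Z f g hf
    exact NatTrans.naturality_apply τ g.op ⟨f, hf⟩
  exact ⟨h.amalgamate x hx, fun Y f hf => h.valid_glue hx f hf⟩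

lemma ext_of_sieve (F : Sheaf J AddCommGrpCat.{u}) {X : C} (R : Sieve X) (hR : R ∈ J X)
    (t₁ t₂ : F.obj.obj (op X))
    (h : ∀ (Y : C) (f : Y ⟶ X), R f → F.obj.map f.op t₁ = F.obj.map f.op t₂) : t₁ = t₂ := by
  have hsh : Presieve.IsSheaf J (F.obj ⋙ forget AddCommGrpCat.{u}) :=
    (isSheaf_iff_isSheaf_of_type J _).mp
      ((Presheaf.isSheaf_iff_isSheaf_forget J F.obj (forget AddCommGrpCat.{u})).mp F.property)
  exact (hsh R hR).isSeparatedFor.ext (fun Y f hf => h Y f hf)

end Groth.Agent.LD.SC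

namespace Groth.Agent.LD.SC

variable {C : Type u} [SmallCategory C] {J : GrothendieckTopology C}

/-- the natural transformation out of a sieve given by restricting a section. -/
noncomputable def sieveRes (P : Cᵒᵖ ⥤ AddCommGrpCat.{u}) {X : C} (R : Sieve X)
    (t : P.obj (op X)) : R.functor ⟶ P ⋙ forget AddCommGrpCat.{u} where
  app Y := ↾(fun f => P.map f.1.op t)
  naturality Y Y' h := by
    ext f
    change P.map (h.unop ≫ f.1).op t = P.map h (P.map f.1.op t)
    rw [op_comp, P.map_comp]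
    rfl

lemma sieveRes_app (P : Cᵒᵖ ⥤ AddCommGrpCat.{u}) {X : C} (R : Sieve X) (t : P.obj (op X))
    (Y : Cᵒᵖ) (f : R.functor.obj Y) : (sieveRes P R t).app Y f = P.map f.1.op t := rfl

/-- morphisms out of `ℤ[R]`, `R` a covering sieve, lift along sectionwise surjections of
sheaves. -/
lemma exists_lift_sieve {S : ShortComplex (Sheaf J AddCommGrpCat.{u})}
    (hsurj : ∀ X : C, Function.Surjective (S.g.hom.app (op X))) {X : C} (R : Sieve X)
    (hR : R ∈ J X) (φ : ZP (⊥ : GrothendieckTopology C) R.functor ⟶ (iotaB J).obj S.X₃) :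
    ∃ ψ : ZP (⊥ : GrothendieckTopology C) R.functor ⟶ (iotaB J).obj S.X₂,
      ψ ≫ (iotaB J).map S.g = φ := by
  let φ' : R.functor ⟶ S.X₃.obj ⋙ forget AddCommGrpCat.{u} :=
    homEquivP R.functor ((iotaB J).obj S.X₃) φ
  obtain ⟨s, hs⟩ := exists_amalgamation S.X₃ R hR φ'
  obtain ⟨t, ht⟩ := hsurj X s
  refine ⟨(homEquivP R.functor ((iotaB J).obj S.X₂)).symm (sieveRes S.X₂.obj R t), ?_⟩
  apply (homEquivP R.functor ((iotaB J).obj S.X₃)).injective
  rw [homEquivP_comp, Equiv.apply_symm_apply]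
  ext Y f
  change S.g.hom.app Y (S.X₂.obj.map f.1.op t) = φ'.app Y f
  have h1 := NatTrans.naturality_apply S.g.hom f.1.op t
  rw [h1, ht, hs Y.unop f.1 f.2]
  rfl

/-- **SGA 4 V 4.3, key step**: if `Ext¹` out of `ℤ[R]` into the underlying presheaf of `S.X₁`
vanishes for all covering sieves, then `S.g` is surjective on sections. -/
theorem surjective_app_of_sieveExt {S : ShortComplex (Sheaf J AddCommGrpCat.{u})}
    (hS : S.ShortExact)
    (h : ∀ (X : C) (R : Sieve X), R ∈ J X →
      Subsingleton (Ext (ZP (⊥ : GrothendieckTopology C) R.functor) ((iotaB J).obj S.X₁) 1))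
    (X : C) : Function.Surjective (S.g.hom.app (op X)) := by
  intro s
  haveI := hS.mono_f
  haveI := hS.epi_g
  -- local surjectivity
  haveI hls : Sheaf.IsLocallySurjective S.g := (Sheaf.isLocallySurjective_iff_epi' (φ := S.g)).mpr hS.epi_g
  let R : Sieve X := Presheaf.imageSieve S.g.hom s
  have hR : R ∈ J X := Presheaf.imageSieve_mem J S.g.hom s
  -- the presheaf cokernel
  let f' := (iotaB J).map S.f
  let g' := (iotaB J).map S.g
  haveI : PreservesLimitsOfSize.{0, 0} (iotaB J) := (iotaBAdj J).rightAdjoint_preservesLimits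
  have hex : (S.map (iotaB J)).Exact :=
    hS.exact.map_of_mono_of_preservesKernel (iotaB J) hS.mono_f inferInstance
  haveI : Mono f' := by
    haveI : Mono f'.hom := inferInstanceAs (Mono S.f.hom)
    exact Sheaf.Hom.mono_of_presheaf_mono _ _ _
  have hzero : f' ≫ g' = 0 := (S.map (iotaB J)).zero
  let π := cokernel.π f'
  let m : cokernel f' ⟶ (iotaB J).obj S.X₃ := cokernel.desc f' g' hzero
  have hπm : π ≫ m = g' := cokernel.π_desc _ _ _
  haveI : Mono m := (S.map (iotaB J)).exact_iff_mono_cokernel_desc.mp hex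
  let S₁ : ShortComplex (PA C) := ShortComplex.mk f' π (cokernel.condition f')
  have hS₁ : S₁.ShortExact :=
    { exact := ShortComplex.exact_of_g_is_cokernel _ (cokernelIsCokernel f') }
  have hminj : ∀ Y : Cᵒᵖ, Function.Injective (m.hom.app Y) := injective_app_of_mono m
  -- the family of local lifts
  have hloc : ∀ (Y : Cᵒᵖ) (f : R.functor.obj Y), ∃ t : S.X₂.obj.obj Y,
      S.g.hom.app Y t = S.X₃.obj.map f.1.op s := fun Y f => f.2
  choose tl htl using hloc
  let σ' : R.functor ⟶ (cokernel f').obj ⋙ forget AddCommGrpCat.{u} :=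
    { app := fun Y => ↾(fun f => π.hom.app Y (tl Y f))
      naturality := fun Y Y' k => by
        ext f
        apply hminj Y'
        change m.hom.app Y' (π.hom.app Y' (tl Y' (R.functor.map k f))) =
          m.hom.app Y' ((cokernel f').obj.map k (π.hom.app Y (tl Y f)))
        have e1 : ∀ (Z : Cᵒᵖ) (z : S.X₂.obj.obj Z), m.hom.app Z (π.hom.app Z z) =
            S.g.hom.app Z z := fun Z z => by
          have := congrArg (fun (a : (iotaB J).obj S.X₂ ⟶ (iotaB J).obj S.X₃) => a.hom.app Z z) hπm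
          exact this
        have e2 := NatTrans.naturality_apply m.hom k (π.hom.app Y (tl Y f))
        rw [e1, e2, e1, htl, htl]
        have e3 := NatTrans.naturality_apply S.g.hom k (tl Y f)
        change S.X₃.obj.map (k.unop ≫ f.1).op s = S.X₃.obj.map k (S.X₃.obj.map f.1.op s)
        rw [op_comp, S.X₃.obj.map_comp]
        rfl }
  have e1 : ∀ (Z : Cᵒᵖ) (z : S.X₂.obj.obj Z), m.hom.app Z (π.hom.app Z z) =
      S.g.hom.app Z z := fun Z z => by
    have := congrArg (fun (a : (iotaB J).obj S.X₂ ⟶ (iotaB J).obj S.X₃) => a.hom.app Z z) hπm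
    exact this
  let φ : ZP (⊥ : GrothendieckTopology C) R.functor ⟶ cokernel f' :=
    (homEquivP R.functor (cokernel f')).symm σ'
  obtain ⟨ψ, hψ⟩ := exists_lift_of_subsingleton_ext1 hS₁
    (ZP (⊥ : GrothendieckTopology C) R.functor) (h X R hR) φ
  let τ' : R.functor ⟶ S.X₂.obj ⋙ forget AddCommGrpCat.{u} :=
    homEquivP R.functor ((iotaB J).obj S.X₂) ψ
  have hτ : ∀ (Y : Cᵒᵖ) (f : R.functor.obj Y), π.hom.app Y (τ'.app Y f) = σ'.app Y f := by
    intro Y f
    have h1 := homEquivP_comp_app R.functor ψ π Y f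
    have h2 : ψ ≫ π = φ := hψ
    rw [h2] at h1
    have h3 : homEquivP R.functor (cokernel f') φ = σ' := Equiv.apply_symm_apply _ _
    rw [h3] at h1
    exact h1.symm
  obtain ⟨t, ht⟩ := exists_amalgamation S.X₂ R hR τ'
  refine ⟨t, ?_⟩
  apply ext_of_sieve S.X₃ R hR
  intro Y f hf
  have n1 := NatTrans.naturality_apply S.g.hom f.op t
  rw [← n1, ht Y f hf, ← e1, hτ]
  change m.hom.app (op Y) (π.hom.app (op Y) (tl (op Y) ⟨f, hf⟩)) = _
  rw [e1, htl]

end Groth.Agent.LD.SC

namespace Groth.Agent.LD.SC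

variable {C : Type u} [SmallCategory C] {J : GrothendieckTopology C}

/-- **SGA 4 V 4.3 (⇒)**: a sheaf acyclic on all objects has vanishing presheaf `Ext` out of all
covering sieves. -/
theorem sieveAcyc_of_acycObj (q : ℕ) : ∀ (F : Sheaf J AddCommGrpCat.{u}),
    (∀ (X : C) (q : ℕ), Subsingleton (Ext (ZU J X) F (q + 1))) →
    ∀ (X : C) (R : Sieve X), R ∈ J X →
      Subsingleton (Ext (ZP (⊥ : GrothendieckTopology C) R.functor) ((iotaB J).obj F) (q + 1)) := by
  induction q with
  | zero =>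
    intro F hF X R hR
    have hS := CH.injSeqS_shortExact F
    have hsurj : ∀ X : C, Function.Surjective ((CH.injSeqS F).g.hom.app (op X)) :=
      fun X => surjective_app_of_subsingleton_ext1 hS X (hF X 0)
    have hS' := shortExact_map_iotaB J hS hsurj
    haveI : Injective ((CH.injSeqS F).map (iotaB J)).X₂ := injective_iotaB J _
    exact subsingleton_ext1_of_lift hS' _
      (CH.subsingleton_ext_injectiveS (J := (⊥ : GrothendieckTopology C)) _ _ 0)
      (fun φ => exists_lift_sieve hsurj R hR φ)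
  | succ q ih =>
    intro F hF X R hR
    have hS := CH.injSeqS_shortExact F
    have hsurj : ∀ X : C, Function.Surjective ((CH.injSeqS F).g.hom.app (op X)) :=
      fun X => surjective_app_of_subsingleton_ext1 hS X (hF X 0)
    have hS' := shortExact_map_iotaB J hS hsurj
    haveI : Injective ((CH.injSeqS F).map (iotaB J)).X₂ := injective_iotaB J _
    have hQ : ∀ (X : C) (q : ℕ), Subsingleton (Ext (ZU J X) (CH.injSeqS F).X₃ (q + 1)) :=
      fun X q => subsingleton_ext_of_shortExact₃ hS (ZU J X) (q + 1)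
        (CH.subsingleton_ext_injectiveS _ _ q) (hF X (q + 1))
    exact subsingleton_ext_succ_of_shortExact hS' _ (q + 1)
      (CH.subsingleton_ext_injectiveS (J := (⊥ : GrothendieckTopology C)) _ _ (q + 1))
      (ih _ hQ X R hR)

/-- **SGA 4 V 4.3 (⇐)**. -/
theorem acycObj_of_sieveAcyc (q : ℕ) : ∀ (F : Sheaf J AddCommGrpCat.{u}),
    (∀ (X : C) (R : Sieve X), R ∈ J X → ∀ q : ℕ,
      Subsingleton (Ext (ZP (⊥ : GrothendieckTopology C) R.functor) ((iotaB J).obj F) (q + 1))) →
    ∀ X : C, Subsingleton (Ext (ZU J X) F (q + 1)) := by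
  induction q with
  | zero =>
    intro F hF X
    have hS := CH.injSeqS_shortExact F
    have hsurj := surjective_app_of_sieveExt hS (fun X R hR => hF X R hR 0)
    refine subsingleton_ext1_of_lift hS (ZU J X) (CH.subsingleton_ext_injectiveS _ _ 0)
      (fun φ => ?_)
    obtain ⟨t, ht⟩ := hsurj X (homEquiv X _ φ)
    refine ⟨(homEquiv X _).symm t, ?_⟩
    apply (homEquiv X _).injective
    rw [homEquiv_comp, Equiv.apply_symm_apply]
    exact ht
  | succ q ih =>
    intro F hF X
    have hS := CH.injSeqS_shortExact F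
    have hsurj := surjective_app_of_sieveExt hS (fun X R hR => hF X R hR 0)
    have hS' := shortExact_map_iotaB J hS hsurj
    haveI : Injective ((CH.injSeqS F).map (iotaB J)).X₂ := injective_iotaB J _
    have hQ : ∀ (X : C) (R : Sieve X), R ∈ J X → ∀ q : ℕ,
        Subsingleton (Ext (ZP (⊥ : GrothendieckTopology C) R.functor)
          ((iotaB J).obj (CH.injSeqS F).X₃) (q + 1)) :=
      fun X R hR q => subsingleton_ext_of_shortExact₃ hS' _ (q + 1)
        (CH.subsingleton_ext_injectiveS (J := (⊥ : GrothendieckTopology C)) _ _ q)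
        (hF X R hR (q + 1))
    exact subsingleton_ext_succ_of_shortExact hS (ZU J X) (q + 1)
      (CH.subsingleton_ext_injectiveS _ _ (q + 1)) (ih _ hQ X)

end Groth.Agent.LD.SC
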