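import Mathlib
import Groth.Agent.Lib.Lead.SC.FunSES

/-! # The long exact sequence of right derived functors attached to a sequence of functors
which is short exact on injective objects. -/

universe v v' u u'
open CategoryTheory Limits

namespace Groth.Agent.LD.SC.FunSES

variable {C : Type u} [Category.{v} C] [Abelian C]
  {D : Type u'} [Category.{v'} D] [Abelian D]
  {G₁ G₂ G₃ : C ⥤ D} [G₁.Additive] [G₂.Additive] [G₃.Additive]
  (α : G₁ ⟶ G₂) (β : G₂ ⟶ G₃) (w : α ≫ β = 0)
  (hαβ : ∀ (I : C), Injective I →
    (ShortComplex.mk (α.app I) (β.app I) (app_comp_app α β w I)).ShortExact)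
  [HasInjectiveResolutions C]

noncomputable def i₁ (X : C) (n : ℕ) : (G₁.rightDerived n).obj X ≅
    (sc α β w (injectiveResolution X).cocomplex).X₁.homology n :=
  (injectiveResolution X).isoRightDerivedObj G₁ n

noncomputable def i₂ (X : C) (n : ℕ) : (G₂.rightDerived n).obj X ≅
    (sc α β w (injectiveResolution X).cocomplex).X₂.homology n :=
  (injectiveResolution X).isoRightDerivedObj G₂ n

noncomputable def i₃ (X : C) (n : ℕ) : (G₃.rightDerived n).obj X ≅
    (sc α β w (injectiveResolution X).cocomplex).X₃.homology n :=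
  (injectiveResolution X).isoRightDerivedObj G₃ n

lemma rα_eq (X : C) (n : ℕ) : (NatTrans.rightDerived α n).app X =
    (i₁ α β w X n).hom ≫
      HomologicalComplex.homologyMap (sc α β w (injectiveResolution X).cocomplex).f n ≫
      (i₂ α β w X n).inv :=
  InjectiveResolution.rightDerived_app_eq α (injectiveResolution X) n

lemma rβ_eq (X : C) (n : ℕ) : (NatTrans.rightDerived β n).app X =
    (i₂ α β w X n).hom ≫
      HomologicalComplex.homologyMap (sc α β w (injectiveResolution X).cocomplex).g n ≫
      (i₃ α β w X n).inv :=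
  InjectiveResolution.rightDerived_app_eq β (injectiveResolution X) n

lemma δnat_app_eq (X : C) (n : ℕ) : (δnat α β w hαβ n).app X =
    (i₃ α β w X n).hom ≫
      (shortExact_res α β w hαβ (injectiveResolution X)).δ n (n + 1) rfl ≫
      (i₁ α β w X (n + 1)).inv := rfl

include hαβ in
theorem mono_rα_zero (X : C) : Mono ((NatTrans.rightDerived α 0).app X) := by
  have hS := shortExact_res α β w hαβ (injectiveResolution X)
  haveI : Mono (sc α β w (injectiveResolution X).cocomplex).f := hS.mono_f
  have : Mono (HomologicalComplex.homologyMap (sc α β w (injectiveResolution X).cocomplex).f 0) :=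
    HomologicalComplex.mono_homologyMap_of_mono_of_not_rel _ 0 (by simp)
  rw [rα_eq α β w X 0]
  exact mono_comp' inferInstance (mono_comp' this inferInstance)

include w in
lemma rα_rβ (X : C) (n : ℕ) :
    (NatTrans.rightDerived α n).app X ≫ (NatTrans.rightDerived β n).app X = 0 := by
  rw [rα_eq α β w X n, rβ_eq α β w X n]
  simp only [Category.assoc, Iso.inv_hom_id_assoc]
  rw [← HomologicalComplex.homologyMap_comp_assoc, (sc α β w (injectiveResolution X).cocomplex).zero,
    HomologicalComplex.homologyMap_zero, zero_comp, comp_zero]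

include hαβ in
theorem exact₂ (X : C) (n : ℕ) :
    (ShortComplex.mk _ _ (rα_rβ α β w X n)).Exact := by
  have hS := shortExact_res α β w hαβ (injectiveResolution X)
  refine (ShortComplex.exact_iff_of_iso ?_).2 (hS.homology_exact₂ n)
  refine ShortComplex.isoMk (i₁ α β w X n) (i₂ α β w X n) (i₃ α β w X n) ?_ ?_
  · dsimp only
    rw [rα_eq α β w X n, Category.assoc, Category.assoc, Iso.inv_hom_id, Category.comp_id]
  · dsimp only
    rw [rβ_eq α β w X n, Category.assoc, Category.assoc, Iso.inv_hom_id, Category.comp_id]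

lemma rβ_δ (X : C) (n : ℕ) :
    (NatTrans.rightDerived β n).app X ≫ (δnat α β w hαβ n).app X = 0 := by
  have hS := shortExact_res α β w hαβ (injectiveResolution X)
  rw [rβ_eq α β w X n, δnat_app_eq]
  have h := hS.comp_δ n (n + 1) rfl
  simp only [Category.assoc, Iso.inv_hom_id_assoc]
  rw [reassoc_of% h, zero_comp, comp_zero]

theorem exact₃ (X : C) (n : ℕ) :
    (ShortComplex.mk _ _ (rβ_δ α β w hαβ X n)).Exact := by
  have hS := shortExact_res α β w hαβ (injectiveResolution X)
  refine (ShortComplex.exact_iff_of_iso ?_).2 (hS.homology_exact₃ n (n + 1) rfl)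
  refine ShortComplex.isoMk (i₂ α β w X n) (i₃ α β w X n) (i₁ α β w X (n + 1)) ?_ ?_
  · dsimp only
    rw [rβ_eq α β w X n, Category.assoc, Category.assoc, Iso.inv_hom_id, Category.comp_id]
  · dsimp only
    rw [δnat_app_eq, Category.assoc, Category.assoc, Iso.inv_hom_id, Category.comp_id]

lemma δ_rα (X : C) (n : ℕ) :
    (δnat α β w hαβ n).app X ≫ (NatTrans.rightDerived α (n + 1)).app X = 0 := by
  have hS := shortExact_res α β w hαβ (injectiveResolution X)
  rw [rα_eq α β w X (n + 1), δnat_app_eq]
  have h := hS.δ_comp n (n + 1) rfl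
  simp only [Category.assoc, Iso.inv_hom_id_assoc]
  rw [reassoc_of% h, zero_comp, comp_zero]

theorem exact₁ (X : C) (n : ℕ) :
    (ShortComplex.mk _ _ (δ_rα α β w hαβ X n)).Exact := by
  have hS := shortExact_res α β w hαβ (injectiveResolution X)
  refine (ShortComplex.exact_iff_of_iso ?_).2 (hS.homology_exact₁ n (n + 1) rfl)
  refine ShortComplex.isoMk (i₃ α β w X n) (i₁ α β w X (n + 1)) (i₂ α β w X (n + 1)) ?_ ?_
  · dsimp only
    rw [δnat_app_eq, Category.assoc, Category.assoc, Iso.inv_hom_id, Category.comp_id]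
  · dsimp only
    rw [rα_eq α β w X (n + 1), Category.assoc, Category.assoc, Iso.inv_hom_id, Category.comp_id]

end Groth.Agent.LD.SC.FunSES
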