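import Groth.Agent.Lib.Lead.SC.MapRes
import Groth.Agent.Lib.Lead.SC.RPush
import Mathlib.CategoryTheory.Sites.Pullback
import Mathlib.Algebra.Category.Grp.FilteredColimits

/-! # `Rᵖ g_* (f_* F) ≅ Rᵖ (g f)_* F` when the higher direct images of `F` under `f` vanish. -/

universe u
open CategoryTheory Limits Opposite Abelian TopologicalSpace

namespace Groth.Agent.LD.SC

variable {X Y Z : TopCat.{u}} (f : X ⟶ Y) (g : Y ⟶ Z)

instance : PreservesFiniteLimits (TopCat.Sheaf.pullback AddCommGrpCat.{u} f) := by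
  unfold TopCat.Sheaf.pullback
  exact Functor.SmallCategories.instPreservesFiniteLimitsSheafSheafPullbackOfRepresentablyFlat
    (Opens.map f) AddCommGrpCat.{u} _ _

/-- pushforward of abelian sheaves preserves injectives. -/
lemma injective_pushAb (I : Sheaf (Opens.grothendieckTopology X) AddCommGrpCat.{u})
    (hI : Injective I) : Injective ((pushAb f).obj I) := by
  haveI : (TopCat.Sheaf.pullback AddCommGrpCat.{u} f).PreservesMonomorphisms :=
    preservesMonomorphisms_of_preservesLimitsOfShape _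
  exact Adjunction.map_injective (TopCat.Sheaf.pullbackPushforwardAdjunction AddCommGrpCat.{u} f) I
    hI

noncomputable def pushAbComp : pushAb f ⋙ pushAb g ≅ pushAb (f ≫ g) := Iso.refl _

variable [HasExt.{u} (Sheaf (Opens.grothendieckTopology X) AddCommGrpCat.{u})]
  [EnoughInjectives (Sheaf (Opens.grothendieckTopology X) AddCommGrpCat.{u})]
  [EnoughInjectives (Sheaf (Opens.grothendieckTopology Y) AddCommGrpCat.{u})]

/-- if `H^{i+1}(f⁻¹V, F) = 0` for `V` in a basis of `Y`, then `Rᵖ g_* (f_* F) ≅ Rᵖ (g f)_* F`. -/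
theorem nonempty_rightDerived_comp_iso
    {F : Sheaf (Opens.grothendieckTopology X) AddCommGrpCat.{u}}
    (𝔅 : Set (Opens Y)) (h𝔅 : Opens.IsBasis 𝔅)
    (h : ∀ V ∈ 𝔅, ∀ i : ℕ, Subsingleton
      (Ext (ZU (Opens.grothendieckTopology X) ((Opens.map f).obj V)) F (i + 1)))
    (p : ℕ) :
    Nonempty (((pushAb g).rightDerived p).obj ((pushAb f).obj F) ≅
      ((pushAb (f ≫ g)).rightDerived p).obj F) := by
  let I := InjectiveResolution.of F
  exact ⟨rightDerivedCompIso I (pushAb f) (fun n => injective_pushAb f _ (I.injective n))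
    (fun n => exactAt_push_of_ext_vanish f I 𝔅 h𝔅 0 (fun V hV i _ => h V hV i) n (Nat.zero_le _))
    (pushAb g) (pushAb (f ≫ g)) (pushAbComp f g) p⟩

end Groth.Agent.LD.SC
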