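import Mathlib
import Groth.Agent.Lib.Lead.SC.FunSES

/-! # Naturality of `F ⟶ R⁰F` in the functor `F`. -/

universe v v' u u'
open CategoryTheory Limits

namespace Groth.Agent.LD.SC.FunSES

variable {C : Type u} [Category.{v} C] [Abelian C] [HasInjectiveResolutions C]
  {D : Type u'} [Category.{v'} D] [Abelian D]

lemma toRightDerivedZero_naturality' {G G' : C ⥤ D} [G.Additive] [G'.Additive] (γ : G ⟶ G')
    (X : C) :
    γ.app X ≫ G'.toRightDerivedZero.app X =
      G.toRightDerivedZero.app X ≫ (NatTrans.rightDerived γ 0).app X := by
  rw [toRightDerivedZero_app_eq G' (injectiveResolution X),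
    toRightDerivedZero_app_eq G (injectiveResolution X),
    InjectiveResolution.rightDerived_app_eq γ (injectiveResolution X) 0,
    ← Category.assoc, t0_naturality γ (injectiveResolution X)]
  simp only [Category.assoc]
  congr 1
  exact (Iso.inv_hom_id_assoc ((injectiveResolution X).isoRightDerivedObj G 0) _).symm

end Groth.Agent.LD.SC.FunSES
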