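import Groth.Agent.Lib.Lead.SC.CohDim

/-! # Uniform cohomological dimension for localisations `S ∩ X_h`. -/

universe u
open CategoryTheory Limits Opposite Abelian TopologicalSpace AlgebraicGeometry

namespace Groth.Agent.LD.SC

variable {X : Scheme.{u}}

lemma isAffineOpen_inf_basicOpen {O B : X.Opens} (hB : IsAffineOpen B) (hBO : B ≤ O)
    (h : Γ(X, O)) : IsAffineOpen (B ⊓ X.basicOpen h) := by
  rw [← Scheme.basicOpen_res X h (homOfLE hBO).op]
  exact hB.basicOpen _

/-- **uniform finite cohomological dimension**: for a finite family of affine opens with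
quasi-compact pairwise intersections, the cohomology of quasi-coherent modules over
`(⋃ s) ∩ X_h` vanishes in large degrees, uniformly in `h`. -/
theorem exists_cohDim_uniform (O : X.Opens) (s : Finset X.Opens) (hs : ∀ U ∈ s, IsAffineOpen U)
    (hsO : ∀ U ∈ s, U ≤ O)
    (hc : ∀ U ∈ s, ∀ U' ∈ s, IsCompact ((U ⊓ U' : X.Opens) : Set X)) :
    ∃ d : ℕ, ∀ (h : Γ(X, O)) (M : X.Modules), M.IsQuasicoherent → ∀ p : ℕ, d ≤ p →
      Subsingleton (Ext (ZU (JX X) (s.sup id ⊓ X.basicOpen h)) (Coh.toAb M) (p + 1)) := by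
  classical
  induction s using Finset.induction_on with
  | empty =>
    refine ⟨0, fun h M _ p _ => ?_⟩
    rw [Finset.sup_empty, bot_inf_eq]
    exact subsingleton_of_forall_eq 0 fun ξ => ext_bot_eq_zero ξ
  | insert U s' hU ih =>
    obtain ⟨d₁, hd₁⟩ := ih (fun W hW => hs W (Finset.mem_insert_of_mem hW))
      (fun W hW => hsO W (Finset.mem_insert_of_mem hW))
      (fun W hW W' hW' => hc W (Finset.mem_insert_of_mem hW) W' (Finset.mem_insert_of_mem hW'))
    have hUaff : IsAffineOpen U := hs U (Finset.mem_insert_self _ _)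
    have hUO : U ≤ O := hsO U (Finset.mem_insert_self _ _)
    -- `U ⊓ ⋃ s'` is compact
    have hcomp : IsCompact ((U ⊓ s'.sup id : X.Opens) : Set X) := by
      rw [Finset.sup_inf_distrib_left]
      rw [Opens.coe_finset_sup, Finset.sup_set_eq_biUnion]
      apply Finset.isCompact_biUnion
      intro W hW
      exact hc U (Finset.mem_insert_self _ _) W (Finset.mem_insert_of_mem hW)
    obtain ⟨t, ht, htsup⟩ := exists_finset_basicOpen_sup_eq hUaff
      (inf_le_left : U ⊓ s'.sup id ≤ U) hcomp
    refine ⟨max d₁ t.card + 1, fun h M hM p hp => ?_⟩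
    haveI := hM
    obtain ⟨n, rfl⟩ : ∃ n, p = n + 1 := ⟨p - 1, by omega⟩
    have e1 : (insert U s').sup id ⊓ X.basicOpen h =
        (s'.sup id ⊓ X.basicOpen h) ⊔ (U ⊓ X.basicOpen h) := by
      rw [Finset.sup_insert, inf_sup_right, sup_comm]
      rfl
    rw [e1]
    apply subsingleton_ext_sup
    · exact hd₁ h M hM (n + 1) (by omega)
    · exact subsingleton_ext_of_isAffineOpen M (n + 1) _ (isAffineOpen_inf_basicOpen hUaff hUO h)
    · have e2 : (s'.sup id ⊓ X.basicOpen h) ⊓ (U ⊓ X.basicOpen h) =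
          (t.image (· ⊓ X.basicOpen h)).sup id := by
        rw [Finset.sup_image]
        change _ = t.sup (fun W => id W ⊓ X.basicOpen h)
        rw [← Finset.sup_inf_distrib_right, htsup]
        rw [← inf_inf_distrib_right, inf_comm (s'.sup id) U]
      rw [e2]
      apply subsingleton_ext_finset_sup M
        (fun W => ∃ f : Γ(X, U), W = X.basicOpen f ⊓ X.basicOpen h) ?_ ?_ t.card _
        Finset.card_image_le ?_ n (by omega)
      · rintro W ⟨f, rfl⟩
        exact isAffineOpen_inf_basicOpen (hUaff.basicOpen f)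
          ((X.basicOpen_le f).trans hUO) h
      · rintro W W' ⟨f, rfl⟩ ⟨f', rfl⟩
        refine ⟨f * f', ?_⟩
        rw [X.basicOpen_mul f f']
        exact (inf_inf_distrib_right _ _ _).symm
      · intro W hW
        obtain ⟨W', hW', rfl⟩ := Finset.mem_image.mp hW
        obtain ⟨f, rfl⟩ := ht W' hW'
        exact ⟨f, rfl⟩

end Groth.Agent.LD.SC
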