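import Groth.Agent.Lib.Lead.SC.Basic
import Groth.Agent.Lib.Lead.SC.ExtRes
import Groth.Prelude.Def_CohSite
import Mathlib.CategoryTheory.Sites.Abelian
import Mathlib.Algebra.Homology.ShortComplex.Ab

/-! # The cohomology presheaf `U ↦ Hⁿ(U, F)` is the `n`-th homology presheaf of an injective
resolution of `F`. -/

universe u
open CategoryTheory Limits Opposite Abelian

namespace Groth.Agent.LD.SC

variable {C : Type u} [SmallCategory C] {J : GrothendieckTopology C}
  {F : Sheaf J AddCommGrpCat.{u}} (R : InjectiveResolution F)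

/-- the complex of presheaves underlying an injective resolution. -/
noncomputable abbrev pshCx : CochainComplex (Cᵒᵖ ⥤ AddCommGrpCat.{u}) ℕ :=
  ((sheafToPresheaf J AddCommGrpCat.{u}).mapHomologicalComplex _).obj R.cocomplex

/-- the differential on sections over `U`. -/
noncomputable def sectD (n : ℕ) (U : C) :
    (R.cocomplex.X n).obj.obj (op U) →+ (R.cocomplex.X (n+1)).obj.obj (op U) :=
  ((R.cocomplex.d n (n+1)).hom.app (op U)).hom

lemma homEquiv_postD (n : ℕ) (U : C) (g : ZU J U ⟶ R.cocomplex.X n) :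
    homEquiv U _ (postD R (ZU J U) n g) = sectD R n U (homEquiv U _ g) :=
  homEquiv_comp U g (R.cocomplex.d n (n+1))

/-- cocycles on sections correspond to cocycles of the `Hom`-complex. -/
noncomputable def cocycleEquiv (n : ℕ) (U : C) :
    (sectD R n U).ker ≃+ (postD R (ZU J U) n).ker where
  toFun z := ⟨(homAddEquiv U _).symm z.1, by
    rw [AddMonoidHom.mem_ker]
    apply (homAddEquiv U _).injective
    rw [map_zero]
    change homEquiv U _ (postD R (ZU J U) n _) = 0
    rw [homEquiv_postD]
    change sectD R n U ((homAddEquiv U _) ((homAddEquiv U _).symm z.1)) = 0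
    rw [AddEquiv.apply_symm_apply]
    exact z.2⟩
  invFun g := ⟨homAddEquiv U _ g.1, by
    rw [AddMonoidHom.mem_ker]
    change sectD R n U (homEquiv U _ g.1) = 0
    rw [← homEquiv_postD, g.2]
    exact (homAddEquiv U _).map_zero⟩
  left_inv z := Subtype.ext ((homAddEquiv U _).apply_symm_apply z.1)
  right_inv g := Subtype.ext ((homAddEquiv U _).symm_apply_apply g.1)
  map_add' z w := Subtype.ext ((homAddEquiv U _).symm.map_add z.1 w.1)

/-- the class of a section-cocycle. -/
noncomputable def toExtU (n : ℕ) (U : C) : (sectD R n U).ker →+ Ext (ZU J U) F n :=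
  (toExt R (ZU J U) n).comp (cocycleEquiv R n U).toAddMonoidHom

lemma toExtU_surjective (n : ℕ) (U : C) : Function.Surjective (toExtU R n U) :=
  (toExt_surjective R (ZU J U) n).comp (cocycleEquiv R n U).surjective

lemma toExtU_eq_zero_iff (n : ℕ) (U : C) (z : (sectD R (n+1) U).ker) :
    toExtU R (n+1) U z = 0 ↔ ∃ y, sectD R n U y = z.1 := by
  change toExt R (ZU J U) (n+1) (cocycleEquiv R (n+1) U z) = 0 ↔ _
  rw [toExt_eq_zero_iff]
  constructor
  · rintro ⟨g, hg⟩
    refine ⟨homEquiv U _ g, ?_⟩
    rw [← homEquiv_postD, hg]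
    exact (homAddEquiv U _).apply_symm_apply z.1
  · rintro ⟨y, hy⟩
    refine ⟨(homAddEquiv U _).symm y, ?_⟩
    apply (homAddEquiv U _).injective
    change homEquiv U _ (postD R (ZU J U) n _) = (homAddEquiv U _) ((homAddEquiv U _).symm z.1)
    rw [homEquiv_postD, AddEquiv.apply_symm_apply]
    change sectD R n U ((homAddEquiv U _) ((homAddEquiv U _).symm y)) = _
    rw [AddEquiv.apply_symm_apply, hy]

/-- naturality of the class map with respect to restriction. -/
lemma toExtU_res (n : ℕ) {U V : C} (f : V ⟶ U) (z : (sectD R n U).ker) (w : (sectD R n V).ker)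
    (h : w.1 = (R.cocomplex.X n).obj.map f.op z.1) :
    toExtU R n V w = Hres f (toExtU R n U z) := by
  change R.extMk (cocycleEquiv R n V w).1 (n+1) rfl (cocycleEquiv R n V w).2 =
    (Ext.mk₀ (ZUmap J f)).comp (R.extMk (cocycleEquiv R n U z).1 (n+1) rfl
      (cocycleEquiv R n U z).2) _
  rw [InjectiveResolution.mk₀_comp_extMk]
  congr 1
  change (homEquiv V _).symm w.1 = ZUmap J f ≫ (homEquiv U _).symm z.1
  apply (homEquiv V _).injective
  rw [Equiv.apply_symm_apply, homEquiv_map, Equiv.apply_symm_apply, h]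

end Groth.Agent.LD.SC
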