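import Mathlib.Algebra.Homology.ShortComplex.Ab
import Mathlib.Algebra.Homology.ShortComplex.PreservesHomology
import Mathlib.Algebra.Homology.ShortComplex.ExactFunctor
import Mathlib.CategoryTheory.Abelian.FunctorCategory
import Mathlib.Algebra.Category.Grp.Abelian
import Mathlib.Algebra.Category.Grp.Limits
import Mathlib.Algebra.Category.Grp.Colimits
import Mathlib.CategoryTheory.Limits.FunctorCategory.EpiMono

/-! # Elementwise description of the homology of a short complex of presheaves of abelian groups. -/

universe u
open CategoryTheory Limits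

namespace Groth.Agent.LD.SC

variable {D : Type u} [SmallCategory D] (S : ShortComplex (D ⥤ AddCommGrpCat.{u})) (U : D)

lemma homologyπ_app_surjective : Function.Surjective (S.homologyπ.app U) := by
  haveI : Epi (S.homologyπ.app U) := inferInstance
  exact (AddCommGrpCat.epi_iff_surjective _).1 inferInstance

lemma iCycles_app_injective : Function.Injective (S.iCycles.app U) := by
  haveI : Mono (S.iCycles.app U) := inferInstance
  exact (AddCommGrpCat.mono_iff_injective _).1 inferInstance

lemma exists_cycle_of_g_eq_zero (x : S.X₂.obj U) (hx : S.g.app U x = 0) :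
    ∃ z : S.cycles.obj U, S.iCycles.app U z = x := by
  let T : ShortComplex (D ⥤ AddCommGrpCat.{u}) := ShortComplex.mk S.iCycles S.g S.iCycles_g
  have hT : T.Exact := ShortComplex.exact_of_f_is_kernel _ S.cyclesIsKernel
  have hT' := hT.map ((evaluation D AddCommGrpCat.{u}).obj U)
  rw [ShortComplex.ab_exact_iff] at hT'
  exact hT' x hx

lemma exists_of_homologyπ_eq_zero (z : S.cycles.obj U) (hz : S.homologyπ.app U z = 0) :
    ∃ y : S.X₁.obj U, S.toCycles.app U y = z := by
  let T : ShortComplex (D ⥤ AddCommGrpCat.{u}) :=
    ShortComplex.mk S.toCycles S.homologyπ S.toCycles_comp_homologyπ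
  have hT : T.Exact := ShortComplex.exact_of_g_is_cokernel _ S.homologyIsCokernel
  have hT' := hT.map ((evaluation D AddCommGrpCat.{u}).obj U)
  rw [ShortComplex.ab_exact_iff] at hT'
  exact hT' z hz

lemma iCycles_toCycles_app (y : S.X₁.obj U) :
    S.iCycles.app U (S.toCycles.app U y) = S.f.app U y := by
  rw [← ConcreteCategory.comp_apply, ← NatTrans.comp_app, S.toCycles_i]

lemma g_iCycles_app (z : S.cycles.obj U) : S.g.app U (S.iCycles.app U z) = 0 := by
  rw [← ConcreteCategory.comp_apply, ← NatTrans.comp_app, S.iCycles_g]
  rfl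

end Groth.Agent.LD.SC
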