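import Groth.Agent.Lib.Lead.SC.CohPsh
import Groth.Agent.Lib.Lead.SC.PshHomology

/-! # The cohomology presheaf as the homology presheaf of an injective resolution (continued). -/

universe u
open CategoryTheory Limits Opposite Abelian

namespace Groth.Agent.LD.SC

variable {C : Type u} [SmallCategory C] {J : GrothendieckTopology C}
  {F : Sheaf J AddCommGrpCat.{u}} (R : InjectiveResolution F) (n : ℕ)

/-- the short complex of presheaves computing the homology presheaf in degree `n + 1`. -/
noncomputable abbrev Spsh : ShortComplex (Cᵒᵖ ⥤ AddCommGrpCat.{u}) :=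
  (pshCx R).sc' n (n+1) (n+2)

/-- cycles of the presheaf complex give cocycles on sections. -/
noncomputable def cycToKer (U : C) : (Spsh R n).cycles.obj (op U) →+ (sectD R (n+1) U).ker :=
  AddMonoidHom.codRestrict ((Spsh R n).iCycles.app (op U)).hom _
    (fun z => g_iCycles_app (Spsh R n) (op U) z)

noncomputable def γapp (U : C) : (Spsh R n).cycles.obj (op U) →+ Ext (ZU J U) F (n+1) :=
  (toExtU R (n+1) U).comp (cycToKer R n U)

/-- the class map from the cycle presheaf to the cohomology presheaf. -/
noncomputable def γ : (Spsh R n).cycles ⟶ Sheaf.cohomologyPresheaf.{u} F (n+1) where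
  app U := AddCommGrpCat.ofHom (γapp R n U.unop)
  naturality U V φ := by
    ext z
    change γapp R n V.unop ((Spsh R n).cycles.map φ z) =
      (Sheaf.cohomologyPresheaf.{u} F (n+1)).map φ.unop.op (γapp R n U.unop z)
    rw [cohomologyPresheaf_map_eq]
    refine toExtU_res R (n+1) φ.unop _ _ ?_
    exact ConcreteCategory.congr_hom ((Spsh R n).iCycles.naturality φ) z

lemma toCycles_γ : (Spsh R n).toCycles ≫ γ R n = 0 := by
  ext U y
  change γapp R n U.unop ((Spsh R n).toCycles.app U y) = 0
  change toExtU R (n+1) U.unop (cycToKer R n U.unop ((Spsh R n).toCycles.app U y)) = 0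
  rw [toExtU_eq_zero_iff]
  exact ⟨y, (iCycles_toCycles_app (Spsh R n) U y).symm⟩

/-- the comparison map from the homology presheaf to the cohomology presheaf. -/
noncomputable def γbar : (Spsh R n).homology ⟶ Sheaf.cohomologyPresheaf.{u} F (n+1) :=
  (Spsh R n).descHomology (γ R n) (toCycles_γ R n)

lemma π_γbar_app (U : C) (z : (Spsh R n).cycles.obj (op U)) :
    (γbar R n).app (op U) ((Spsh R n).homologyπ.app (op U) z) = γapp R n U z := by
  have h : (Spsh R n).homologyπ ≫ γbar R n = γ R n := (Spsh R n).π_descHomology _ _
  exact ConcreteCategory.congr_hom (congrArg (fun t => t.app (op U)) h) z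

instance : IsIso (γbar R n) := by
  haveI : ∀ U, IsIso ((γbar R n).app U) := by
    intro U
    obtain ⟨U⟩ := U
    rw [ConcreteCategory.isIso_iff_bijective]
    constructor
    · -- injective
      have : Function.Injective ((γbar R n).app (op U)).hom := by
        rw [injective_iff_map_eq_zero]
        intro x hx
        obtain ⟨z, rfl⟩ := homologyπ_app_surjective (Spsh R n) (op U) x
        have h1 : γapp R n U z = 0 := (π_γbar_app R n U z).symm.trans hx
        change toExtU R (n+1) U (cycToKer R n U z) = 0 at h1
        rw [toExtU_eq_zero_iff] at h1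
        obtain ⟨y, hy⟩ := h1
        have h2 : (Spsh R n).toCycles.app (op U) y = z := by
          apply iCycles_app_injective (Spsh R n) (op U)
          rw [iCycles_toCycles_app]
          exact hy
        rw [← h2]
        have h3 : (Spsh R n).toCycles ≫ (Spsh R n).homologyπ = 0 :=
          (Spsh R n).toCycles_comp_homologyπ
        exact ConcreteCategory.congr_hom (congrArg (fun t => t.app (op U)) h3) y
      exact this
    · intro x
      obtain ⟨w, hw⟩ := toExtU_surjective R (n+1) U x
      obtain ⟨z, hz⟩ := exists_cycle_of_g_eq_zero (Spsh R n) (op U) w.1 w.2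
      refine ⟨(Spsh R n).homologyπ.app (op U) z, ?_⟩
      rw [π_γbar_app]
      change toExtU R (n+1) U (cycToKer R n U z) = x
      rw [← hw]
      congr 1
      exact Subtype.ext hz
  exact NatIso.isIso_of_isIso_app _

/-- **the cohomology presheaf is the homology presheaf of an injective resolution.** -/
noncomputable def homologyPshIso :
    (pshCx R).homology (n+1) ≅ Sheaf.cohomologyPresheaf.{u} F (n+1) :=
  ShortComplex.homologyMapIso ((pshCx R).isoSc' n (n+1) (n+2) (by simp) (by simp)) ≪≫
    asIso (γbar R n)

end Groth.Agent.LD.SC
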