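import Groth.Agent.Lib.Lead.SC.CohPsh4
import Groth.Agent.Lib.Lead.EZ.PostcompNat
import Groth.Agent.Lib.Lead.EZ.DerivedIso

/-! # `Rᵖ` of the forgetful functor to presheaves is the cohomology presheaf functor, naturally. -/

universe u
open CategoryTheory Limits Opposite Abelian

namespace Groth.Agent.LD.SC

variable {C : Type u} [SmallCategory C] {J : GrothendieckTopology C}

section gen
variable {V : Type*} [Category V] [Abelian V] {ι : Type*} {c : ComplexShape ι}

lemma homologyMap_isoSc' {K L : HomologicalComplex V c} (f : K ⟶ L) (i j k : ι)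
    (hi : c.prev j = i) (hk : c.next j = k) :
    HomologicalComplex.homologyMap f j ≫ ShortComplex.homologyMap (L.isoSc' i j k hi hk).hom =
      ShortComplex.homologyMap (K.isoSc' i j k hi hk).hom ≫
        ShortComplex.homologyMap ((HomologicalComplex.shortComplexFunctor' V c i j k).map f) := by
  have e1 := ShortComplex.homologyMap_comp ((HomologicalComplex.shortComplexFunctor V c j).map f)
    (L.isoSc' i j k hi hk).hom
  have e2 := ShortComplex.homologyMap_comp (K.isoSc' i j k hi hk).hom
    ((HomologicalComplex.shortComplexFunctor' V c i j k).map f)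
  refine e1.symm.trans (Eq.trans ?_ e2)
  have hn : (HomologicalComplex.shortComplexFunctor V c j).map f ≫ (L.isoSc' i j k hi hk).hom =
      (K.isoSc' i j k hi hk).hom ≫ (HomologicalComplex.shortComplexFunctor' V c i j k).map f :=
    (HomologicalComplex.natIsoSc' V c i j k hi hk).hom.naturality f
  rw [hn]

end gen

section nat
variable {F F' : Sheaf J AddCommGrpCat.{u}} {φ : F ⟶ F'} {R : InjectiveResolution F}
  {R' : InjectiveResolution F'} (ψ : InjectiveResolution.Hom R R' φ) (n : ℕ)

/-- the induced map on presheaf complexes -/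
noncomputable abbrev pshMap : pshCx R ⟶ pshCx R' :=
  ((sheafToPresheaf J AddCommGrpCat.{u}).mapHomologicalComplex _).map ψ.hom

noncomputable abbrev SpshMap : Spsh R n ⟶ Spsh R' n :=
  (HomologicalComplex.shortComplexFunctor' _ _ n (n+1) (n+2)).map (pshMap ψ)

lemma cohomologyPresheafFunctor_map_app (p : ℕ) (U : C) (x : Ext (ZU J U) F p) :
    ((Sheaf.cohomologyPresheafFunctor J p).map φ).app (op U) x =
      x.comp (Ext.mk₀ φ) (add_zero p) := rfl

lemma toExtU_nat (m : ℕ) (U : C) (z : (sectD R m U).ker) (w : (sectD R' m U).ker)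
    (h : w.1 = (ψ.hom.f m).hom.app (op U) z.1) :
    toExtU R' m U w = (toExtU R m U z).comp (Ext.mk₀ φ) (add_zero _) := by
  change R'.extMk (cocycleEquiv R' m U w).1 (m+1) rfl (cocycleEquiv R' m U w).2 =
    (R.extMk (cocycleEquiv R m U z).1 (m+1) rfl (cocycleEquiv R m U z).2).comp _ _
  rw [InjectiveResolution.extMk_comp_mk₀ _ _ _ _ ψ]
  congr 1
  change (homEquiv U _).symm w.1 = (homEquiv U _).symm z.1 ≫ ψ.hom.f m
  apply (homEquiv U _).injective
  rw [Equiv.apply_symm_apply, homEquiv_comp, Equiv.apply_symm_apply, h]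

lemma γapp_nat (U : C) (z : (Spsh R n).cycles.obj (op U)) :
    γapp R' n U ((ShortComplex.cyclesMap (SpshMap ψ n)).app (op U) z) =
      (γapp R n U z).comp (Ext.mk₀ φ) (add_zero _) := by
  refine toExtU_nat ψ (n+1) U _ _ ?_
  have h := ShortComplex.cyclesMap_i (SpshMap ψ n)
  exact ConcreteCategory.congr_hom (congrArg (fun t => t.app (op U)) h) z

lemma γ_nat : ShortComplex.cyclesMap (SpshMap ψ n) ≫ γ R' n =
    γ R n ≫ (Sheaf.cohomologyPresheafFunctor J (n+1)).map φ := by
  ext U z
  obtain ⟨U⟩ := U
  exact γapp_nat ψ n U z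

lemma γbar_nat : ShortComplex.homologyMap (SpshMap ψ n) ≫ γbar R' n =
    γbar R n ≫ (Sheaf.cohomologyPresheafFunctor J (n+1)).map φ := by
  rw [← cancel_epi (Spsh R n).homologyπ]
  have h1 : (Spsh R n).homologyπ ≫ γbar R n = γ R n := (Spsh R n).π_descHomology _ _
  have h2 : (Spsh R' n).homologyπ ≫ γbar R' n = γ R' n := (Spsh R' n).π_descHomology _ _
  rw [ShortComplex.homologyπ_naturality_assoc, h2, reassoc_of% h1, γ_nat]

lemma homologyPshIso_nat :
    (HomologicalComplex.homologyFunctor _ _ (n+1)).map (pshMap ψ) ≫ (homologyPshIso R' n).hom =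
      (homologyPshIso R n).hom ≫ (Sheaf.cohomologyPresheafFunctor J (n+1)).map φ := by
  have h1 := homologyMap_isoSc' (pshMap ψ) n (n+1) (n+2) (by simp) (by simp)
  change _ ≫ ShortComplex.homologyMap _ ≫ γbar R' n = (ShortComplex.homologyMap _ ≫ γbar R n) ≫ _
  rw [Category.assoc, ← γbar_nat ψ n]
  exact (Category.assoc _ _ _).symm.trans ((congrArg (fun t => t ≫ γbar R' n) h1).trans
    (Category.assoc _ _ _))

end nat

variable (J)

/-- `H⁰(-, F) ≅ F`, naturally in `F`. -/
noncomputable def cohomologyPresheafFunctorZeroIso :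
    Sheaf.cohomologyPresheafFunctor J 0 ≅ sheafToPresheaf J AddCommGrpCat.{u} :=
  NatIso.ofComponents (fun F => cohomologyPresheafZeroIso F) (by
    intro F F' φ
    ext U x
    obtain ⟨U⟩ := U
    change H0Equiv U F' (x.comp (Ext.mk₀ φ) (add_zero 0)) = φ.hom.app (op U) (H0Equiv U F x)
    obtain ⟨g, rfl⟩ := (Ext.mk₀_bijective _ _).2 x
    rw [Ext.mk₀_comp_mk₀, H0Equiv_mk₀, H0Equiv_mk₀, homEquiv_comp])

/-- **`Rᵖ` of the forgetful functor from sheaves to presheaves is the cohomology presheaf functor.** -/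
noncomputable def rightDerivedForgetIso : ∀ (p : ℕ),
    (sheafToPresheaf J AddCommGrpCat.{u}).rightDerived p ≅ Sheaf.cohomologyPresheafFunctor J p
  | 0 => (sheafToPresheaf J AddCommGrpCat.{u}).rightDerivedZeroIsoSelf ≪≫
      (cohomologyPresheafFunctorZeroIso J).symm
  | n+1 => NatIso.ofComponents (fun F =>
      (injectiveResolution F).isoRightDerivedObj (sheafToPresheaf J AddCommGrpCat.{u}) (n+1) ≪≫
        homologyPshIso (injectiveResolution F) n) (by
      intro F F' φ
      let I := injectiveResolution F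
      let I' := injectiveResolution F'
      have comm := InjectiveResolution.desc_commutes_zero φ I' I
      let ψ : InjectiveResolution.Hom I I' φ := ⟨InjectiveResolution.desc φ I' I, by
        simpa using comm⟩
      have n1 := InjectiveResolution.isoRightDerivedObj_hom_naturality φ I I' ψ.hom comm
        (sheafToPresheaf J AddCommGrpCat.{u}) (n+1)
      have n2 := homologyPshIso_nat ψ n
      change _ ≫ (I'.isoRightDerivedObj _ (n+1)).hom ≫ (homologyPshIso I' n).hom =
        ((I.isoRightDerivedObj _ (n+1)).hom ≫ (homologyPshIso I n).hom) ≫ _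
      rw [reassoc_of% n1, Category.assoc]
      exact congrArg (fun t => (I.isoRightDerivedObj _ (n+1)).hom ≫ t) n2)

end Groth.Agent.LD.SC
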