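import Groth.Agent.Lib.Lead.SC.ConstIrr
import Mathlib.CategoryTheory.Subobject.Limits
import Mathlib.CategoryTheory.Abelian.Basic
import Mathlib.RingTheory.PrincipalIdealDomain
import Mathlib.RingTheory.Int.Basic
import Mathlib.RingTheory.Noetherian.Basic

/-! # Subsheaves of the constant sheaf `ℤ` on an irreducible space. -/

universe u
open CategoryTheory Limits Opposite TopologicalSpace

namespace Groth.Agent.LD.SC

variable {Y : TopCat.{u}}

lemma imageSubobject_le_of_sections {A B Z : Sheaf (Opens.grothendieckTopology Y) AddCommGrpCat.{u}}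
    (f : A ⟶ Z) (g : B ⟶ Z)
    (h : ∀ (W : (Opens Y)ᵒᵖ) (s : A.obj.obj W), ∃ t : B.obj.obj W, g.hom.app W t = f.hom.app W s) :
    imageSubobject f ≤ imageSubobject g := by
  have h0 : f ≫ cokernel.π g = 0 := by
    apply Sheaf.hom_ext
    ext W s
    obtain ⟨t, ht⟩ := h W s
    change (cokernel.π g).hom.app W (f.hom.app W s) = 0
    rw [← ht]
    have h1 := congrArg (fun φ => φ.hom.app W t) (cokernel.condition g)
    exact h1
  let k : A ⟶ Abelian.image g := kernel.lift _ f h0
  have hk : k ≫ Abelian.image.ι g = f := kernel.lift_ι _ _ _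
  refine imageSubobject_le f (k ≫ (Abelian.imageIsoImage g).hom ≫ (imageSubobjectIso g).inv) ?_
  rw [Category.assoc, Category.assoc, imageSubobject_arrow', Abelian.imageIsoImage_hom_comp_image_ι]
  exact hk

end Groth.Agent.LD.SC

namespace Groth.Agent.LD.SC
open CohTop
variable {X : TopCat.{u}}

/-- image of an open of `U` in `X`. -/
abbrev imOpen (U : Opens X) (W' : Opens (TopCat.of U)) : Opens X :=
  U.isOpenEmbedding.isOpenMap.functor.obj W'


section
variable (X) [IrreducibleSpace X]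

/-- the constant sheaf `ℤ`. -/
noncomputable abbrev Zs : CohTop.Ab X := CohTop.const X (ULift.{u} ℤ)

/-- constant functions, as an additive map. -/
def cstFun (W : Opens X) : ℤ →+ (constFunSheaf X (ULift.{u} ℤ)).obj.obj (op W) where
  toFun m := ⟨fun _ => ⟨m⟩, fun _ _ => rfl⟩
  map_zero' := rfl
  map_add' _ _ := rfl

/-- the constant section with value `m`. -/
noncomputable def cst (W : Opens X) : ℤ →+ (Zs X).obj.obj (op W) :=
  ((constIso X (ULift.{u} ℤ)).inv.hom.app (op W)).hom.comp (cstFun X W)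

lemma cstFun_surjective (W : Opens X) : Function.Surjective (cstFun X W) := by
  intro f
  by_cases hW : Nonempty W
  · obtain ⟨x⟩ := hW
    refine ⟨(f.1 x).down, ?_⟩
    apply Subtype.ext
    funext y
    exact f.2 x y
  · refine ⟨0, ?_⟩
    apply Subtype.ext
    funext y
    exact (hW ⟨y⟩).elim

lemma cst_surjective (W : Opens X) : Function.Surjective (cst X W) := by
  intro z
  obtain ⟨m, hm⟩ := cstFun_surjective X W ((constIso X (ULift.{u} ℤ)).hom.hom.app (op W) z)
  refine ⟨m, ?_⟩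
  change (constIso X (ULift.{u} ℤ)).inv.hom.app (op W) (cstFun X W m) = z
  rw [hm]
  have h := congrArg (fun φ => φ.hom.app (op W) z) (constIso X (ULift.{u} ℤ)).hom_inv_id
  exact h

lemma cst_res {W W' : Opens X} (i : W' ≤ W) (m : ℤ) :
    (Zs X).obj.map (homOfLE i).op (cst X W m) = cst X W' m := by
  have h := ConcreteCategory.congr_hom
    ((constIso X (ULift.{u} ℤ)).inv.hom.naturality (homOfLE i).op) (cstFun X W m)
  exact h.symm

lemma subsingleton_Zs_of_isEmpty (W : Opens X) (hW : ¬ Nonempty W) :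
    Subsingleton ((Zs X).obj.obj (op W)) := by
  refine ⟨fun a b => ?_⟩
  obtain ⟨m, rfl⟩ := cst_surjective X W a
  obtain ⟨n, rfl⟩ := cst_surjective X W b
  change (constIso X (ULift.{u} ℤ)).inv.hom.app (op W) (cstFun X W m) = 
    (constIso X (ULift.{u} ℤ)).inv.hom.app (op W) (cstFun X W n)
  congr 1
  apply Subtype.ext
  funext y
  exact (hW ⟨y⟩).elim

variable {X}
variable (H : CohTop.Ab X) (ι : H ⟶ Zs X)

/-- the ideal of values taken by the subsheaf over `W`. -/
noncomputable def valIdeal (W : Opens X) : Ideal ℤ where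
  carrier := {m | ∃ s : H.obj.obj (op W), ι.hom.app (op W) s = cst X W m}
  zero_mem' := ⟨0, by rw [map_zero, map_zero]⟩
  add_mem' := by
    rintro a b ⟨s, hs⟩ ⟨t, ht⟩
    exact ⟨s + t, by rw [map_add, map_add, hs, ht]⟩
  smul_mem' := by
    rintro c a ⟨s, hs⟩
    refine ⟨c • s, ?_⟩
    rw [map_zsmul, hs, smul_eq_mul, ← smul_eq_mul, map_zsmul]

lemma mem_valIdeal (W : Opens X) (m : ℤ) :
    m ∈ valIdeal H ι W ↔ ∃ s : H.obj.obj (op W), ι.hom.app (op W) s = cst X W m := Iff.rfl

lemma valIdeal_mono {W W' : Opens X} (i : W' ≤ W) : valIdeal H ι W ≤ valIdeal H ι W' := by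
  rintro m ⟨s, hs⟩
  refine ⟨H.obj.map (homOfLE i).op s, ?_⟩
  have h := ConcreteCategory.congr_hom (ι.hom.naturality (homOfLE i).op) s
  refine h.trans ?_
  change (Zs X).obj.map (homOfLE i).op (ι.hom.app (op W) s) = _
  rw [hs, cst_res]

end


lemma imOpen_le (U : Opens X) (W' : Opens (TopCat.of U)) : imOpen U W' ≤ U := by
  rintro _ ⟨y, _, rfl⟩
  exact y.2

theorem exists_open_image_eq [IrreducibleSpace X] (H : CohTop.Ab X) (ι : H ⟶ Zs X) :
    ∃ (U : Opens X) (d : ℤ), U ≠ ⊥ ∧
      imageSubobject ((CohTop.restrFunctor U).map ι) =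
        imageSubobject ((CohTop.restrFunctor U).map (d • 𝟙 (Zs X))) := by
  let 𝒮 : Set (Ideal ℤ) := {I | ∃ W : Opens X, Nonempty W ∧ I = valIdeal H ι W}
  have h𝒮 : 𝒮.Nonempty := ⟨valIdeal H ι ⊤, ⊤, ⟨⟨Classical.arbitrary X, trivial⟩⟩, rfl⟩
  obtain ⟨I, ⟨W₀, hW₀, rfl⟩, hmax⟩ :=
    set_has_maximal_iff_noetherian.2 (inferInstance : IsNoetherian ℤ ℤ) 𝒮 h𝒮
  obtain ⟨d, hd⟩ := (IsPrincipalIdealRing.principal (valIdeal H ι W₀)).principal
  have hall : ∀ W : Opens X, W ≤ W₀ → Nonempty W → valIdeal H ι W = Ideal.span {d} := by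
    intro W hW hne
    have h1 := valIdeal_mono H ι hW
    by_contra hne'
    refine hmax _ ⟨W, hne, rfl⟩ (lt_of_le_of_ne h1 ?_)
    intro h2
    exact hne' (h2 ▸ hd)
  refine ⟨W₀, d, ?_, le_antisymm ?_ ?_⟩
  · intro h
    obtain ⟨x⟩ := hW₀
    have hx : x.1 ∈ (⊥ : Opens X) := h ▸ x.2
    exact hx
  · apply imageSubobject_le_of_sections
    intro W' s
    let W : Opens X := imOpen W₀ W'.unop
    have hWle : W ≤ W₀ := imOpen_le W₀ W'.unop
    change ∃ t : (Zs X).obj.obj (op W), d • t = ι.hom.app (op W) s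
    by_cases hne : Nonempty W
    · obtain ⟨m, hm⟩ := cst_surjective X W (ι.hom.app (op W) s)
      have hmem : m ∈ valIdeal H ι W := ⟨s, hm.symm⟩
      rw [hall W hWle hne, Ideal.mem_span_singleton'] at hmem
      obtain ⟨k, hk⟩ := hmem
      refine ⟨cst X W k, ?_⟩
      rw [← map_zsmul, smul_eq_mul, mul_comm, hk, hm]
    · haveI := subsingleton_Zs_of_isEmpty X W hne
      exact ⟨0, Subsingleton.elim _ _⟩
  · apply imageSubobject_le_of_sections
    intro W' t
    let W : Opens X := imOpen W₀ W'.unop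
    have hWle : W ≤ W₀ := imOpen_le W₀ W'.unop
    change ∃ s : H.obj.obj (op W), ι.hom.app (op W) s = d • (show (Zs X).obj.obj (op W) from t)
    by_cases hne : Nonempty W
    · obtain ⟨k, hk⟩ := cst_surjective X W t
      have hmem : d * k ∈ valIdeal H ι W := by
        rw [hall W hWle hne, Ideal.mem_span_singleton']
        exact ⟨k, mul_comm _ _⟩
      obtain ⟨s, hs⟩ := hmem
      refine ⟨s, ?_⟩
      rw [hs, ← smul_eq_mul, map_zsmul, hk]
    · haveI := subsingleton_Zs_of_isEmpty X W hne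
      exact ⟨0, Subsingleton.elim _ _⟩

end Groth.Agent.LD.SC
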