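import Groth.Agent.Lib.Lead.SC.ExtZero
import Groth.Agent.Lib.Lead.SC.KInjAdj

/-! # Restriction to an open preserves K-injective complexes. -/

universe u
open CategoryTheory Limits Opposite TopologicalSpace Topology

namespace Groth.Agent.LD.SC

variable {X Y : TopCat.{u}} {j : Y ⟶ X} (hj : IsOpenEmbedding j)

instance additive_extZero : (extZero hj).Additive := (extZeroAdj hj).left_adjoint_additive

instance preservesHomology_extZero : (extZero hj).PreservesHomology := by
  haveI : PreservesColimits (extZero hj) := (extZeroAdj hj).leftAdjoint_preservesColimits
  exact Functor.preservesHomology_of_preservesMonos_and_cokernels _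

theorem isKInjective_resTop (I : CochainComplex (Sheaf (Opens.grothendieckTopology X) AddCommGrpCat.{u}) ℤ)
    [I.IsKInjective] :
    CochainComplex.IsKInjective (((resTop hj).mapHomologicalComplex (ComplexShape.up ℤ)).obj I) :=
  isKInjective_map_of_adjunction (extZeroAdj hj) I

end Groth.Agent.LD.SC
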