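import Mathlib.CategoryTheory.Functor.KanExtension.Adjunction
import Mathlib.CategoryTheory.Limits.Shapes.IsTerminal
import Mathlib.CategoryTheory.Limits.Shapes.ZeroMorphisms
import Mathlib.CategoryTheory.Abelian.Basic

/-! # Left Kan extension along a functor whose comma categories are empty or have a terminal object
preserves monomorphisms (pointwise). -/

universe v u
open CategoryTheory Limits

namespace Groth.Agent.LD.SC

variable {C' D' : Type u} [Category.{u} C'] [Category.{u} D'] (L : C' ⥤ D')
  {A : Type (u+1)} [Category.{u} A] [Abelian A] [HasColimitsOfSize.{u, u} A]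

theorem lan_map_app_mono
    (hL : ∀ V : D', IsEmpty (CostructuredArrow L V) ∨
      ∃ t : CostructuredArrow L V, Nonempty (IsTerminal t))
    {P Q : C' ⥤ A} (φ : P ⟶ Q) (hφ : ∀ W, Mono (φ.app W)) (V : D') :
    Mono ((L.lan.map φ).app V) := by
  have hP := Functor.isPointwiseLeftKanExtensionLeftKanExtensionUnit L P V
  have hQ := Functor.isPointwiseLeftKanExtensionLeftKanExtensionUnit L Q V
  rcases hL V with hE | ⟨t, ⟨ht⟩⟩
  · have e := isColimitEquivIsInitialOfIsEmpty _
      ((Functor.LeftExtension.mk _ (L.leftKanExtensionUnit P)).coconeAt V)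
    have hinit : IsInitial ((L.leftKanExtension P).obj V) := e hP
    have hz : IsZero ((L.leftKanExtension P).obj V) :=
      IsZero.of_iso (isZero_zero A) (hinit.uniqueUpToIso (isZero_zero A).isInitial)
    exact hz.mono _
  · let a : P.obj t.left ⟶ (L.leftKanExtension P).obj V :=
      ((Functor.LeftExtension.mk _ (L.leftKanExtensionUnit P)).coconeAt V).ι.app t
    let b : Q.obj t.left ⟶ (L.leftKanExtension Q).obj V :=
      ((Functor.LeftExtension.mk _ (L.leftKanExtensionUnit Q)).coconeAt V).ι.app t
    haveI i1 : IsIso a := hP.isIso_ι_app_of_isTerminal t ht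
    haveI i2 : IsIso b := hQ.isIso_ι_app_of_isTerminal t ht
    let m : (L.leftKanExtension P).obj V ⟶ (L.leftKanExtension Q).obj V := (L.lan.map φ).app V
    have hnat : a ≫ m = φ.app t.left ≫ b := by
      have h1 : φ.app t.left ≫ (L.leftKanExtensionUnit Q).app t.left =
          (L.leftKanExtensionUnit P).app t.left ≫ (L.lan.map φ).app (L.obj t.left) :=
        congrArg (fun (α : P ⟶ L ⋙ L.leftKanExtension Q) => α.app t.left)
          (L.lanUnit.naturality φ)
      have h2 : (L.leftKanExtension P).map t.hom ≫ (L.lan.map φ).app V =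
          (L.lan.map φ).app (L.obj t.left) ≫ (L.leftKanExtension Q).map t.hom :=
        (L.lan.map φ).naturality t.hom
      refine (Category.assoc _ _ _).trans ?_
      refine (congrArg (fun z => (L.leftKanExtensionUnit P).app t.left ≫ z) h2).trans ?_
      refine (Category.assoc _ _ _).symm.trans ?_
      refine (congrArg (fun z => z ≫ (L.leftKanExtension Q).map t.hom) h1.symm).trans ?_
      exact Category.assoc _ _ _
    haveI := hφ t.left
    have hm : m = inv a ≫ φ.app t.left ≫ b := by
      rw [← hnat, IsIso.inv_hom_id_assoc]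
    change Mono m
    rw [hm]
    infer_instance

end Groth.Agent.LD.SC
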