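import Groth.Agent.Lib.Lead.SC.LocFreeVanish
import Groth.Agent.Lib.Lead.PN.SerreDualExt
import Groth.Agent.Lib.Lead.QC.InvInverse

/-! # Vanishing of cohomology of coherent modules from vanishing on the large negative powers of
an ample invertible module. -/

universe u
open CategoryTheory Limits AlgebraicGeometry TopologicalSpace Opposite Abelian

namespace Groth.Agent.LD.SC
open Groth.Agent.LD.QC Groth.Agent.LD.CL

variable {X : Scheme.{u}}

/-- on a noetherian scheme with an ample invertible module `L` (with a chosen inverse `L'`), if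
the cohomology of the large powers of `L'` vanishes above `n`, so does that of all coherent
modules. -/
theorem subsingleton_HH_coh_of_negPow [IsLocallyNoetherian X] (L L' : X.Modules)
    (hL : CohB1.IsAmple L) (ε : CohB1.tensorMod L L' ≅ unitMod X) (n m₁ : ℕ)
    (h : ∀ m : ℕ, m₁ ≤ m → ∀ i : ℕ, n < i → Subsingleton (Coh.HH X (CohB1.tensorPow L' m) i))
    (F : X.Modules) (hF : Coh.IsCoh F) (i : ℕ) (hi : n < i) :
    Subsingleton (Coh.HH X F i) := by
  haveI : CompactSpace X := hL.2.1
  haveI : QuasiSeparatedSpace X := quasiSeparatedSpace_of_isAmple L hL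
  have hL' : PicF.IsInvertible L' := isInvertible_of_tensor_iso hL.1 ε
  haveI : L.IsQuasicoherent := qc_of_isInvertible L hL.1
  haveI : L'.IsQuasicoherent := qc_of_isInvertible L' hL'
  have hqcL : ∀ n, (CohB1.tensorPow L n).IsQuasicoherent := fun n =>
    qc_of_isInvertible _ (isInvertible_tensorPow hL.1 n)
  have hqcL' : ∀ n, (CohB1.tensorPow L' n).IsQuasicoherent := fun n =>
    qc_of_isInvertible _ (isInvertible_tensorPow hL' n)
  let εn : ∀ n, CohB1.tensorMod (CohB1.tensorPow L n) (CohB1.tensorPow L' n) ≅ unitMod X :=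
    fun n => tensorPowTensor L L' n ≪≫ tensorPowCongr ε n ≪≫ unitPowIso X n
  obtain ⟨d, hd⟩ := exists_cohDim_of_qcqs X
  refine subsingleton_HH_of_devissage (fun M => Coh.IsCoh M) n ?_ d ?_ F hF i hi
  · intro M hM
    haveI : M.IsQuasicoherent := hM.1
    obtain ⟨m₀, hm₀⟩ := exists_epi_free_of_isAmple L hL M hM.2
    obtain ⟨K, q, hq⟩ := hm₀ (max m₀ m₁) (le_max_left _ _)
    haveI := hqcL (max m₀ m₁)
    haveI := hqcL' (max m₀ m₁)
    have hinv := isInvertible_tensorPow hL' (max m₀ m₁)
    obtain ⟨p, hp⟩ := exists_epi_sigma_of_inverse M (CohB1.tensorPow L (max m₀ m₁))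
      (CohB1.tensorPow L' (max m₀ m₁)) hinv (εn (max m₀ m₁)) q hq
    have hEqc : (∐ fun _ : Fin K => CohB1.tensorPow L' (max m₀ m₁)).IsQuasicoherent :=
      qc_sigma_fin _ K
    have hEft : (∐ fun _ : Fin K => CohB1.tensorPow L' (max m₀ m₁)).IsFiniteType :=
      isFiniteType_sigma_fin _ (isFiniteType_of_isInvertible _ hinv) K
    have hKqc : (kernel p).IsQuasicoherent := qc_kernel p hEqc hM.1
    refine ⟨ShortComplex.mk (kernel.ι p) p (kernel.condition p), ?_, ⟨Iso.refl _⟩,
      ⟨hKqc, isFiniteType_of_mono (kernel.ι p) hKqc hEqc hEft⟩, fun i hi => ?_⟩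
    · exact { exact := ShortComplex.exact_of_f_is_kernel _ (kernelIsKernel p)
              mono_f := inferInstanceAs (Mono (kernel.ι p))
              epi_g := hp }
    · exact Groth.Agent.LD.PN.subsingleton_HH_sigma _ K i
        (h (max m₀ m₁) (le_max_right _ _) i hi)
  · intro M hM i hi
    exact hd M hM.1 i hi.le

end Groth.Agent.LD.SC
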