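import Mathlib.Algebra.Homology.DerivedCategory.Ext.ExactSequences
import Mathlib.Algebra.Homology.DerivedCategory.Ext.EnoughInjectives
import Mathlib.CategoryTheory.Preadditive.Injective.Basic

/-! # `Ext¹(Z, ∏ Fᵢ) → ∏ Ext¹(Z, Fᵢ)` is injective. -/

universe w v u
open CategoryTheory Limits Abelian

namespace Groth.Agent.LD.SC

variable {C : Type u} [Category.{v} C] [Abelian C] [HasExt.{w} C] [EnoughInjectives C]

/-- a class in `Ext¹(Z, ∏ Fᵢ)` all of whose projections vanish is zero. -/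
theorem ext_one_pi_eq_zero {I : Type*} (F : I → C) [HasProduct F]
    [HasProduct (fun i => Injective.under (F i))]
    [HasProduct (fun i => cokernel (Injective.ι (F i)))] (Z : C)
    (ξ : Ext Z (∏ᶜ F) 1) (h : ∀ i, ξ.comp (Ext.mk₀ (Pi.π F i)) (add_zero 1) = 0) : ξ = 0 := by
  -- the short exact sequences `0 → Fᵢ → Iᵢ → Qᵢ → 0`
  let Si : I → ShortComplex C := fun i =>
    ShortComplex.mk _ _ (cokernel.condition (Injective.ι (F i)))
  have hSi : ∀ i, (Si i).ShortExact := fun i =>
    { exact := ShortComplex.exact_of_g_is_cokernel _ (cokernelIsCokernel (Si i).f) }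
  -- the product embedding
  let f : ∏ᶜ F ⟶ ∏ᶜ (fun i => Injective.under (F i)) := Limits.Pi.map (fun i => Injective.ι (F i))
  let g' : ∏ᶜ (fun i => Injective.under (F i)) ⟶ ∏ᶜ (fun i => cokernel (Injective.ι (F i))) :=
    Limits.Pi.map (fun i => cokernel.π (Injective.ι (F i)))
  have hfg' : f ≫ g' = 0 := by
    apply Pi.hom_ext
    intro i
    simp [f, g']
  -- `f` is a kernel of `g'`
  have hker : IsLimit (KernelFork.ofι f hfg') := by
    refine KernelFork.IsLimit.ofι' _ _ (fun {T} t ht => ?_)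
    have hti : ∀ i, (t ≫ Pi.π _ i) ≫ (Si i).g = 0 := by
      intro i
      have := congrArg (fun φ => φ ≫ Pi.π _ i) ht
      simpa [g'] using this
    have hSi' : ∀ i, IsLimit (KernelFork.ofι (Si i).f (Si i).zero) := fun i => (hSi i).fIsKernel
    refine ⟨Pi.lift (fun i => (hSi' i).lift (KernelFork.ofι _ (hti i))), ?_⟩
    apply Pi.hom_ext
    intro i
    have h1 := (hSi' i).fac (KernelFork.ofι _ (hti i)) WalkingParallelPair.zero
    simp only [f, Category.assoc, Pi.map_π, Pi.lift_π_assoc]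
    exact h1
  haveI : Mono f := mono_of_isLimit_fork hker
  let S' : ShortComplex C := ShortComplex.mk f g' hfg'
  have hS' : S'.Exact := ShortComplex.exact_of_f_is_kernel _ hker
  haveI : Mono (cokernel.desc S'.f S'.g S'.zero) := hS'.mono_cokernelDesc
  let S : ShortComplex C := ShortComplex.mk f (cokernel.π f) (cokernel.condition f)
  have hS : S.ShortExact :=
    { exact := ShortComplex.exact_of_g_is_cokernel _ (cokernelIsCokernel S.f) }
  -- the morphisms of short exact sequences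
  let ρ : ∀ i, cokernel f ⟶ cokernel (Injective.ι (F i)) := fun i =>
    cokernel.desc f g' hfg' ≫ Pi.π _ i
  let φ : ∀ i, S ⟶ Si i := fun i =>
    { τ₁ := Pi.π F i
      τ₂ := Pi.π _ i
      τ₃ := ρ i
      comm₁₂ := by simp [S, Si, f]
      comm₂₃ := by simp [S, Si, ρ, g'] }
  -- write `ξ` as a connecting class
  obtain ⟨x₃, hx₃⟩ := Ext.covariant_sequence_exact₁ Z hS ξ (Ext.eq_zero_of_injective _)
    (rfl : 0 + 1 = 1)
  obtain ⟨q, rfl⟩ := Ext.addEquiv₀.symm.surjective x₃
  change (Ext.mk₀ q).comp hS.extClass _ = ξ at hx₃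
  -- lift the components
  have hlift : ∀ i, ∃ s : Z ⟶ Injective.under (F i), s ≫ (Si i).g = q ≫ ρ i := by
    intro i
    have h1 : (Ext.mk₀ (q ≫ ρ i)).comp (hSi i).extClass (zero_add 1) = 0 := by
      rw [← Ext.mk₀_comp_mk₀, Ext.comp_assoc_of_second_deg_zero]
      have := ShortComplex.ShortExact.extClass_naturality hS (hSi i) (φ i)
      change hS.extClass.comp (Ext.mk₀ (Pi.π F i)) _ = (Ext.mk₀ (ρ i)).comp _ _ at this
      rw [← this, ← Ext.comp_assoc_of_third_deg_zero, hx₃]
      exact h i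
    obtain ⟨y, hy⟩ := Ext.covariant_sequence_exact₃ Z (hSi i) (Ext.mk₀ (q ≫ ρ i)) rfl h1
    obtain ⟨s, rfl⟩ := Ext.addEquiv₀.symm.surjective y
    refine ⟨s, ?_⟩
    change (Ext.mk₀ s).comp (Ext.mk₀ (Si i).g) _ = _ at hy
    rw [Ext.mk₀_comp_mk₀] at hy
    exact (Ext.mk₀_bijective _ _).1 hy
  choose s hs using hlift
  have hq : Pi.lift s ≫ cokernel.π f = q := by
    rw [← cancel_mono (cokernel.desc S'.f S'.g S'.zero)]
    apply Pi.hom_ext
    intro i
    have := hs i
    simp only [Category.assoc, cokernel.π_desc_assoc, S', g', Pi.map_π, Pi.lift_π_assoc]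
    exact this
  rw [← hx₃, ← hq, ← Ext.mk₀_comp_mk₀, Ext.comp_assoc_of_second_deg_zero]
  have := hS.comp_extClass
  change (Ext.mk₀ (cokernel.π f)).comp hS.extClass _ = 0 at this
  rw [this, Ext.comp_zero]

end Groth.Agent.LD.SC
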