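import Groth.Agent.Lib.Lead.SC.ClosedEmb
import Groth.Agent.Lib.Lead.SC.Global
import Groth.Agent.Lib.Lead.CohLES.ExtCmp

/-! # The natural comparison `H^p(X, F) → H^p(Y, f_* F)` for a closed embedding `f`. -/

universe u
open CategoryTheory Limits Opposite Abelian TopologicalSpace

namespace Groth.Agent.LD.SC

variable {X Y : TopCat.{u}} (f : X ⟶ Y)

/-- the canonical map `ℤ_Y ⟶ f_* ℤ_X`. -/
noncomputable def constPush :
    constZ (Opens.grothendieckTopology Y) ⟶
      (pushAb f).obj (constZ (Opens.grothendieckTopology X)) :=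
  (constEquiv (T := (⊤ : Opens Y)) isTerminalTop
    ((pushAb f).obj (constZ (Opens.grothendieckTopology X)))).symm
    (constEquiv (T := (⊤ : Opens X)) isTerminalTop (constZ (Opens.grothendieckTopology X)) (𝟙 _))

variable [HasExt.{u} (Sheaf (Opens.grothendieckTopology X) AddCommGrpCat.{u})]
  [HasExt.{u} (Sheaf (Opens.grothendieckTopology Y) AddCommGrpCat.{u})]

lemma constEquiv_constPush_comp (G : Sheaf (Opens.grothendieckTopology X) AddCommGrpCat.{u})
    (φ : constZ (Opens.grothendieckTopology X) ⟶ G) :
    constEquiv (T := (⊤ : Opens Y)) isTerminalTop ((pushAb f).obj G)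
      (constPush f ≫ (pushAb f).map φ) =
      constEquiv (T := (⊤ : Opens X)) isTerminalTop G φ := by
  rw [constEquiv_comp, constPush, Equiv.apply_symm_apply]
  have h := constEquiv_comp (T := (⊤ : Opens X)) isTerminalTop
    (𝟙 (constZ (Opens.grothendieckTopology X))) φ
  rw [Category.id_comp] at h
  exact h.symm

lemma bijective_constPush_comp (G : Sheaf (Opens.grothendieckTopology X) AddCommGrpCat.{u}) :
    Function.Bijective
      (fun φ : constZ (Opens.grothendieckTopology X) ⟶ G => constPush f ≫ (pushAb f).map φ) := by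
  have h : (fun φ : constZ (Opens.grothendieckTopology X) ⟶ G =>
      constPush f ≫ (pushAb f).map φ) =
      (constEquiv (T := (⊤ : Opens Y)) isTerminalTop ((pushAb f).obj G)).symm ∘
        (constEquiv (T := (⊤ : Opens X)) isTerminalTop G) := by
    funext φ
    rw [Function.comp_apply, Equiv.eq_symm_apply]
    exact constEquiv_constPush_comp f G φ
  rw [h]
  exact (Equiv.bijective _).comp (Equiv.bijective _)

include f in
lemma preservesFiniteColimits_push_of_isClosedEmbedding (hf : Topology.IsClosedEmbedding f) :
    PreservesFiniteColimits (pushAb f) := by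
  haveI := preservesEpi_push_of_isClosedEmbedding f hf
  haveI : (pushAb f).PreservesHomology :=
    Functor.preservesHomology_of_preservesEpis_and_kernels (pushAb f)
  exact Functor.preservesFiniteColimits_of_preservesHomology (pushAb f)

variable [EnoughInjectives (Sheaf (Opens.grothendieckTopology X) AddCommGrpCat.{u})]
  [EnoughInjectives (Sheaf (Opens.grothendieckTopology Y) AddCommGrpCat.{u})]

/-- the comparison map `H^n(X, G) → H^n(Y, f_* G)`. -/
noncomputable def Hcmp (hf : Topology.IsClosedEmbedding f)
    (G : Sheaf (Opens.grothendieckTopology X) AddCommGrpCat.{u}) (n : ℕ) :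
    Sheaf.H G n →+ Sheaf.H ((pushAb f).obj G) n :=
  haveI := preservesFiniteColimits_push_of_isClosedEmbedding f hf
  CL.extCmp (pushAb f) (constPush f) G n

/-- naturality. -/
lemma Hcmp_map (hf : Topology.IsClosedEmbedding f)
    {G G' : Sheaf (Opens.grothendieckTopology X) AddCommGrpCat.{u}} (φ : G ⟶ G') (n : ℕ)
    (x : Sheaf.H G n) :
    Hcmp f hf G' n (Sheaf.H.map φ n x) = Sheaf.H.map ((pushAb f).map φ) n (Hcmp f hf G n x) := by
  haveI := preservesFiniteColimits_push_of_isClosedEmbedding f hf
  exact CL.extCmp_comp_mk₀ (pushAb f) (constPush f) φ n x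

/-- **`H^n(X, G) ≃ H^n(Y, f_* G)` for a closed embedding, via the natural map.** -/
theorem Hcmp_bijective (hf : Topology.IsClosedEmbedding f)
    (G : Sheaf (Opens.grothendieckTopology X) AddCommGrpCat.{u}) (n : ℕ) :
    Function.Bijective (Hcmp f hf G n) := by
  haveI := preservesFiniteColimits_push_of_isClosedEmbedding f hf
  refine CL.extCmp_bijective (pushAb f) (constPush f) (bijective_constPush_comp f) ?_ n G
  intro I _ m
  haveI : TopCat.Sheaf.IsFlasque I := isFlasque_of_injective I
  haveI : TopCat.Sheaf.IsFlasque ((pushAb f).obj I) := inferInstance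
  exact subsingleton_H_of_subsingleton_ext (T := (⊤ : Opens Y)) isTerminalTop _ _
    (subsingleton_ext_of_isFlasque m ((pushAb f).obj I) ⊤)

end Groth.Agent.LD.SC
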