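import Groth.Agent.Lib.Lead.SC.SerreCrit
import Groth.Agent.Lib.Lead.QC.AmpleIso

/-! # Serre's criterion, global-sections form. -/

universe u
open CategoryTheory Limits Opposite Abelian TopologicalSpace AlgebraicGeometry ZeroObject

namespace Groth.Agent.LD.SC

variable {X : Scheme.{u}}

lemma qc_piObj (n : ℕ) : (∏ᶜ (fun _ : Fin n => QC.unitMod X)).IsQuasicoherent :=
  QC.qc_limit (Discrete.functor (fun _ : Fin n => QC.unitMod X))
    (fun _ => (inferInstance : (QC.unitMod X).IsQuasicoherent))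

/-- `(a_k) ↦ ∑ a_k f_k` on the product. -/
noncomputable def phiPi {n : ℕ} (f : Fin n → Γ(X, ⊤)) :
    (∏ᶜ (fun _ : Fin n => QC.unitMod X)) ⟶ QC.unitMod X :=
  ∑ k, Pi.π (fun _ : Fin n => QC.unitMod X) k ≫ QC.homOfSection (QC.unitMod X) (f k)

lemma phiPi_app_top_mem_span {n : ℕ} (f : Fin n → Γ(X, ⊤))
    (t : Γ(∏ᶜ (fun _ : Fin n => QC.unitMod X), ⊤)) :
    (show Γ(X, ⊤) from (phiPi f).app ⊤ t) ∈ Ideal.span (Set.range f) := by
  have h1 : (phiPi f).app ⊤ t = ∑ k, (Pi.π (fun _ : Fin n => QC.unitMod X) k ≫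
      QC.homOfSection (QC.unitMod X) (f k)).app ⊤ t := QC.sum_app _ ⊤ t
  have h2 : (show Γ(X, ⊤) from (phiPi f).app ⊤ t) =
      ∑ k, (show Γ(X, ⊤) from (Pi.π (fun _ : Fin n => QC.unitMod X) k).app ⊤ t) * f k := by
    refine h1.trans ?_
    refine Finset.sum_congr rfl (fun k _ => ?_)
    have h3 := mulHom_app (f k) ⊤ ((Pi.π (fun _ : Fin n => QC.unitMod X) k).app ⊤ t)
    refine h3.trans ?_
    congr 1
    have : (homOfLE (le_top : (⊤ : X.Opens) ≤ ⊤)).op = 𝟙 (op ⊤) := rfl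
    rw [this, X.presheaf.map_id]; rfl
  rw [h2]
  refine Ideal.sum_mem _ (fun k _ => ?_)
  exact Ideal.mul_mem_left _ _ (Ideal.subset_span ⟨k, rfl⟩)

theorem epi_phiPi {n : ℕ} (f : Fin n → Γ(X, ⊤)) (hcov : ∀ x : X, ∃ k, x ∈ X.basicOpen (f k)) :
    Epi (phiPi f) := by
  classical
  apply QC.epi_of_local_lift
  intro W s x hxW
  obtain ⟨k₀, hxf⟩ := hcov x
  let W' : X.Opens := W ⊓ X.basicOpen (f k₀)
  have hu : IsUnit (X.presheaf.map (homOfLE (le_top : W' ≤ ⊤)).op (f k₀)) :=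
    QC.isUnit_res_of_le_basicOpen (f k₀) le_top inf_le_right
  obtain ⟨u, hu'⟩ := hu
  let c : Γ(X, W') := X.presheaf.map (homOfLE (inf_le_left : W' ≤ W)).op s * ↑u⁻¹
  let ψ : QC.unitMod X ⟶ ∏ᶜ (fun _ : Fin n => QC.unitMod X) :=
    Pi.lift (fun k => if k = k₀ then 𝟙 _ else 0)
  refine ⟨W', inf_le_left, ⟨hxW, hxf⟩, ψ.app W' c, ?_⟩
  have h1 : ψ ≫ phiPi f = QC.homOfSection (QC.unitMod X) (f k₀) := by
    rw [phiPi, Preadditive.comp_sum]
    rw [Finset.sum_eq_single k₀]
    · rw [← Category.assoc, Pi.lift_π, if_pos rfl, Category.id_comp]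
    · intro k _ hk
      rw [← Category.assoc, Pi.lift_π, if_neg hk, zero_comp]
    · intro hk; exact absurd (Finset.mem_univ k₀) hk
  have h2 : (phiPi f).app W' (ψ.app W' c) = (QC.homOfSection (QC.unitMod X) (f k₀)).app W' c := by
    rw [← h1]; rfl
  rw [h2, mulHom_app, ← hu']
  change X.presheaf.map (homOfLE (inf_le_left : W' ≤ W)).op s * ↑u⁻¹ * ↑u = _
  rw [mul_assoc, Units.inv_mul, mul_one]
  rfl

/-- **Serre's criterion**, in terms of exactness of global sections. -/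
theorem isAffine_of_sections_surjective [CompactSpace X]
    (h : ∀ (S : ShortComplex X.Modules) (n : ℕ)
      (j : S.X₁ ⟶ ∏ᶜ (fun _ : Fin n => QC.unitMod X)),
      S.ShortExact → Mono j → S.X₁.IsQuasicoherent → S.X₂.IsQuasicoherent →
        S.X₃.IsQuasicoherent → Function.Surjective (S.g.app ⊤)) : IsAffine X := by
  classical
  apply QC.isAffine_of_core
  · intro I i hi hI
    haveI := hi
    let S : ShortComplex X.Modules := ShortComplex.mk i (cokernel.π i) (cokernel.condition i)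
    have hS : S.ShortExact :=
      { exact := ShortComplex.exact_of_g_is_cokernel S (cokernelIsCokernel _)
        mono_f := hi
        epi_g := inferInstanceAs (Epi (cokernel.π i)) }
    let j : I ⟶ ∏ᶜ (fun _ : Fin 1 => QC.unitMod X) := Pi.lift (fun _ => i)
    have hj : Mono j := by
      have h1 : j ≫ Pi.π (fun _ : Fin 1 => QC.unitMod X) 0 = i := Pi.lift_π _ _
      haveI : Mono (j ≫ Pi.π (fun _ : Fin 1 => QC.unitMod X) 0) := by rw [h1]; exact hi
      exact mono_of_mono j (Pi.π (fun _ : Fin 1 => QC.unitMod X) 0)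
    exact h S 1 j hS hj hI inferInstance (QC.qc_cokernel i hI inferInstance)
  · intro s hs
    let n := s.card
    let e : Fin n ≃ s := s.equivFin.symm
    let f : Fin n → Γ(X, ⊤) := fun k => (e k : Γ(X, ⊤))
    have hcov : ∀ x : X, ∃ k, x ∈ X.basicOpen (f k) := by
      intro x
      obtain ⟨g, hg, hxg⟩ := hs x
      refine ⟨e.symm ⟨g, hg⟩, ?_⟩
      change x ∈ X.basicOpen ((e (e.symm ⟨g, hg⟩) : s) : Γ(X, ⊤))
      rw [e.apply_symm_apply]
      exact hxg
    have hepi := epi_phiPi f hcov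
    have hq : (∏ᶜ (fun _ : Fin n => QC.unitMod X)).IsQuasicoherent := qc_piObj n
    let S : ShortComplex X.Modules :=
      ShortComplex.mk (kernel.ι (phiPi f)) (phiPi f) (kernel.condition _)
    have hS : S.ShortExact :=
      { exact := ShortComplex.exact_of_f_is_kernel S (kernelIsKernel _)
        mono_f := inferInstanceAs (Mono (kernel.ι (phiPi f)))
        epi_g := hepi }
    obtain ⟨t, ht⟩ := h S n (kernel.ι (phiPi f)) hS inferInstance
      (QC.qc_kernel _ hq inferInstance) hq inferInstance (1 : Γ(X, ⊤))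
    rw [Ideal.eq_top_iff_one]
    have h1 := phiPi_app_top_mem_span f t
    have ht' : (show Γ(X, ⊤) from (phiPi f).app ⊤ t) = (1 : Γ(X, ⊤)) := ht
    rw [ht'] at h1
    have hset : Set.range f = (s : Set Γ(X, ⊤)) := by
      ext g
      constructor
      · rintro ⟨k, rfl⟩
        exact (e k).2
      · intro hg
        exact ⟨e.symm ⟨g, hg⟩, by change ((e (e.symm ⟨g, hg⟩) : s) : Γ(X, ⊤)) = g; rw [e.apply_symm_apply]⟩
    rw [hset] at h1
    exact h1

end Groth.Agent.LD.SC
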