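import Groth.Agent.Lib.Lead.QC.SubSup
import Groth.Agent.Lib.Lead.QC.SerreCore
import Groth.Agent.Lib.Lead.QC.Extend

/-! # Serre's criterion with ideals of finite type: reduction of the surjectivity of
`Γ(O) → Γ(O/I)` to ideals of finite type. -/

universe u
open CategoryTheory Limits AlgebraicGeometry TopologicalSpace Opposite

namespace Groth.Agent.LD.SC
open QC
variable {X : Scheme.{u}}

/-- gluing a compatible family of sections. -/
lemma glue_family (M : X.Modules) {ι : Type*} (U : ι → X.Opens) (sf : ∀ i, Γ(M, U i))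
    (h : ∀ i j, M.presheaf.map (homOfLE (inf_le_left : U i ⊓ U j ≤ U i)).op (sf i) =
      M.presheaf.map (homOfLE (inf_le_right : U i ⊓ U j ≤ U j)).op (sf j))
    (V : X.Opens) (hle : ∀ i, U i ≤ V) (hcov : V ≤ iSup U) :
    ∃ z : Γ(M, V), ∀ i, M.presheaf.map (homOfLE (hle i)).op z = sf i := by
  have hcompat : TopCat.Presheaf.IsCompatible M.presheaf U sf := fun i j => h i j
  obtain ⟨z, hz, -⟩ := TopCat.Sheaf.existsUnique_gluing' ⟨_, M.isSheaf⟩ U V
    (fun i => homOfLE (hle i)) hcov sf hcompat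
  exact ⟨z, hz⟩

/-- **reduction to ideals of finite type**: on a qcqs scheme, if `Γ(O) → Γ(O/I)` is surjective
for all quasi-coherent ideals of finite type, then it is surjective for all quasi-coherent
ideals. -/
theorem surjective_cokernel_of_finiteType [CompactSpace X] [QuasiSeparatedSpace X]
    (h : ∀ (I : X.Modules) (i : I ⟶ unitMod X), Mono i → I.IsQuasicoherent → I.IsFiniteType →
      Function.Surjective ((cokernel.π i).app ⊤))
    (I : X.Modules) (i : I ⟶ unitMod X) [Mono i] (hI : I.IsQuasicoherent) :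
    Function.Surjective ((cokernel.π i).app ⊤) := by
  classical
  intro σ
  have hQ : (cokernel i).IsQuasicoherent := qc_cokernel i hI inferInstance
  -- a finite affine cover
  obtain ⟨𝒰, h𝒰fin, e𝒰⟩ := isCompact_and_isOpen_iff_finite_and_eq_biUnion_affineOpens.mp
    ⟨(isCompact_univ : IsCompact (Set.univ : Set X)), isOpen_univ⟩
  -- local lifts of `σ`
  have hlift : ∀ U : X.affineOpens, ∃ s : Γ(unitMod X, U.1),
      (cokernel.π i).app U.1 s = (cokernel i).presheaf.map (homOfLE (le_top : U.1 ≤ ⊤)).op σ :=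
    fun U => epi_app_affine (inferInstance : (unitMod X).IsQuasicoherent) hQ (cokernel.π i) U.2 _
  choose sU hsU using hlift
  -- finite affine covers of the pairwise intersections
  have hpair : ∀ p : X.affineOpens × X.affineOpens, ∃ 𝒲 : Set X.affineOpens, 𝒲.Finite ∧
      ((p.1.1 ⊓ p.2.1 : X.Opens) : Set X) = ⋃ W ∈ 𝒲, ((W : X.Opens) : Set X) := fun p =>
    isCompact_and_isOpen_iff_finite_and_eq_biUnion_affineOpens.mp
      ⟨QuasiSeparatedSpace.inter_isCompact _ _ p.1.1.2 p.1.2.isCompact p.2.1.2 p.2.2.isCompact,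
        (p.1.1 ⊓ p.2.1).2⟩
  choose 𝒲 h𝒲fin e𝒲 using hpair
  -- the differences lie in the ideal
  have key : ∀ a : X.affineOpens × X.affineOpens × X.affineOpens,
      ∃ b : Γ(I, a.2.2.1), ∀ hW : a.2.2.1 ≤ a.1.1 ⊓ a.2.1.1,
        i.app a.2.2.1 b = (unitMod X).presheaf.map (homOfLE (hW.trans inf_le_left)).op (sU a.1) -
          (unitMod X).presheaf.map (homOfLE (hW.trans inf_le_right)).op (sU a.2.1) := by
    rintro ⟨U, V, W⟩
    by_cases hW : W.1 ≤ U.1 ⊓ V.1
    · have h0 : (cokernel.π i).app W.1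
          ((unitMod X).presheaf.map (homOfLE (hW.trans inf_le_left)).op (sU U) -
            (unitMod X).presheaf.map (homOfLE (hW.trans inf_le_right)).op (sU V)) = 0 := by
        have e1 := app_res (cokernel.π i) (hW.trans inf_le_left) (sU U)
        have e2 := app_res (cokernel.π i) (hW.trans inf_le_right) (sU V)
        rw [map_sub ((cokernel.π i).app W.1).hom, e1, e2, hsU U, hsU V, res_res, res_res,
          sub_self]
      obtain ⟨b, hb⟩ := (mem_range_mono_iff i W.1 _).mpr h0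
      exact ⟨b, fun _ => hb⟩
    · exact ⟨0, fun h' => absurd h' hW⟩
  choose t ht using key
  let s : Finset (X.affineOpens × X.affineOpens × X.affineOpens) :=
    (h𝒰fin.toFinset ×ˢ h𝒰fin.toFinset).biUnion
      (fun p => (h𝒲fin p).toFinset.image (fun W => (p.1, p.2, W)))
  obtain ⟨F, u, hu, hFq, hFf, hFs⟩ := exists_sub_finiteType_of_sections I s (fun a => a.2.2) t
  haveI : Mono (u ≫ i) := mono_comp _ _
  let i' : F ⟶ unitMod X := u ≫ i
  let π' := cokernel.π i'
  let q : cokernel i' ⟶ cokernel i :=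
    cokernel.desc i' (cokernel.π i) (by rw [Category.assoc, cokernel.condition, comp_zero])
  have hq : π' ≫ q = cokernel.π i := cokernel.π_desc _ _ _
  -- the local sections of `O/F`
  let idx := {U : X.affineOpens // U ∈ 𝒰}
  let Uf : idx → X.Opens := fun U => U.1.1
  let sf : ∀ U : idx, Γ(cokernel i', Uf U) := fun U => π'.app U.1.1 (sU U.1)
  have hcompat : ∀ U V : idx,
      (cokernel i').presheaf.map (homOfLE (inf_le_left : Uf U ⊓ Uf V ≤ Uf U)).op (sf U) =
      (cokernel i').presheaf.map (homOfLE (inf_le_right : Uf U ⊓ Uf V ≤ Uf V)).op (sf V) := by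
    intro U V
    apply section_ext_of_cover (cokernel i')
      (fun W : {W : X.affineOpens // W ∈ 𝒲 (U.1, V.1)} => W.1.1)
      (fun W => by
        intro x hx
        have : x ∈ ⋃ W' ∈ 𝒲 (U.1, V.1), ((W' : X.Opens) : Set X) :=
          Set.mem_iUnion₂.mpr ⟨W.1, W.2, hx⟩
        rw [← e𝒲 (U.1, V.1)] at this
        exact this)
    · intro x hx
      have : x ∈ ⋃ W' ∈ 𝒲 (U.1, V.1), ((W' : X.Opens) : Set X) := by
        rw [← e𝒲 (U.1, V.1)]; exact hx
      obtain ⟨W, hW, hxW⟩ := Set.mem_iUnion₂.mp this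
      exact Opens.mem_iSup.mpr ⟨⟨W, hW⟩, hxW⟩
    · rintro ⟨W, hW⟩
      have hWle : W.1 ≤ U.1.1 ⊓ V.1.1 := by
        intro x hx
        have : x ∈ ⋃ W' ∈ 𝒲 (U.1, V.1), ((W' : X.Opens) : Set X) :=
          Set.mem_iUnion₂.mpr ⟨W, hW, hx⟩
        rw [← e𝒲 (U.1, V.1)] at this
        exact this
      rw [res_res, res_res]
      have hmem : (U.1, V.1, W) ∈ s := by
        refine Finset.mem_biUnion.mpr ⟨(U.1, V.1), ?_, ?_⟩
        · exact Finset.mem_product.mpr
            ⟨h𝒰fin.mem_toFinset.mpr U.2, h𝒰fin.mem_toFinset.mpr V.2⟩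
        · exact Finset.mem_image.mpr ⟨W, (h𝒲fin (U.1, V.1)).mem_toFinset.mpr hW, rfl⟩
      obtain ⟨g, hg⟩ := hFs (U.1, V.1, W) hmem
      have hd := ht (U.1, V.1, W) hWle
      have e1 := app_res π' (hWle.trans inf_le_left) (sU U.1)
      have e2 := app_res π' (hWle.trans inf_le_right) (sU V.1)
      have h0 : π'.app W.1 ((unitMod X).presheaf.map (homOfLE (hWle.trans inf_le_left)).op (sU U.1) -
          (unitMod X).presheaf.map (homOfLE (hWle.trans inf_le_right)).op (sU V.1)) = 0 := by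
        rw [← hd, ← hg]
        have h1 : (i' ≫ π').app W.1 g = 0 := by
          rw [cokernel.condition]; rfl
        exact h1
      rw [map_sub (π'.app W.1).hom, sub_eq_zero, e1, e2] at h0
      exact h0
  obtain ⟨τ, hτ⟩ := glue_family (cokernel i') Uf sf hcompat ⊤ (fun _ => le_top) (by
    intro x _
    have : x ∈ ⋃ U ∈ 𝒰, ((U : X.Opens) : Set X) := by rw [← e𝒰]; trivial
    obtain ⟨U, hU, hxU⟩ := Set.mem_iUnion₂.mp this
    exact Opens.mem_iSup.mpr ⟨⟨U, hU⟩, hxU⟩)
  obtain ⟨f, hf⟩ := h F i' inferInstance hFq hFf τ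
  refine ⟨f, ?_⟩
  apply section_ext_of_cover (cokernel i) Uf (fun _ => le_top)
  · intro x _
    have : x ∈ ⋃ U ∈ 𝒰, ((U : X.Opens) : Set X) := by rw [← e𝒰]; trivial
    obtain ⟨U, hU, hxU⟩ := Set.mem_iUnion₂.mp this
    exact Opens.mem_iSup.mpr ⟨⟨U, hU⟩, hxU⟩
  · intro U
    rw [← hsU U.1]
    have h1 : (cokernel.π i).app ⊤ f = q.app ⊤ (π'.app ⊤ f) := by
      rw [← hq]; rfl
    have hf' : π'.app ⊤ f = τ := hf
    rw [h1, hf', ← app_res q (le_top : Uf U ≤ ⊤) τ, hτ U]
    change q.app U.1.1 (π'.app U.1.1 (sU U.1)) = _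
    have h2 : (cokernel.π i).app U.1.1 (sU U.1) = q.app U.1.1 (π'.app U.1.1 (sU U.1)) := by
      rw [← hq]; rfl
    rw [h2]

end Groth.Agent.LD.SC
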