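import Groth.Agent.Lib.Lead.SC.SerreFT
import Groth.Agent.Lib.Lead.QC.EpiLocal

/-! # Serre's criterion: the generation step from surjectivity of `Γ(O) → Γ(O/I)`. -/

universe u
open CategoryTheory Limits AlgebraicGeometry TopologicalSpace Opposite

namespace Groth.Agent.LD.SC
open QC
variable {X : Scheme.{u}}

variable (hA : ∀ (I : X.Modules) (i : I ⟶ unitMod X), Mono i → I.IsQuasicoherent →
  Function.Surjective ((cokernel.π i).app ⊤))

/-- an epimorphism induces a surjection on global sections as soon as the quotient by its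
kernel does. -/
lemma surjective_app_top_of_epi {Q : X.Modules} (q : unitMod X ⟶ Q) [Epi q]
    (h : Function.Surjective ((cokernel.π (kernel.ι q)).app ⊤)) :
    Function.Surjective (q.app ⊤) := by
  intro y
  let φ := Abelian.factorThruCoimage q
  have hφ : cokernel.π (kernel.ι q) ≫ φ = q := cokernel.π_desc _ _ _
  obtain ⟨a, ha⟩ := h ((inv φ).app ⊤ y)
  refine ⟨a, ?_⟩
  have h1 : q.app ⊤ a = φ.app ⊤ ((cokernel.π (kernel.ι q)).app ⊤ a) :=
    (congrArg (fun ψ : unitMod X ⟶ Q => ψ.app ⊤ a) hφ).symm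
  rw [h1, ha]
  have h2 : (inv φ ≫ φ).app ⊤ y = y := by
    rw [IsIso.inv_hom_id]; rfl
  exact h2

include hA in
/-- the ideal generated by finitely many global functions, with control on its global
sections. -/
theorem exists_ideal_of_finset (S : Finset Γ(X, ⊤)) :
    ∃ (J : X.Modules) (j : J ⟶ unitMod X), Mono j ∧ J.IsQuasicoherent ∧
      (∀ f ∈ S, ∃ t : Γ(J, ⊤), j.app ⊤ t = (f : Γ(unitMod X, ⊤))) ∧
      (∀ t : Γ(J, ⊤), (show Γ(X, ⊤) from j.app ⊤ t) ∈ Ideal.span (S : Set Γ(X, ⊤))) := by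
  classical
  induction S using Finset.induction_on with
  | empty =>
    refine ⟨kernel (𝟙 (unitMod X)), kernel.ι _, inferInstance,
      qc_kernel _ inferInstance inferInstance,
      fun f hf => absurd hf (Finset.notMem_empty f), fun t => ?_⟩
    have h0 : kernel.ι (𝟙 (unitMod X)) = 0 := by
      have := kernel.condition (𝟙 (unitMod X))
      rwa [Category.comp_id] at this
    rw [h0]
    exact Ideal.zero_mem _
  | insert f S hfS ih =>
    obtain ⟨J, j, hj, hJ, hgen, hspan⟩ := ih
    let μ : unitMod X ⟶ unitMod X := homOfSection (unitMod X) (f : Γ(unitMod X, ⊤))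
    let p : J ⊞ unitMod X ⟶ unitMod X := biprod.desc j μ
    have hB : (J ⊞ unitMod X).IsQuasicoherent := qc_biprod J (unitMod X) hJ inferInstance
    have hJ' : (Abelian.image p).IsQuasicoherent :=
      qc_kernel _ inferInstance (qc_cokernel p hB inferInstance)
    let e := Abelian.factorThruImage p
    let j' := Abelian.image.ι p
    have hej : e ≫ j' = p := Abelian.image.fac p
    let m : J ⟶ Abelian.image p := biprod.inl ≫ e
    have hm : m ≫ j' = j := by
      change (biprod.inl ≫ e) ≫ j' = j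
      rw [Category.assoc, hej]; exact biprod.inl_desc _ _
    haveI : Mono m := by
      haveI : Mono (m ≫ j') := by rw [hm]; exact hj
      exact mono_of_mono m j'
    let c := cokernel.π m
    let q : unitMod X ⟶ cokernel m := biprod.inr ≫ e ≫ c
    have hfac : biprod.snd ≫ q = e ≫ c := by
      apply biprod.hom_ext'
      · rw [biprod.inl_snd_assoc, zero_comp]
        change 0 = biprod.inl ≫ e ≫ cokernel.π m
        rw [← Category.assoc]
        exact (cokernel.condition m).symm
      · rw [biprod.inr_snd_assoc]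
    haveI : Epi q := by
      haveI : Epi (e ≫ c) := epi_comp e c
      exact epi_of_epi_fac hfac
    have hK : (kernel q).IsQuasicoherent :=
      qc_kernel q inferInstance (qc_cokernel m hJ hJ')
    have hq : Function.Surjective (q.app ⊤) :=
      surjective_app_top_of_epi q (hA (kernel q) (kernel.ι q) inferInstance hK)
    -- values of `μ`
    have hμ : ∀ a : Γ(X, ⊤), (show Γ(X, ⊤) from μ.app ⊤ a) = a * f := by
      intro a
      have h1 := unitHom_app (unitMod X) μ ⊤ a
      have h2 := homOfSection_app_one (unitMod X) (f : Γ(unitMod X, ⊤)) ⊤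
      rw [res_self] at h2
      change μ.app ⊤ (1 : Γ(X, ⊤)) = f at h2
      rw [h2] at h1
      exact h1
    have hp_inl : ∀ t : Γ(J, ⊤), j'.app ⊤ (m.app ⊤ t) = j.app ⊤ t := by
      intro t
      rw [← hm]; rfl
    have hp_inr : ∀ a : Γ(X, ⊤), j'.app ⊤ (e.app ⊤ ((biprod.inr : unitMod X ⟶ J ⊞ unitMod X).app ⊤ a)) =
        μ.app ⊤ a := by
      intro a
      have h1 : (biprod.inr ≫ e ≫ j' : unitMod X ⟶ unitMod X) = μ := by
        rw [hej]; exact biprod.inr_desc _ _
      rw [← h1]; rfl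
    refine ⟨Abelian.image p, j', inferInstance, hJ', ?_, ?_⟩
    · intro g hg
      rcases Finset.mem_insert.mp hg with rfl | hg
      · refine ⟨e.app ⊤ ((biprod.inr : unitMod X ⟶ J ⊞ unitMod X).app ⊤ (1 : Γ(X, ⊤))), ?_⟩
        rw [hp_inr]
        have := hμ 1
        rw [one_mul] at this
        exact this
      · obtain ⟨t, ht⟩ := hgen g hg
        exact ⟨m.app ⊤ t, by rw [hp_inl, ht]⟩
    · intro t'
      obtain ⟨a, ha⟩ := hq (c.app ⊤ t')
      let t'' := e.app ⊤ ((biprod.inr : unitMod X ⟶ J ⊞ unitMod X).app ⊤ a)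
      have h0 : c.app ⊤ (t' - t'') = 0 := by
        rw [map_sub (c.app ⊤).hom, sub_eq_zero, ← ha]
        rfl
      obtain ⟨t₀, ht₀⟩ := (mem_range_mono_iff m ⊤ _).mpr h0
      have h1 : j'.app ⊤ t' = j'.app ⊤ t'' + j'.app ⊤ (m.app ⊤ t₀) := by
        rw [ht₀, map_sub (j'.app ⊤).hom]
        abel
      have h2 : j'.app ⊤ t'' = μ.app ⊤ a := hp_inr a
      change (show Γ(X, ⊤) from j'.app ⊤ t') ∈ _
      rw [h1, hp_inl, h2]
      change (show Γ(X, ⊤) from μ.app ⊤ a) + (show Γ(X, ⊤) from j.app ⊤ t₀) ∈ _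
      rw [hμ a]
      refine Ideal.add_mem _ ?_ ?_
      · exact Ideal.mul_mem_left _ _ (Ideal.subset_span (Finset.mem_coe.mpr (Finset.mem_insert_self f S)))
      · exact Ideal.span_mono (Finset.coe_subset.mpr (Finset.subset_insert f S)) (hspan t₀)

include hA in
/-- **the generation step of Serre's criterion.** -/
theorem span_eq_top_of_cover' (s : Finset Γ(X, ⊤)) (hs : ∀ x : X, ∃ f ∈ s, x ∈ X.basicOpen f) :
    Ideal.span (s : Set Γ(X, ⊤)) = ⊤ := by
  obtain ⟨J, j, hj, hJ, hgen, hspan⟩ := exists_ideal_of_finset hA s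
  haveI := hj
  haveI : Epi j := by
    apply epi_of_local_lift
    intro U t x hxU
    obtain ⟨f, hf, hxf⟩ := hs x
    obtain ⟨tf, htf⟩ := hgen f hf
    let W : X.Opens := U ⊓ X.basicOpen f
    have hu : IsUnit (X.presheaf.map (homOfLE (le_top : W ≤ ⊤)).op f) :=
      isUnit_res_of_le_basicOpen f le_top inf_le_right
    obtain ⟨u, hu'⟩ := hu
    refine ⟨W, inf_le_left, ⟨hxU, hxf⟩, ?_⟩
    let b : Γ(X, W) := (show Γ(X, W) from (unitMod X).presheaf.map (homOfLE (inf_le_left : W ≤ U)).op t) * ↑u⁻¹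
    refine ⟨b • J.presheaf.map (homOfLE (le_top : W ≤ ⊤)).op tf, ?_⟩
    rw [Scheme.Modules.Hom.app_smul, app_res j (le_top : W ≤ ⊤) tf, htf]
    change b * X.presheaf.map (homOfLE (le_top : W ≤ ⊤)).op f = _
    rw [← hu']
    change (show Γ(X, W) from (unitMod X).presheaf.map (homOfLE (inf_le_left : W ≤ U)).op t) * ↑u⁻¹ * ↑u = _
    rw [mul_assoc, Units.inv_mul, mul_one]
  haveI : IsIso j := isIso_of_mono_of_epi j
  rw [Ideal.eq_top_iff_one]
  have h1 := hspan ((inv j).app ⊤ (1 : Γ(X, ⊤)))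
  have h2 : (inv j ≫ j).app ⊤ (1 : Γ(X, ⊤)) = (1 : Γ(X, ⊤)) := by
    rw [IsIso.inv_hom_id]; rfl
  have h3 : (show Γ(X, ⊤) from j.app ⊤ ((inv j).app ⊤ (1 : Γ(X, ⊤)))) = 1 := h2
  rw [h3] at h1
  exact h1

include hA in
/-- **Serre's criterion from surjectivity of `Γ(O) → Γ(O/I)`** for all quasi-coherent ideals. -/
theorem isAffine_of_surjective_cokernel [CompactSpace X] : IsAffine X :=
  isAffine_of_core hA (fun s hs => span_eq_top_of_cover' hA s hs)

end Groth.Agent.LD.SC
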